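import Groth.Prelude.Def_EtBase
import Groth.Agent.EtFound.Basic
import Groth.Agent.DescLib.EtaleFibre
import Groth.Agent.AlgSpLib.EtLocalInst
import Mathlib.FieldTheory.Galois.Basic
import Mathlib.FieldTheory.Normal.Closure
import Mathlib.FieldTheory.IsSepClosed
import Mathlib.FieldTheory.PrimitiveElement
import Mathlib.AlgebraicGeometry.Morphisms.QuasiFinite
import Mathlib.CategoryTheory.Sites.EpiMono
import Mathlib.CategoryTheory.Sites.IsSheafFor
import Mathlib.FieldTheory.Minpoly.IsConjRoot

/-!
Finite Galois descent of sections of étale sheaves; epimorphisms of étale sheaves over fields are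
surjective on sections up to torsion.
-/

universe u

set_option linter.style.haveILetI false
set_option backward.isDefEq.respectTransparency.types false

open CategoryTheory CategoryTheory.Limits AlgebraicGeometry Opposite

namespace Groth.Agent.DixBrauer.GalCover

variable {X : Scheme.{u}}

/-- Restriction of sections. -/
noncomputable abbrev rs (F : EtCoh.Ab X) {U V : X.Etale} (g : V ⟶ U) :
    EtCoh.sect F U →+ EtCoh.sect F V := (F.obj.map g.op).hom

theorem rs_comp (F : EtCoh.Ab X) {U V W : X.Etale} (g : V ⟶ U) (h : W ⟶ V) (s : EtCoh.sect F U) :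
    rs F h (rs F g s) = rs F (h ≫ g) s :=
  (ConcreteCategory.congr_hom (F.obj.map_comp g.op h.op) s).symm

theorem rs_nat {F G : EtCoh.Ab X} (φ : F ⟶ G) {U V : X.Etale} (g : V ⟶ U) (s : EtCoh.sect F U) :
    rs G g ((φ.hom.app (op U)).hom s) = (φ.hom.app (op V)).hom (rs F g s) :=
  (ConcreteCategory.congr_hom (φ.hom.naturality g.op) s).symm

/-- Equality of sections is local. -/
theorem ext_of_local (F : EtCoh.Ab X) (U : X.Etale) (s t : EtCoh.sect F U)
    (h : ∀ x : U.left, ∃ (V : X.Etale) (g : V ⟶ U) (v : V.left),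
      g.left.base v = x ∧ rs F g s = rs F g t) : s = t := by
  let R : Sieve U :=
    { arrows := fun V g => rs F g s = rs F g t
      downward_closed := fun {Y Z f} hf g => by rw [← rs_comp, ← rs_comp, hf] }
  refine (Presheaf.IsSheaf.isSeparated F.property) U R ?_ s t fun V g hg => hg
  rw [EtFound.mem_topology_iff]
  intro x
  obtain ⟨V, g, v, hv, hg⟩ := h x
  exact ⟨V, g, v, hg, hv⟩

/-- Sections over an object with empty underlying scheme are all equal. -/
theorem subsingleton_sect_of_isEmpty (F : EtCoh.Ab X) (U : X.Etale) [IsEmpty U.left] :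
    Subsingleton (EtCoh.sect F U) :=
  ⟨fun s t => ext_of_local F U s t fun x => isEmptyElim x⟩

theorem isSheafFor (F : EtCoh.Ab X) {U : X.Etale} (R : Presieve U)
    (hR : ∀ x : U.left, ∃ (V : X.Etale) (g : V ⟶ U) (v : V.left), R g ∧ g.left.base v = x) :
    Presieve.IsSheafFor (F.obj ⋙ forget AddCommGrpCat.{u + 1}) R := by
  rw [Presieve.isSheafFor_iff_generate]
  refine ((isSheaf_iff_isSheaf_of_type _ _).1
    ((Presheaf.isSheaf_iff_isSheaf_forget X.smallEtaleTopology F.obj
      (forget AddCommGrpCat.{u + 1})).1 F.2)) _ ?_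
  rw [EtFound.mem_topology_iff]
  intro x
  obtain ⟨V, g, v, hg, hv⟩ := hR x
  exact ⟨V, g, v, Sieve.le_generate _ _ _ hg, hv⟩

/-- Descent along a surjection which is locally a torsor under a set of automorphisms. -/
theorem exists_descent {P V : X.Etale} (π : V ⟶ P) (hπ : Function.Surjective π.left.base)
    {ι : Type*} (σ : ι → (V ⟶ V))
    (hloc : ∀ (W : X.Etale) (a b : W ⟶ V), a ≫ π = b ≫ π → ∀ w : W.left,
      ∃ (W' : X.Etale) (g : W' ⟶ W) (w' : W'.left), g.left.base w' = w ∧
        ∃ i, g ≫ b = g ≫ a ≫ σ i)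
    (F : EtCoh.Ab X) (a : EtCoh.sect F V) (ha : ∀ i, rs F (σ i) a = a) :
    ∃! a₀ : EtCoh.sect F P, rs F π a₀ = a := by
  have h := (Presieve.isSheafFor_singleton.1 (isSheafFor F (Presieve.singleton π) fun x => by
    obtain ⟨v, hv⟩ := hπ x
    exact ⟨V, π, v, Presieve.singleton_self _, hv⟩)) a
  refine h fun {Z} p₁ p₂ hp => ?_
  refine ext_of_local F Z _ _ fun z => ?_
  obtain ⟨W', g, w', hw', i, hi⟩ := hloc Z p₁ p₂ hp z
  refine ⟨W', g, w', hw', ?_⟩
  show rs F g (rs F p₁ a) = rs F g (rs F p₂ a)
  rw [rs_comp, rs_comp, hi, ← rs_comp, ← rs_comp, ← rs_comp, ha]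

/-- Two morphisms into an unramified scheme which agree at a point agree near it. -/
theorem exists_nhd_eq {W T S : Scheme.{u}} (q : T ⟶ S) [FormallyUnramified q] [LocallyOfFiniteType q]
    (a b : W ⟶ T) (hab : a ≫ q = b ≫ q) (w : W)
    (hw : W.fromSpecResidueField w ≫ a = W.fromSpecResidueField w ≫ b) :
    ∃ O : W.Opens, w ∈ O ∧ O.ι ≫ a = O.ι ≫ b := by
  let l : W ⟶ pullback q q := pullback.lift a b hab
  let O : W.Opens := l ⁻¹ᵁ (pullback.diagonal q).opensRange
  have hfac : W.fromSpecResidueField w ≫ l =
      (W.fromSpecResidueField w ≫ a) ≫ pullback.diagonal q := by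
    refine pullback.hom_ext ?_ ?_
    · rw [Category.assoc, pullback.lift_fst, Category.assoc, Category.assoc, pullback.diagonal_fst,
        Category.comp_id]
    · rw [Category.assoc, pullback.lift_snd, Category.assoc, Category.assoc, pullback.diagonal_snd,
        Category.comp_id, ← hw]
  refine ⟨O, ?_, ?_⟩
  · show l.base w ∈ Set.range (pullback.diagonal q).base
    have := congrArg (fun m => m.base (IsLocalRing.closedPoint (W.residueField w))) hfac
    simp only [Scheme.Hom.comp_base, TopCat.comp_app, Scheme.fromSpecResidueField_apply] at this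
    exact ⟨_, this.symm⟩
  · let t := IsOpenImmersion.lift (pullback.diagonal q) (O.ι ≫ l) (by
      rintro _ ⟨x, rfl⟩
      exact x.2)
    have ht : t ≫ pullback.diagonal q = O.ι ≫ l := IsOpenImmersion.lift_fac ..
    have h1 := congrArg (· ≫ pullback.fst q q) ht
    have h2 := congrArg (· ≫ pullback.snd q q) ht
    simp only [Category.assoc, pullback.diagonal_fst, pullback.diagonal_snd, l, pullback.lift_fst,
      pullback.lift_snd, Category.comp_id] at h1 h2
    exact h1.symm.trans h2

section Galois

variable {L : Type u} [Field L] (p : Spec (CommRingCat.of L) ⟶ X) [AlgebraicGeometry.Etale p]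
  (L' : Type u) [Field L'] [Algebra L L'] [Module.Finite L L'] [Algebra.IsSeparable L L']

/-- The étale object of a separable point. -/
noncomputable abbrev pObj : X.Etale := Scheme.Etale.mk p

/-- The morphism of spectra of a field extension. -/
noncomputable abbrev specExt : Spec (CommRingCat.of L') ⟶ Spec (CommRingCat.of L) :=
  Spec.map (CommRingCat.ofHom (algebraMap L L'))

instance etale_specExt : AlgebraicGeometry.Etale (specExt (L := L) L') := by
  rw [HasRingHomProperty.Spec_iff (P := @AlgebraicGeometry.Etale)]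
  haveI : Algebra.FormallyEtale L L' := Algebra.FormallyEtale.of_isSeparable _ _
  exact RingHom.etale_algebraMap.2
    (⟨inferInstance, Algebra.FinitePresentation.of_finiteType.1 inferInstance⟩ : Algebra.Etale L L')

/-- The étale object of a finite separable extension. -/
noncomputable abbrev vObj : X.Etale := Scheme.Etale.mk (specExt (L := L) L' ≫ p)

/-- The projection. -/
noncomputable abbrev proj : vObj p L' ⟶ pObj p :=
  MorphismProperty.Over.homMk (specExt (L := L) L') rfl

/-- The action of the Galois group. -/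
noncomputable abbrev act (σ : L' ≃ₐ[L] L') : vObj p L' ⟶ vObj p L' :=
  MorphismProperty.Over.homMk (Spec.map (CommRingCat.ofHom σ.toAlgHom.toRingHom)) (by
    show Spec.map _ ≫ Spec.map _ ≫ p = Spec.map _ ≫ p
    rw [← Spec.map_comp_assoc]
    congr 2
    ext x
    exact σ.commutes x)

theorem act_proj (σ : L' ≃ₐ[L] L') : act p L' σ ≫ proj p L' = proj p L' := by
  refine MorphismProperty.Over.Hom.ext ?_
  show Spec.map _ ≫ Spec.map _ = Spec.map _
  rw [← Spec.map_comp]
  congr 1
  ext x
  exact σ.commutes x

theorem proj_surjective : Function.Surjective (proj p L').left.base := fun _ =>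
  ⟨IsLocalRing.closedPoint L', Subsingleton.elim (α := Spec (CommRingCat.of L)) _ _⟩

variable [IsGalois L L']

omit [Module.Finite L L'] in
theorem exists_comp_eq {K : Type*} [Field K] [Algebra L K] [FiniteDimensional L L']
    (a b : L' →ₐ[L] K) : ∃ σ : L' ≃ₐ[L] L', b = a.comp σ.toAlgHom := by
  obtain ⟨α, hα⟩ := Field.exists_primitive_element L L'
  have hint : IsIntegral L α := Algebra.IsIntegral.isIntegral α
  have hb : (minpoly L α).map (algebraMap L K) ≠ 0 :=
    (Polynomial.map_ne_zero_iff (algebraMap L K).injective).2 (minpoly.ne_zero hint)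
  have hroot : ((minpoly L α).map (algebraMap L K)).IsRoot (b α) := by
    rw [Polynomial.IsRoot, Polynomial.eval_map_algebraMap, Polynomial.aeval_algHom_apply,
      minpoly.aeval, map_zero]
  have hsplit : ((minpoly L α).map (algebraMap L L')).Splits := IsGalois.splits L α
  have hK : (minpoly L α).map (algebraMap L K) =
      ((minpoly L α).map (algebraMap L L')).map a.toRingHom := by
    rw [Polynomial.map_map]
    exact congrArg (fun φ => (minpoly L α).map φ) a.comp_algebraMap.symm
  have hmem : b α ∈ (((minpoly L α).map (algebraMap L L')).roots).map a := by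
    have := hsplit.roots_map a.toRingHom
    rw [← hK] at this
    exact this ▸ (Polynomial.mem_roots hb).2 hroot
  obtain ⟨β, hβ, hab⟩ := Multiset.mem_map.1 hmem
  have hβ' : IsConjRoot L α β := by
    refine (isConjRoot_iff_aeval_eq_zero hint).2 ?_
    have := (Polynomial.mem_roots'.1 hβ).2
    rwa [Polynomial.IsRoot, Polynomial.eval_map_algebraMap] at this
  obtain ⟨σ, hσ⟩ := isConjRoot_iff_exists_algEquiv.1 hβ'.symm
  refine ⟨σ, ?_⟩
  have hgen : Algebra.adjoin L {α} = ⊤ := by
    rw [← IntermediateField.adjoin_simple_toSubalgebra_of_isAlgebraic hint.isAlgebraic, hα,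
      IntermediateField.top_toSubalgebra]
  refine AlgHom.ext_of_adjoin_eq_top hgen ?_
  intro y hy
  rw [Set.mem_singleton_iff] at hy
  show b y = a (σ y)
  rw [hy, hσ, hab]

theorem locally_torsor (W : X.Etale) (a b : W ⟶ vObj p L') (hab : a ≫ proj p L' = b ≫ proj p L')
    (w : W.left) : ∃ (W' : X.Etale) (g : W' ⟶ W) (w' : W'.left), g.left.base w' = w ∧
      ∃ σ : L' ≃ₐ[L] L', g ≫ b = g ≫ a ≫ act p L' σ := by
  have habl : a.left ≫ specExt (L := L) L' = b.left ≫ specExt (L := L) L' :=
    congrArg (fun m : W ⟶ pObj p => m.left) hab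
  let ι := W.left.fromSpecResidueField w
  let a' : W.left ⟶ Spec (CommRingCat.of L') := a.left
  let b' : W.left ⟶ Spec (CommRingCat.of L') := b.left
  let α : CommRingCat.of L' ⟶ W.left.residueField w := Spec.preimage (ι ≫ a')
  let β : CommRingCat.of L' ⟶ W.left.residueField w := Spec.preimage (ι ≫ b')
  letI : Algebra L (W.left.residueField w) := (α.hom.comp (algebraMap L L')).toAlgebra
  have hβ : β.hom.comp (algebraMap L L') = α.hom.comp (algebraMap L L') := by
    have : CommRingCat.ofHom (algebraMap L L') ≫ β = CommRingCat.ofHom (algebraMap L L') ≫ α := by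
      apply Spec.map_injective
      rw [Spec.map_comp, Spec.map_comp, Spec.map_preimage, Spec.map_preimage, Category.assoc,
        Category.assoc]
      exact congrArg (ι ≫ ·) habl.symm
    exact congrArg CommRingCat.Hom.hom this
  obtain ⟨σ, hσ⟩ := exists_comp_eq L' (K := W.left.residueField w)
    ({ α.hom with commutes' := fun r => rfl } : L' →ₐ[L] W.left.residueField w)
    ({ β.hom with commutes' := fun r => DFunLike.congr_fun hβ r } : L' →ₐ[L] W.left.residueField w)
  have hb : b.left ≫ specExt (L := L) L' = (a ≫ act p L' σ).left ≫ specExt (L := L) L' := by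
    rw [← habl]
    exact (congrArg (fun m : W ⟶ pObj p => m.left)
      (show (a ≫ act p L' σ) ≫ proj p L' = a ≫ proj p L' by rw [Category.assoc, act_proj])).symm
  have hw : ι ≫ b.left = ι ≫ (a ≫ act p L' σ).left := by
    show ι ≫ b' = ι ≫ a' ≫ Spec.map _
    rw [← Spec.map_preimage (ι ≫ b'), ← Category.assoc, ← Spec.map_preimage (ι ≫ a'),
      ← Spec.map_comp]
    refine congrArg Spec.map ?_
    ext r
    exact DFunLike.congr_fun hσ r
  obtain ⟨O, hwO, hO⟩ := exists_nhd_eq (specExt (L := L) L') b.left (a ≫ act p L' σ).left hb w hw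
  haveI : AlgebraicGeometry.Etale W.hom := W.prop
  let W' : X.Etale := Scheme.Etale.mk (O.ι ≫ W.hom)
  exact ⟨W', MorphismProperty.Over.homMk O.ι rfl, ⟨w, hwO⟩, rfl, σ,
    MorphismProperty.Over.Hom.ext hO⟩

/-- Galois invariant sections descend. -/
theorem exists_descent_galois (F : EtCoh.Ab X) (a : EtCoh.sect F (vObj p L'))
    (ha : ∀ σ : L' ≃ₐ[L] L', rs F (act p L' σ) a = a) :
    ∃! a₀ : EtCoh.sect F (pObj p), rs F (proj p L') a₀ = a :=
  exists_descent _ (proj_surjective p L') _ (locally_torsor p L') F a ha

omit [IsGalois L L'] in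
theorem act_comp (σ τ : L' ≃ₐ[L] L') : act p L' σ ≫ act p L' τ = act p L' (σ * τ) := by
  refine MorphismProperty.Over.Hom.ext ?_
  show Spec.map _ ≫ Spec.map _ = Spec.map _
  rw [← Spec.map_comp]
  rfl

/-- The norm of a local lift is a lift of the multiple by the degree. -/
theorem exists_lift_card_nsmul {F G : EtCoh.Ab X} (φ : F ⟶ G) (s : EtCoh.sect G (pObj p))
    (a : EtCoh.sect F (vObj p L')) (ha : (φ.hom.app (op (vObj p L'))).hom a = rs G (proj p L') s) :
    ∃ a₀ : EtCoh.sect F (pObj p),
      (φ.hom.app (op (pObj p))).hom a₀ = Fintype.card (L' ≃ₐ[L] L') • s := by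
  classical
  let N := ∑ σ : L' ≃ₐ[L] L', rs F (act p L' σ) a
  have hN : ∀ τ : L' ≃ₐ[L] L', rs F (act p L' τ) N = N := by
    intro τ
    simp only [N, map_sum, rs_comp, act_comp]
    exact Equiv.sum_comp (Equiv.mulLeft τ) fun σ => rs F (act p L' σ) a
  obtain ⟨a₀, ha₀, -⟩ := exists_descent_galois p L' F N hN
  refine ⟨a₀, (exists_descent_galois p L' G (rs G (proj p L') (Fintype.card (L' ≃ₐ[L] L') • s))
    fun τ => by rw [rs_comp, act_proj]).unique ?_ rfl⟩
  rw [rs_nat, ha₀]
  simp only [N, map_sum, ← rs_nat, ha, rs_comp, act_proj, Finset.sum_const, Finset.card_univ, map_nsmul]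

end Galois

theorem isIso_fromSpecResidueField_spec_field {k : Type u} [Field k]
    (x : Spec (CommRingCat.of k)) :
    IsIso ((Spec (CommRingCat.of k)).fromSpecResidueField x) := by
  haveI : Surjective ((Spec (CommRingCat.of k)).fromSpecResidueField x) :=
    ⟨fun y => ⟨IsLocalRing.closedPoint _, Subsingleton.elim (α := Spec (CommRingCat.of k)) _ _⟩⟩
  haveI : IsClosedImmersion ((Spec (CommRingCat.of k)).fromSpecResidueField x) :=
    .of_isPreimmersion _ (isClosed_discrete _)
  exact isIso_of_isClosedImmersion_of_surjective _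

/-- Points of an étale scheme over a field give étale morphisms. -/
theorem etale_point {k : Type u} [Field k] {W : Scheme.{u}} (q : W ⟶ Spec (CommRingCat.of k))
    [AlgebraicGeometry.Etale q] (w : W) :
    AlgebraicGeometry.Etale (W.fromSpecResidueField w ≫ q) := by
  haveI := DescLib.etale_SpecMap_residueFieldMap q w
  haveI := isIso_fromSpecResidueField_spec_field (q w)
  rw [← Scheme.Hom.SpecMap_residueFieldMap_fromSpecResidueField]
  infer_instance

/-- Epimorphisms are surjective on sections over a separable point, after a finite Galois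
extension. -/
theorem exists_lift_galois {F G : EtCoh.Ab X} (φ : F ⟶ G) [Epi φ] {L : Type u} [Field L]
    (p : Spec (CommRingCat.of L) ⟶ X) [AlgebraicGeometry.Etale p] (s : EtCoh.sect G (pObj p)) :
    ∃ (L' : Type u) (_ : Field L') (_ : Algebra L L') (_ : Module.Finite L L') (_ : IsGalois L L'),
      ∃ a : EtCoh.sect F (vObj p L'), (φ.hom.app (op (vObj p L'))).hom a = rs G (proj p L') s := by
  haveI : LocallySmall.{u + 1} X.Etale := ⟨fun _ _ => inferInstance⟩
  have hloc : Presheaf.IsLocallySurjective X.smallEtaleTopology φ.hom :=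
    (Sheaf.isLocallySurjective_iff_epi' AddCommGrpCat.{u + 1} φ).2 inferInstance
  obtain ⟨W, g, w, ⟨a, ha⟩, -⟩ := (EtFound.mem_topology_iff _).1
    (hloc.imageSieve_mem (U := pObj p) s) (IsLocalRing.closedPoint L)
  let gl : W.left ⟶ Spec (CommRingCat.of L) := g.left
  haveI : AlgebraicGeometry.Etale gl := EtFound.etale_left g
  let K := W.left.residueField w
  let m : Spec K ⟶ Spec (CommRingCat.of L) := W.left.fromSpecResidueField w ≫ gl
  haveI : AlgebraicGeometry.Etale m := etale_point gl w
  let μ : CommRingCat.of L ⟶ K := Spec.preimage m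
  letI : Algebra L K := μ.hom.toAlgebra
  haveI : Algebra.Etale L K := RingHom.etale_algebraMap.1
    ((HasRingHomProperty.Spec_iff (P := @AlgebraicGeometry.Etale)).1 (by
      rw [Spec.map_preimage]; infer_instance : AlgebraicGeometry.Etale (Spec.map μ)))
  haveI : Module.Finite L K := Algebra.FormallyUnramified.finite_of_free _ _
  haveI : Algebra.IsSeparable L K := Algebra.FormallyUnramified.isSeparable L K
  let Ω := SeparableClosure L
  let e : K →ₐ[L] Ω := IsSepClosed.lift
  letI : Algebra K Ω := e.toRingHom.toAlgebra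
  haveI : IsScalarTower L K Ω := IsScalarTower.of_algebraMap_eq fun r => (e.commutes r).symm
  let L' : Type u := IntermediateField.normalClosure L K Ω
  haveI : IsGalois L L' := IsGalois.normalClosure L K Ω
  haveI : Module.Finite L L' := normalClosure.is_finiteDimensional L K Ω
  let e' : K →ₐ[L] L' :=
    e.codRestrict _ fun x => e.fieldRange_le_normalClosure ⟨x, rfl⟩
  have hgm : (W.left.fromSpecResidueField w ≫ W.hom) = m ≫ p := by
    refine (congrArg (W.left.fromSpecResidueField w ≫ ·) (MorphismProperty.Over.w g).symm).trans ?_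
    exact (Category.assoc (W.left.fromSpecResidueField w) gl p).symm
  have he' : Spec.map (CommRingCat.ofHom e'.toRingHom) ≫ m = specExt (L := L) L' := by
    rw [← Spec.map_preimage m, ← Spec.map_comp]
    exact congrArg Spec.map (CommRingCat.hom_ext (RingHom.ext fun r => e'.commutes r))
  let h : vObj p L' ⟶ W := MorphismProperty.Over.homMk
    (Spec.map (CommRingCat.ofHom e'.toRingHom) ≫ W.left.fromSpecResidueField w) (by
      show (Spec.map _ ≫ _) ≫ W.hom = specExt (L := L) L' ≫ p
      rw [Category.assoc, hgm, reassoc_of% he'])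
  have hh : h ≫ g = proj p L' := MorphismProperty.Over.Hom.ext (by
    show (Spec.map _ ≫ _) ≫ g.left = _
    rw [Category.assoc]; exact he')
  refine ⟨L', inferInstance, inferInstance, inferInstance, inferInstance, rs F h a, ?_⟩
  rw [← rs_nat, ← hh, ← rs_comp]
  exact congrArg (rs G h) ha

/-- Epimorphisms are surjective on sections over a separable point, up to torsion. -/
theorem exists_lift_point_nsmul {F G : EtCoh.Ab X} (φ : F ⟶ G) [Epi φ] {L : Type u} [Field L]
    (p : Spec (CommRingCat.of L) ⟶ X) [AlgebraicGeometry.Etale p] (s : EtCoh.sect G (pObj p)) :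
    ∃ N : ℕ, 0 < N ∧ ∃ a : EtCoh.sect F (pObj p), (φ.hom.app (op (pObj p))).hom a = N • s := by
  obtain ⟨L', _, _, _, _, a, ha⟩ := exists_lift_galois φ p s
  exact ⟨_, Fintype.card_pos, exists_lift_card_nsmul p L' φ s a ha⟩

section Points

variable {k : Type u} [Field k]

/-- The structure map of an object of the étale site of a field. -/
noncomputable abbrev strMap (U : (Spec (CommRingCat.of k)).Etale) :
    U.left ⟶ Spec (CommRingCat.of k) := U.hom

instance etale_strMap (U : (Spec (CommRingCat.of k)).Etale) :
    AlgebraicGeometry.Etale (strMap U) := U.prop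

instance etale_strMap_point (U : (Spec (CommRingCat.of k)).Etale) (w : U.left) :
    AlgebraicGeometry.Etale (U.left.fromSpecResidueField w ≫ strMap U) :=
  etale_point (strMap U) w

/-- The étale object of a point. -/
noncomputable abbrev ptObj (U : (Spec (CommRingCat.of k)).Etale) (w : U.left) :
    (Spec (CommRingCat.of k)).Etale :=
  pObj (L := U.left.residueField w) (U.left.fromSpecResidueField w ≫ strMap U)

/-- The inclusion of a point. -/
noncomputable abbrev ptι (U : (Spec (CommRingCat.of k)).Etale) (w : U.left) : ptObj U w ⟶ U :=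
  MorphismProperty.Over.homMk (U.left.fromSpecResidueField w) rfl

/-- The sheaf condition for the points of an étale scheme over a field. -/
theorem existsUnique_points (U : (Spec (CommRingCat.of k)).Etale)
    (F : EtCoh.Ab (Spec (CommRingCat.of k))) (s : ∀ w : U.left, EtCoh.sect F (ptObj U w)) :
    ∃! t : EtCoh.sect F U, ∀ w : U.left, rs F (ptι U w) t = s w := by
  refine (Presieve.isSheafFor_arrows_iff _ _).1 (isSheafFor F (Presieve.ofArrows (ptObj U) (ptι U))
    fun x => ⟨_, _, IsLocalRing.closedPoint (U.left.residueField x), Presieve.ofArrows.mk x,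
      Scheme.fromSpecResidueField_apply x _⟩) s ?_
  intro i j Z g₁ g₂ hg
  cases isEmpty_or_nonempty Z.left with
  | inl h => exact (subsingleton_sect_of_isEmpty F Z).elim _ _
  | inr h =>
    obtain ⟨z⟩ := h
    have hl : (g₁.left : Z.left ⟶ Spec (U.left.residueField i)) ≫ U.left.fromSpecResidueField i =
        (g₂.left : Z.left ⟶ Spec (U.left.residueField j)) ≫ U.left.fromSpecResidueField j :=
      congrArg (fun m : Z ⟶ U => m.left) hg
    have hij : i = j := by
      have := congrArg (fun m : Z.left ⟶ U.left => m.base z) hl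
      exact ((Scheme.fromSpecResidueField_apply i _).symm.trans this).trans
        (Scheme.fromSpecResidueField_apply j _)
    subst hij
    have : g₁ = g₂ := MorphismProperty.Over.Hom.ext
      ((cancel_mono (U.left.fromSpecResidueField i)).1 hl)
    rw [this]

theorem finite_of_compact (U : (Spec (CommRingCat.of k)).Etale) [CompactSpace U.left] :
    Finite U.left := by
  haveI : QuasiCompact (strMap U) := HasAffineProperty.iff_of_isAffine.2 ‹CompactSpace U.left›
  haveI : LocallyQuasiFinite (strMap U) := inferInstance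
  rw [← Set.finite_univ_iff]
  refine ((strMap U).finite_preimage_singleton (IsLocalRing.closedPoint k)).subset fun x _ => ?_
  exact Subsingleton.elim (α := Spec (CommRingCat.of k)) _ _

/-- Epimorphisms are surjective, up to torsion, on sections over quasi-compact étale schemes over
a field. -/
theorem exists_lift_nsmul {F G : EtCoh.Ab (Spec (CommRingCat.of k))} (φ : F ⟶ G) [Epi φ]
    (U : (Spec (CommRingCat.of k)).Etale) [CompactSpace U.left] (s : EtCoh.sect G U) :
    ∃ N : ℕ, 0 < N ∧ ∃ a : EtCoh.sect F U, (φ.hom.app (op U)).hom a = N • s := by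
  classical
  haveI := finite_of_compact U
  haveI := Fintype.ofFinite U.left
  choose N hN a ha using fun w : U.left =>
    exists_lift_point_nsmul φ (L := U.left.residueField w)
      (U.left.fromSpecResidueField w ≫ strMap U) (rs G (ptι U w) s)
  refine ⟨∏ w, N w, Finset.prod_pos fun w _ => hN w, ?_⟩
  obtain ⟨t, ht, -⟩ := existsUnique_points U F
    fun w => (∏ v ∈ Finset.univ.erase w, N v) • a w
  refine ⟨t, (existsUnique_points U G fun w => rs G (ptι U w) ((∏ w, N w) • s)).unique (fun w => ?_)
    fun w => rfl⟩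
  rw [rs_nat, ht w, map_nsmul]
  refine (congrArg _ (ha w)).trans ?_
  rw [← mul_nsmul', map_nsmul, Finset.prod_erase_mul _ _ (Finset.mem_univ w)]

end Points

end Groth.Agent.DixBrauer.GalCover
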