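import Groth.Agent.DixBrauer.NormAlg
import Groth.Agent.DixBrauer.GalCover
import Groth.Prelude.Def_EtLim
import Groth.Prelude.Def_Mor2
import Mathlib.AlgebraicGeometry.Morphisms.FlatRank
import Mathlib.RingTheory.Finiteness.ModuleFinitePresentation

/-!
The norm morphism `f_* G_m ⟶ G_m` of a finite locally free morphism.
-/

universe u

set_option linter.style.haveILetI false
set_option backward.isDefEq.respectTransparency.types false

open CategoryTheory CategoryTheory.Limits AlgebraicGeometry Opposite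

namespace Groth.Agent.DixBrauer.NormGm

open GalCover

variable {X Y : Scheme.{u}} (f : X ⟶ Y)

/-- The projection of a base change. -/
noncomputable abbrev pr (W : Y.Etale) : ((EtCoh.bc f).obj W).left ⟶ W.left := pullback.fst W.hom f

/-- Objects over which the direct image of the structure sheaf is free. -/
def Good (W : Y.Etale) : Prop := IsAffine W.left ∧ NormAlg.IsFree (pr f W).appTop.hom

/-- The unit underlying a section of `G_m`. -/
noncomputable abbrev un {Z : Scheme.{u}} {U : Z.Etale} (z : EtCoh.sect (EtCoh.Gm Z) U) :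
    Γ(U.left, ⊤)ˣ := z.down.toMul

/-- The section of `G_m` of a unit. -/
noncomputable abbrev mk {Z : Scheme.{u}} (U : Z.Etale) (u : Γ(U.left, ⊤)ˣ) : EtCoh.sect (EtCoh.Gm Z) U :=
  ULift.up (Additive.ofMul u)

theorem un_add {Z : Scheme.{u}} {U : Z.Etale} (z z' : EtCoh.sect (EtCoh.Gm Z) U) :
    un (z + z') = un z * un z' := rfl

theorem un_injective {Z : Scheme.{u}} (U : Z.Etale) :
    Function.Injective (un : EtCoh.sect (EtCoh.Gm Z) U → _) := fun _ _ h =>
  ULift.ext _ _ (Additive.toMul.injective h)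

theorem un_nsmul {Z : Scheme.{u}} {U : Z.Etale} (d : ℕ) (z : EtCoh.sect (EtCoh.Gm Z) U) :
    un (d • z) = un z ^ d := rfl

/-- The norm on sections. -/
noncomputable def nrm (W : Y.Etale) :
    EtCoh.sect ((EtCoh.push f).obj (EtCoh.Gm X)) W →+ EtCoh.sect (EtCoh.Gm Y) W :=
  AddMonoidHom.mk'
    (fun z => mk W (NormAlg.normU (pr f W).appTop.hom (un (U := (EtCoh.bc f).obj W) z)))
    (fun z z' => by
      refine un_injective W ?_
      rw [un_add]
      exact map_mul (NormAlg.normU (pr f W).appTop.hom) (un (U := (EtCoh.bc f).obj W) z) (un (U := (EtCoh.bc f).obj W) z'))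

variable [IsFinite f] [Flat f] [LocallyOfFinitePresentation f]

instance isFinite_pr (W : Y.Etale) : IsFinite (pr f W) := MorphismProperty.pullback_fst _ _ inferInstance
instance flat_pr (W : Y.Etale) : Flat (pr f W) := MorphismProperty.pullback_fst _ _ inferInstance
instance lfp_pr (W : Y.Etale) : LocallyOfFinitePresentation (pr f W) :=
  MorphismProperty.pullback_fst _ _ inferInstance

omit [Flat f] [LocallyOfFinitePresentation f] in
theorem nrm_rs {W W' : Y.Etale} (g : W' ⟶ W) (hW : Good f W) (hW' : Good f W')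
    (z : EtCoh.sect ((EtCoh.push f).obj (EtCoh.Gm X)) W) :
    rs (EtCoh.Gm Y) g (nrm f W z) = nrm f W' (rs ((EtCoh.push f).obj (EtCoh.Gm X)) g z) := by
  haveI : IsAffine ((𝟭 Scheme).obj W.left) := hW.1
  haveI : IsAffine W.left := hW.1
  haveI : IsAffine ((𝟭 Scheme).obj W'.left) := hW'.1
  haveI : IsAffine ((EtCoh.bc f).obj W).left := @isAffine_of_isAffineHom _ _ (pr f W) inferInstance hW.1
  have sq := isPushout_appTop_of_isPullback (EtCoh.isPullback_bc_map f g)
  have h := NormAlg.normU_square (φ := (pr f W).appTop.hom) (a := g.left.appTop.hom)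
    (b := ((EtCoh.bc f).map g).left.appTop.hom) (φ' := (pr f W').appTop.hom)
    sq (pr f W).finite_appTop hW.2 (un (U := (EtCoh.bc f).obj W) z)
  refine ULift.ext _ _ (Additive.toMul.injective ?_)
  exact h.symm

omit [IsFinite f] [Flat f] [LocallyOfFinitePresentation f] in
theorem isoSpec_inv_appTop' (Z : Scheme.{u}) [IsAffine Z] :
    Z.isoSpec.inv.appTop = (Scheme.ΓSpecIso Γ(Z, ⊤)).inv := by
  have h : Z.isoSpec.inv.appTop ≫ Z.isoSpec.hom.appTop = 𝟙 _ := by
    rw [← Scheme.Hom.comp_appTop, Iso.hom_inv_id, Scheme.Hom.id_appTop]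
  have h2 : Z.isoSpec.hom.appTop = (Scheme.ΓSpecIso Γ(Z, ⊤)).hom := Scheme.toSpecΓ_appTop Z
  rw [h2] at h
  rw [← Category.comp_id Z.isoSpec.inv.appTop, ← (Scheme.ΓSpecIso Γ(Z, ⊤)).hom_inv_id, ← Category.assoc, h,
    Category.id_comp]

theorem exists_good (U : Y.Etale) (v : U.left) :
    ∃ (W : Y.Etale) (g : W ⟶ U) (w : W.left), Good f W ∧ g.left.base w = v := by
  obtain ⟨W₀, hW₀, g₁, w₀, hw₀⟩ : ∃ W₀ : Y.Etale, IsAffine W₀.left ∧ ∃ (g₁ : W₀ ⟶ U) (w₀ : W₀.left),
      g₁.left.base w₀ = v := by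
    obtain ⟨O, hO, hvO, -⟩ := exists_isAffineOpen_mem_and_subset (U := ⊤) (x := v) trivial
    haveI : AlgebraicGeometry.Etale U.hom := U.prop
    exact ⟨Scheme.Etale.mk (O.ι ≫ U.hom), hO, MorphismProperty.Over.homMk O.ι rfl, ⟨v, hvO⟩, rfl⟩
  haveI : IsAffine W₀.left := hW₀
  haveI : IsAffine ((𝟭 Scheme).obj W₀.left) := hW₀
  let A : Type u := Γ(W₀.left, ⊤)
  let B : Type u := Γ(((EtCoh.bc f).obj W₀).left, ⊤)
  letI : Algebra A B := (pr f W₀).appTop.hom.toAlgebra
  haveI hP₀ : IsAffine ((EtCoh.bc f).obj W₀).left := @isAffine_of_isAffineHom _ _ (pr f W₀) inferInstance hW₀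
  haveI : Module.Finite A B := (pr f W₀).finite_appTop
  haveI : Module.Flat A B := (pr f W₀).flat_appTop
  haveI : Algebra.FinitePresentation A B :=
    (@HasRingHomProperty.iff_of_isAffine @LocallyOfFinitePresentation _ _ _ _ (pr f W₀) hP₀
      hW₀).1 (lfp_pr f W₀)
  haveI : Module.FinitePresentation A B := Module.FinitePresentation.of_finite_of_finitePresentation _ _
  obtain ⟨r, hr, hfree⟩ := NormAlg.exists_isFree_away (A := A) (B := B) (W₀.left.isoSpec.hom.base w₀)
  let A' := CommRingCat.of (Localization.Away r)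
  let j₀ : Spec A' ⟶ Spec Γ(W₀.left, ⊤) := Spec.map (CommRingCat.ofHom (algebraMap A (Localization.Away r)))
  haveI : IsOpenImmersion j₀ := IsOpenImmersion.of_isLocalization r
  let j : Spec A' ⟶ W₀.left := j₀ ≫ W₀.left.isoSpec.inv
  haveI : AlgebraicGeometry.Etale W₀.hom := W₀.prop
  let W : Y.Etale := Scheme.Etale.mk (j ≫ W₀.hom)
  let g₀ : W ⟶ W₀ := MorphismProperty.Over.homMk j rfl
  haveI : IsAffine W.left := inferInstanceAs (IsAffine (Spec A'))
  haveI : IsAffine ((𝟭 Scheme).obj W.left) := inferInstanceAs (IsAffine (Spec A'))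
  haveI : IsAffine ((𝟭 Scheme).obj W₀.left) := hW₀
  obtain ⟨q, hq⟩ : W₀.left.isoSpec.hom.base w₀ ∈ Set.range j₀.base := by
    show _ ∈ Set.range (PrimeSpectrum.comap (algebraMap A (Localization.Away r)))
    rw [PrimeSpectrum.localization_away_comap_range (Localization.Away r) r]
    exact hr
  refine ⟨W, g₀ ≫ g₁, q, ⟨inferInstance, ?_⟩, ?_⟩
  · have sq := isPushout_appTop_of_isPullback (EtCoh.isPullback_bc_map f g₀)
    letI : Algebra A Γ(W.left, ⊤) := g₀.left.appTop.hom.toAlgebra
    haveI : IsLocalization.Away r Γ(W.left, ⊤) := by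
      let e : Localization.Away r ≃ₐ[A] Γ(W.left, ⊤) :=
        AlgEquiv.ofRingEquiv (f := (Scheme.ΓSpecIso A').symm.commRingCatIsoToRingEquiv) fun x => by
          show ((CommRingCat.ofHom (algebraMap A (Localization.Away r))) ≫ (Scheme.ΓSpecIso A').inv).hom x =
            j.appTop.hom x
          congr 2
          rw [Scheme.Hom.comp_appTop, isoSpec_inv_appTop', Scheme.ΓSpecIso_inv_naturality]
          rfl
      exact IsLocalization.isLocalization_of_algEquiv _ e
    letI : Algebra Γ(W.left, ⊤) Γ(((EtCoh.bc f).obj W).left, ⊤) := (pr f W).appTop.hom.toAlgebra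
    letI : Algebra B Γ(((EtCoh.bc f).obj W).left, ⊤) := ((EtCoh.bc f).map g₀).left.appTop.hom.toAlgebra
    letI : Algebra A Γ(((EtCoh.bc f).obj W).left, ⊤) :=
      ((pr f W).appTop.hom.comp g₀.left.appTop.hom).toAlgebra
    haveI : IsScalarTower A Γ(W.left, ⊤) Γ(((EtCoh.bc f).obj W).left, ⊤) :=
      IsScalarTower.of_algebraMap_eq' rfl
    haveI : IsScalarTower A B Γ(((EtCoh.bc f).obj W).left, ⊤) :=
      IsScalarTower.of_algebraMap_eq' (congrArg CommRingCat.Hom.hom sq.w).symm
    haveI : Algebra.IsPushout A Γ(W.left, ⊤) B Γ(((EtCoh.bc f).obj W).left, ⊤) :=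
      CommRingCat.isPushout_iff_isPushout.1 sq.flip
    exact hfree Γ(W.left, ⊤) Γ(((EtCoh.bc f).obj W).left, ⊤)
  · show g₁.left.base (j.base q) = v
    rw [Scheme.Hom.comp_apply, hq, Scheme.hom_inv_apply]
    exact hw₀

/-- Compatible values on good objects. -/
theorem exists_unique_value (V : Y.Etale) (z : EtCoh.sect ((EtCoh.push f).obj (EtCoh.Gm X)) V) :
    ∃! t : EtCoh.sect (EtCoh.Gm Y) V, ∀ (W : Y.Etale) (g : W ⟶ V), Good f W →
      rs (EtCoh.Gm Y) g t = nrm f W (rs ((EtCoh.push f).obj (EtCoh.Gm X)) g z) := by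
  let R : Presieve V := fun W _ => Good f W
  have hR : ∀ x : V.left, ∃ (W : Y.Etale) (g : W ⟶ V) (w : W.left), R g ∧ g.left.base w = x :=
    fun x => exists_good f V x
  let fam : Presieve.FamilyOfElements ((EtCoh.Gm Y).obj ⋙ forget AddCommGrpCat.{u + 1}) R :=
    fun W g _ => nrm f W (rs ((EtCoh.push f).obj (EtCoh.Gm X)) g z)
  have hfam : fam.Compatible := by
    intro W₁ W₂ T g₁ g₂ f₁ f₂ h₁ h₂ hw
    refine ext_of_local (EtCoh.Gm Y) T _ _ fun x => ?_
    obtain ⟨S, k, s, hS, hks⟩ := exists_good f T x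
    refine ⟨S, k, s, hks, ?_⟩
    show rs _ k (rs _ g₁ (nrm f W₁ _)) = rs _ k (rs _ g₂ (nrm f W₂ _))
    rw [rs_comp, rs_comp, nrm_rs f (k ≫ g₁) h₁ hS, nrm_rs f (k ≫ g₂) h₂ hS, rs_comp, rs_comp,
      Category.assoc, Category.assoc, hw]
  obtain ⟨t, ht, huniq⟩ := isSheafFor (EtCoh.Gm Y) R hR fam hfam
  exact ⟨t, fun W g hg => ht g hg, fun t' ht' => huniq t' fun W g hg => ht' W g hg⟩

/-- The norm on sections over an arbitrary object. -/
noncomputable def value (V : Y.Etale) :
    EtCoh.sect ((EtCoh.push f).obj (EtCoh.Gm X)) V →+ EtCoh.sect (EtCoh.Gm Y) V :=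
  AddMonoidHom.mk' (fun z => (exists_unique_value f V z).exists.choose) fun z z' =>
    (exists_unique_value f V (z + z')).unique (exists_unique_value f V (z + z')).exists.choose_spec
      fun W g hg => by
        simp only [map_add, (exists_unique_value f V z).exists.choose_spec W g hg,
          (exists_unique_value f V z').exists.choose_spec W g hg]

theorem value_spec {V : Y.Etale} (z : EtCoh.sect ((EtCoh.push f).obj (EtCoh.Gm X)) V) {W : Y.Etale}
    (g : W ⟶ V) (hW : Good f W) : rs (EtCoh.Gm Y) g (value f V z) =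
      nrm f W (rs ((EtCoh.push f).obj (EtCoh.Gm X)) g z) :=
  (exists_unique_value f V z).exists.choose_spec W g hW

/-- The norm `f_* G_m ⟶ G_m`. -/
noncomputable def norm : (EtCoh.push f).obj (EtCoh.Gm X) ⟶ EtCoh.Gm Y :=
  ObjectProperty.homMk
    { app := fun V => AddCommGrpCat.ofHom (value f V.unop)
      naturality := fun V V' g => AddCommGrpCat.hom_ext (AddMonoidHom.ext fun z => by
        show value f V'.unop (rs _ g.unop z) = rs (EtCoh.Gm Y) g.unop (value f V.unop z)
        refine (exists_unique_value f V'.unop _).unique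
          (exists_unique_value f V'.unop _).exists.choose_spec fun W k hW => ?_
        rw [rs_comp, value_spec f z _ hW, rs_comp]) }

omit [LocallyOfFinitePresentation f] in
theorem nrm_gmPush {W : Y.Etale} (hW : Good f W) (d : ℕ) (hd : ∀ y : Y, f.finrank y = d)
    (s : EtCoh.sect (EtCoh.Gm Y) W) :
    nrm f W (((EtLim.GmPush f).hom.app (op W)).hom s) = d • s := by
  haveI : IsAffine W.left := hW.1
  refine ULift.ext _ _ (Additive.toMul.injective ?_)
  show NormAlg.normU (pr f W).appTop.hom (Units.map (pr f W).appTop.hom.toMonoidHom s.down.toMul) = _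
  rcases isEmpty_or_nonempty W.left with hE | hne
  · haveI : Subsingleton Γ(W.left, ⊤) := CommRingCat.subsingleton_of_isTerminal
      (W.left.sheaf.isTerminalOfEqEmpty (Subsingleton.elim _ _))
    exact Units.ext (Subsingleton.elim _ _)
  · obtain ⟨w⟩ := hne
    letI : Algebra Γ(W.left, ⊤) Γ(((EtCoh.bc f).obj W).left, ⊤) := (pr f W).appTop.hom.toAlgebra
    haveI : Module.Free Γ(W.left, ⊤) Γ(((EtCoh.bc f).obj W).left, ⊤) := hW.2
    haveI : Module.Finite Γ(W.left, ⊤) Γ(((EtCoh.bc f).obj W).left, ⊤) := (pr f W).finite_appTop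
    haveI : IsAffine ((EtCoh.bc f).obj W).left := @isAffine_of_isAffineHom _ _ (pr f W) inferInstance hW.1
    haveI : Nontrivial Γ(W.left, ⊤) :=
      (PrimeSpectrum.nonempty_iff_nontrivial).1 ⟨W.left.isoSpec.hom.base w⟩
    have hrk : Module.finrank Γ(W.left, ⊤) Γ(((EtCoh.bc f).obj W).left, ⊤) = d := by
      have h1 : (pr f W).finrank w = d := by
        exact (Scheme.Hom.finrank_pullback_fst f (W.hom : W.left ⟶ Y) w).trans (hd _)
      have sq : IsPullback ((EtCoh.bc f).obj W).left.isoSpec.hom (pr f W)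
          (Spec.map (pr f W).appTop) W.left.isoSpec.hom :=
        IsPullback.of_horiz_isIso ⟨Scheme.isoSpec_hom_naturality (pr f W)⟩
      haveI : IsFinite (Spec.map (pr f W).appTop) := (IsFinite.SpecMap_iff _).2 (pr f W).finite_appTop
      haveI : Flat (Spec.map (pr f W).appTop) := Flat.SpecMap_iff.2 (pr f W).flat_appTop
      rw [Scheme.Hom.finrank_of_isPullback _ _ _ _ sq,
        Scheme.Hom.finrank_SpecMap_eq_finrank (pr f W).finite_appTop (pr f W).flat_appTop] at h1
      haveI : Module.Flat Γ(W.left, ⊤) Γ(((EtCoh.bc f).obj W).left, ⊤) := (pr f W).flat_appTop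
      change Module.rankAtStalk (R := Γ(W.left, ⊤)) Γ(((EtCoh.bc f).obj W).left, ⊤) _ = d at h1
      rw [Module.rankAtStalk_eq_finrank_of_free] at h1
      exact h1
    refine Units.ext ?_
    show (NormAlg.normU (algebraMap Γ(W.left, ⊤) Γ(((EtCoh.bc f).obj W).left, ⊤)) _ : Γ(W.left, ⊤)) = _
    rw [NormAlg.normU_algebraMap]
    refine (Algebra.norm_algebraMap _).trans ?_
    rw [hrk]
    show ((un s : Γ(W.left, ⊤)ˣ) : Γ(W.left, ⊤)) ^ d = ((un (d • s) : Γ(W.left, ⊤)ˣ) : Γ(W.left, ⊤))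
    rw [un_nsmul, Units.val_pow_eq_pow_val]

/-- The norm of a pulled back unit is its `d`-th power. -/
theorem gmPush_norm (d : ℕ) (hd : ∀ y : Y, f.finrank y = d) :
    EtLim.GmPush f ≫ norm f = EtCoh.powMap Y d := by
  refine Sheaf.hom_ext (NatTrans.ext (funext fun V => AddCommGrpCat.hom_ext
    (AddMonoidHom.ext fun s => ?_)))
  show value f V.unop (((EtLim.GmPush f).hom.app V).hom s) = ((EtCoh.powMap Y d).hom.app V).hom s
  have hp : ((EtCoh.powMap Y d).hom.app V).hom s = d • s := by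
    unfold EtCoh.powMap
    clear hd
    induction d with
    | zero => rw [zero_smul, zero_smul]; rfl
    | succ d ih => rw [succ_nsmul, succ_nsmul]; exact congrArg (· + s) ih
  rw [hp]
  refine ext_of_local (EtCoh.Gm Y) V.unop _ _ fun v => ?_
  obtain ⟨W, g, w, hW, hgw⟩ := exists_good f V.unop v
  refine ⟨W, g, w, hgw, ?_⟩
  rw [value_spec f _ g hW, rs_nat, nrm_gmPush f hW d hd, map_nsmul]

end Groth.Agent.DixBrauer.NormGm
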