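import Groth.Agent.EtBCA.Hpull
import Groth.Prelude.Def_EtLim

/-!
Functoriality of the pullback on the cohomology of `G_m`.
-/

universe u

set_option linter.style.haveILetI false
set_option backward.isDefEq.respectTransparency.types false

open CategoryTheory CategoryTheory.Limits CategoryTheory.Abelian AlgebraicGeometry Opposite

namespace Groth.Agent.DixBrauer.GmComp

variable {X Y Z : Scheme.{u}}

/-- The map `u⁻¹ G_m ⟶ G_m`. -/
noncomputable def alpha (u : X ⟶ Y) : (EtCoh.pull u).obj (EtCoh.Gm Y) ⟶ EtCoh.Gm X :=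
  ((EtCoh.pullPushAdj u).homEquiv _ _).symm (EtLim.GmPush u)

theorem HGmPull_eq (u : X ⟶ Y) [PreservesFiniteLimits (EtCoh.pull u)] (n : ℕ)
    (x : EtCoh.H Y (EtCoh.Gm Y) n) :
    EtLim.HGmPull u n x = (EtCoh.HF X n).map (alpha u) (EtCore.Hpull u (EtCoh.Gm Y) n x) := by
  show ((EtCoh.HF X n).map ((EtCoh.pullPushAdj u).counit.app (EtCoh.Gm X))).hom
      (EtCore.Hpull u _ n ((EtCoh.HF Y n).map (EtLim.GmPush u) x)) = _
  rw [EtBCA.Hpull_natural u (EtLim.GmPush u) n x, alpha, Adjunction.homEquiv_counit, Functor.map_comp]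
  rfl

theorem pushComp_GmPush (k : X ⟶ Y) (t : Y ⟶ Z) :
    EtLim.GmPush t ≫ (EtCoh.push t).map (EtLim.GmPush k) ≫ (EtCoh.pushComp t k).hom.app (EtCoh.Gm X) =
      EtLim.GmPush (k ≫ t) := by
  refine Sheaf.hom_ext (NatTrans.ext (funext fun V => ?_))
  show EtCoh.ΓUnits.map (pullback.fst V.unop.hom t).op ≫
      EtCoh.ΓUnits.map (pullback.fst ((EtCoh.bc t).obj V.unop).hom k).op ≫
        EtCoh.ΓUnits.map (((MorphismProperty.Over.pullbackComp (P := EtCoh.etaleMP) (Q := ⊤) k t).hom.app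
          V.unop).left).op =
      EtCoh.ΓUnits.map (pullback.fst V.unop.hom (k ≫ t)).op
  rw [← Functor.map_comp, ← Functor.map_comp]
  exact congrArg (fun m => EtCoh.ΓUnits.map m) (congrArg Quiver.Hom.op
    ((Category.assoc _ _ _).trans (MorphismProperty.Over.pullbackComp_left_fst_fst k t V.unop)))

theorem pullComp_alpha (k : X ⟶ Y) (t : Y ⟶ Z) :
    (EtCore.pullComp k t).hom.app (EtCoh.Gm Z) ≫ (EtCoh.pull k).map (alpha t) ≫ alpha k = alpha (k ≫ t) := by
  let adj' := ((EtCoh.pullPushAdj t).comp (EtCoh.pullPushAdj k)).ofNatIsoRight (EtCoh.pushComp t k)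
  apply ((EtCoh.pullPushAdj (k ≫ t)).homEquiv _ _).injective
  rw [Adjunction.homEquiv_naturality_right]
  refine (congrArg (· ≫ (EtCoh.push (k ≫ t)).map ((EtCoh.pull k).map (alpha t) ≫ alpha k))
    (Adjunction.homEquiv_leftAdjointUniq_hom_app (EtCoh.pullPushAdj (k ≫ t)) adj' (EtCoh.Gm Z))).trans ?_
  refine (adj'.homEquiv_unit _ _ _).symm.trans ?_
  unfold alpha
  rw [Equiv.apply_symm_apply]
  refine (Adjunction.homEquiv_ofNatIsoRight_apply _ _ _).trans ?_
  rw [← pushComp_GmPush k t, Adjunction.comp_homEquiv]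
  show ((EtCoh.pullPushAdj t).homEquiv _ _) (((EtCoh.pullPushAdj k).homEquiv _ _) _) ≫ _ = _
  rw [Adjunction.homEquiv_naturality_left, Equiv.apply_symm_apply,
    Adjunction.homEquiv_naturality_right, Equiv.apply_symm_apply]
  exact Category.assoc _ _ _

/-- Pullback along a composite. -/
theorem HGmPull_comp (k : X ⟶ Y) (t : Y ⟶ Z) [PreservesFiniteLimits (EtCoh.pull k)]
    [PreservesFiniteLimits (EtCoh.pull t)] [PreservesFiniteLimits (EtCoh.pull (k ≫ t))] (n : ℕ)
    (x : EtCoh.H Z (EtCoh.Gm Z) n) :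
    EtLim.HGmPull (k ≫ t) n x = EtLim.HGmPull k n (EtLim.HGmPull t n x) := by
  rw [HGmPull_eq, HGmPull_eq k, HGmPull_eq t, EtBCA.Hpull_natural, ← EtBCA.Hpull_comp k t,
    ← ConcreteCategory.comp_apply, ← ConcreteCategory.comp_apply, ← Functor.map_comp, ← Functor.map_comp,
    pullComp_alpha]

/-- A class killed by `Hpull` is killed by `HGmPull`. -/
theorem HGmPull_eq_zero (u : X ⟶ Y) [PreservesFiniteLimits (EtCoh.pull u)] (n : ℕ)
    (x : EtCoh.H Y (EtCoh.Gm Y) n) (h : EtCore.Hpull u (EtCoh.Gm Y) n x = 0) :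
    EtLim.HGmPull u n x = 0 := by
  rw [HGmPull_eq, h]
  exact map_zero _

end Groth.Agent.DixBrauer.GmComp
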