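import Groth.Agent.DixBrauer.CyclicGal
import Groth.Agent.DixBrauer.GmComp
import Groth.Agent.GalDual.Torsion
import Groth.Agent.TsenLib.Norm
import Mathlib.GroupTheory.PGroup
import Mathlib.GroupTheory.Sylow
import Mathlib.FieldTheory.Galois.Basic

/-!
The cohomological Brauer group of a `C₁` field vanishes.
-/

universe u

set_option linter.style.haveILetI false
set_option backward.isDefEq.respectTransparency.types false

open CategoryTheory CategoryTheory.Limits CategoryTheory.Abelian AlgebraicGeometry Opposite

namespace Groth.Agent.DixBrauer.BrauerC1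

open MvPolynomial in
/-- Norms from finite extensions of a `C₁` field are surjective. -/
theorem exists_norm_eq {K : Type*} [Field K] (L : Type*) [Field L] [Algebra K L] [FiniteDimensional K L]
    (hK : Curves.IsCr K 1) (x : K) (hx : x ≠ 0) : ∃ y : L, Algebra.norm K y = x := by
  classical
  let n := Module.finrank K L
  let b := Module.finBasis K L
  have hn : 0 < n := Module.finrank_pos
  let M : Matrix (Fin n) (Fin n) (MvPolynomial (Fin (n + 1)) K) := fun r c =>
    ∑ i : Fin n, C (Algebra.leftMulMatrix b (b i) r c) * X i.castSucc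
  let f : MvPolynomial (Fin (n + 1)) K := M.det - C x * X (Fin.last n) ^ n
  have hf : f.IsHomogeneous n := by
    refine IsHomogeneous.sub ?_ ?_
    · have h := TsenLib.isHomogeneous_det M (d := 1) fun r c =>
        IsHomogeneous.sum _ _ _ fun i _ => isHomogeneous_C_mul_X _ _
      rwa [Nat.mul_one] at h
    · exact (isHomogeneous_X_pow _ _).C_mul _
  obtain ⟨a, ha, ha0⟩ := hK (n + 1) n f hf hn (by rw [pow_one]; exact Nat.lt_succ_self n)
  let y : L := ∑ i : Fin n, a i.castSucc • b i
  have hdet : eval a M.det = Algebra.norm K y := by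
    rw [Algebra.norm_eq_matrix_det b, RingHom.map_det]
    congr 1
    ext r c
    simp only [RingHom.mapMatrix_apply, Matrix.map_apply, M, map_sum, map_mul, eval_C, eval_X, y,
      map_smul, Matrix.sum_apply, Matrix.smul_apply, smul_eq_mul]
    exact Finset.sum_congr rfl fun i _ => mul_comm _ _
  have h0 : Algebra.norm K y = x * a (Fin.last n) ^ n := by
    simp only [f, map_sub, map_mul, map_pow, eval_C, eval_X, hdet, sub_eq_zero] at ha0
    exact ha0
  have ht : a (Fin.last n) ≠ 0 := by
    intro ht
    rw [ht, zero_pow hn.ne', mul_zero, Algebra.norm_eq_zero_iff] at h0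
    refine ha (funext fun i => ?_)
    refine Fin.lastCases ht (fun i => ?_) i
    exact Fintype.linearIndependent_iff.1 b.linearIndependent (fun i => a i.castSucc) h0 i
  refine ⟨(a (Fin.last n))⁻¹ • y, ?_⟩
  rw [Algebra.smul_def, map_mul, Algebra.norm_algebraMap, h0, inv_pow]
  field_simp
  rfl

/-- The morphism of spectra. -/
noncomputable abbrev π (E L : Type u) [Field E] [Field L] [Algebra E L] :
    Spec (CommRingCat.of L) ⟶ Spec (CommRingCat.of E) := GalDual.fieldMap E L

theorem eq_zero_of_isPGroup (p : ℕ) [hp : Fact p.Prime] :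
    ∀ (N : ℕ) (E M : Type u) [Field E] [Field M] [Algebra E M] [FiniteDimensional E M] [IsGalois E M],
      Module.finrank E M = N → IsPGroup p (M ≃ₐ[E] M) → Curves.IsCr E 1 →
      ∀ η : EtCoh.H (Spec (CommRingCat.of E)) (EtCoh.Gm (Spec (CommRingCat.of E))) 2,
      (∀ [PreservesFiniteLimits (EtCoh.pull (π E M))], EtLim.HGmPull (π E M) 2 η = 0) → η = 0 := by
  intro N
  induction N using Nat.strong_induction_on with
  | _ N ih =>
    intro E M _ _ _ _ _ hN hP hC η hη
    haveI := EtFound.pull_preservesFiniteLimits (π E M)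
    rcases subsingleton_or_nontrivial (M ≃ₐ[E] M) with hs | hnt
    · exact CyclicGal.eq_zero_of_dies (σ := 1) (fun τ => by rw [Subsingleton.elim τ 1]; exact one_mem _)
        (fun x hx => exists_norm_eq M hC x hx) η hη
    · haveI := hP.center_nontrivial
      obtain ⟨z, hz⟩ := exists_ne (1 : Subgroup.center (M ≃ₐ[E] M))
      let H := Subgroup.zpowers (z : M ≃ₐ[E] M)
      haveI hHn : H.Normal := by
        refine ⟨fun h hh g => ?_⟩
        obtain ⟨i, rfl⟩ := hh
        have hc : g * (z : M ≃ₐ[E] M) ^ i = (z : M ≃ₐ[E] M) ^ i * g :=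
          Subgroup.mem_center_iff.1 (zpow_mem z.2 i) g
        rw [hc, mul_inv_cancel_right]
        exact Subgroup.mem_zpowers_iff.2 ⟨i, rfl⟩
      let F := IntermediateField.fixedField H
      haveI : IsGalois E F := IsGalois.of_fixedField_normal_subgroup H
      haveI : IsGalois F M := IsGalois.tower_top_of_isGalois E F M
      haveI : Algebra.IsSeparable F M := Algebra.isSeparable_tower_top_of_isSeparable E F M
      have hlt : Module.finrank E F < N := by
        have hmul := Module.finrank_mul_finrank E F M
        have h2 : 1 < Module.finrank F M := by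
          rw [IntermediateField.finrank_fixedField_eq_card, Nat.card_zpowers]
          have h1 : orderOf (z : M ≃ₐ[E] M) ≠ 1 := fun h =>
            hz (Subtype.ext (orderOf_eq_one_iff.1 h))
          have h0 := orderOf_pos (z : M ≃ₐ[E] M)
          omega
        rw [← hN, ← hmul]
        exact lt_mul_of_one_lt_right Module.finrank_pos h2
      haveI := EtFound.pull_preservesFiniteLimits (π E F)
      haveI := EtFound.pull_preservesFiniteLimits (π F M)
      haveI := EtFound.pull_preservesFiniteLimits (π F M ≫ π E F)
      have hcomp : π F M ≫ π E F = π E M := by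
        rw [← Spec.map_comp, ← CommRingCat.ofHom_comp, ← IsScalarTower.algebraMap_eq]
      have hF : EtLim.HGmPull (π E F) 2 η = 0 := by
        let gen : M ≃ₐ[F] M := (IntermediateField.fixingSubgroupEquiv F)
          ⟨z, by rw [IntermediateField.fixingSubgroup_fixedField]; exact Subgroup.mem_zpowers _⟩
        refine CyclicGal.eq_zero_of_dies (E := F) (L := M) (σ := gen) (fun τ => ?_)
          (fun x hx => exists_norm_eq M (TsenLib.isCr_one_of_finite (K := E) hC) x hx) _ ?_
        · have hτ : ((IntermediateField.fixingSubgroupEquiv F).symm τ : M ≃ₐ[E] M) ∈ H :=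
            SetLike.le_def.1 (IntermediateField.fixingSubgroup_fixedField H).le
              ((IntermediateField.fixingSubgroupEquiv F).symm τ).2
          obtain ⟨i, hi⟩ := hτ
          refine ⟨i, (IntermediateField.fixingSubgroupEquiv F).symm.injective ?_⟩
          refine Eq.trans (map_zpow (IntermediateField.fixingSubgroupEquiv F).symm gen i) ?_
          rw [MulEquiv.symm_apply_apply]
          exact Subtype.ext hi
        · rw [← GmComp.HGmPull_comp (π F M) (π E F)]
          convert hη using 3
      refine ih _ hlt E F rfl ?_ hC η hF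
      exact hP.of_surjective (AlgEquiv.restrictNormalHom F) (AlgEquiv.restrictNormalHom_surjective M)

/-- `H²(K, G_m) = 0` for a `C₁` field `K`. -/
theorem subsingleton_H2_Gm (K : Type u) [Field K] (hK : Curves.IsCr K 1) :
    Subsingleton (EtCoh.H (Spec (CommRingCat.of K)) (EtCoh.Gm (Spec (CommRingCat.of K))) 2) := by
  refine subsingleton_of_forall_eq 0 fun ξ => ?_
  obtain ⟨L, _, _, _, _, hL⟩ := GalDual.exists_dies ξ
  let M := IntermediateField.normalClosure K L (SeparableClosure L)
  haveI : IsSepClosure K (SeparableClosure L) := ⟨inferInstance, Algebra.IsSeparable.trans K L _⟩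
  haveI : IsGalois K (SeparableClosure L) := IsSepClosure.isGalois
  let ι : L →ₐ[K] M := (IsScalarTower.toAlgHom K L (SeparableClosure L)).codRestrict M.toSubalgebra
    fun x => AlgHom.fieldRange_le_normalClosure (IsScalarTower.toAlgHom K L (SeparableClosure L)) ⟨x, rfl⟩
  have hM := hL.of_algHom ι
  by_contra hne
  have hord : addOrderOf ξ ∣ Module.finrank K M :=
    addOrderOf_dvd_of_nsmul_eq_zero (hM.finrank_nsmul M)
  have hne1 : addOrderOf ξ ≠ 1 := fun h => hne (AddMonoid.addOrderOf_eq_one_iff.1 h)
  obtain ⟨p, hp, hpdvd⟩ := Nat.exists_prime_and_dvd hne1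
  haveI : Fact p.Prime := ⟨hp⟩
  let P : Sylow p (M ≃ₐ[K] M) := default
  let E := IntermediateField.fixedField (P : Subgroup (M ≃ₐ[K] M))
  haveI : IsGalois E M := IsGalois.tower_top_of_isGalois K E M
  haveI : Algebra.IsSeparable K E := Algebra.isSeparable_tower_bot_of_isSeparable K E M
  haveI := EtFound.pull_preservesFiniteLimits (π K E)
  haveI := EtFound.pull_preservesFiniteLimits (π K M)
  haveI := EtFound.pull_preservesFiniteLimits (π E M ≫ π K E)
  have hcomp : π E M ≫ π K E = π K M := by
    rw [← Spec.map_comp, ← CommRingCat.ofHom_comp, ← IsScalarTower.algebraMap_eq]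
  have hE : EtLim.HGmPull (π K E) 2 ξ = 0 := by
    refine eq_zero_of_isPGroup p _ E M rfl ?_ (TsenLib.isCr_one_of_finite (K := K) hK) _ ?_
    · exact P.isPGroup'.of_equiv ((MulEquiv.subgroupCongr
        (IntermediateField.fixingSubgroup_fixedField (P : Subgroup (M ≃ₐ[K] M))).symm).trans
        (IntermediateField.fixingSubgroupEquiv E))
    · intro
      rw [← GmComp.HGmPull_comp (π E M) (π K E)]
      have h0 := GmComp.HGmPull_eq_zero (π K M) 2 ξ ((GalDual.dies_iff_Hpull M ξ).1 hM)
      convert h0 using 3
  haveI : Module.Finite K E := inferInstance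
  haveI : IsFinite (π K E) := (IsFinite.SpecMap_iff _).2 (RingHom.finite_algebraMap.2 inferInstance)
  haveI : Flat (π K E) := Flat.SpecMap_iff.2 (RingHom.flat_algebraMap_iff.2 inferInstance)
  haveI : AlgebraicGeometry.Etale (π K E) := GalCover.etale_specExt (L := K) E
  have hd : ∀ y, (π K E).finrank y = Module.finrank K E := fun y => by
    show Scheme.Hom.finrank (Spec.map (CommRingCat.ofHom (algebraMap K E))) y = _
    rw [Scheme.Hom.finrank_SpecMap_algebraMap, Module.rankAtStalk_eq_finrank_of_free]
    rfl
  have hkill := FinitePush.nsmul_eq_zero_of_HGmPull (π K E) hd ξ hE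
  have hindex : Module.finrank K E = (P : Subgroup (M ≃ₐ[K] M)).index := by
    rw [IntermediateField.finrank_eq_fixingSubgroup_index, IntermediateField.fixingSubgroup_fixedField]
  exact P.not_dvd_index (hindex ▸ hpdvd.trans (addOrderOf_dvd_of_nsmul_eq_zero hkill))

end Groth.Agent.DixBrauer.BrauerC1
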