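import Groth.Agent.DixBrauer.TorsionCoh
import Groth.Agent.SiteBase.AbSecExact
import Groth.Prelude.Def_EtGm
import Mathlib.RepresentationTheory.Homological.GroupCohomology.Hilbert90
import Mathlib.CategoryTheory.Sites.LocallyInjective

/-!
First cohomology of a field: Hilbert 90 and torsion-free constant coefficients.
-/

universe u

set_option linter.style.haveILetI false
set_option backward.isDefEq.respectTransparency.types false

open CategoryTheory CategoryTheory.Limits CategoryTheory.Abelian AlgebraicGeometry Opposite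

namespace Groth.Agent.DixBrauer.FieldH1

open GalCover

theorem exact_sections {X : Scheme.{u}} {S : ShortComplex (EtCoh.Ab X)} (hS : S.ShortExact)
    (U : X.Etale) (y : EtCoh.sect S.X₂ U) (hy : (S.g.hom.app (op U)).hom y = 0) :
    ∃ z, (S.f.hom.app (op U)).hom z = y := by
  haveI : LocallySmall.{u + 1} X.Etale := ⟨fun _ _ => inferInstance⟩
  haveI := hS.mono_f
  exact (SiteBase.secExact_iff S U).1 (hS.exact.map_of_mono_of_preservesKernel
    (sheafToPresheaf X.smallEtaleTopology AddCommGrpCat.{u + 1} ⋙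
      (evaluation X.Etaleᵒᵖ AddCommGrpCat.{u + 1}).obj (op U)) inferInstance inferInstance) y hy

variable {k : Type u} [Field k]

/-- All Galois cocycles with values in `F` at finite levels over `p` are coboundaries. -/
def Coboundaries {X : Scheme.{u}} (F : EtCoh.Ab X) {L : Type u} [Field L]
    (p : Spec (CommRingCat.of L) ⟶ X) [AlgebraicGeometry.Etale p] : Prop :=
  ∀ (L' : Type u) [Field L'] [Algebra L L'] [Module.Finite L L'] [IsGalois L L']
    (c : (L' ≃ₐ[L] L') → EtCoh.sect F (vObj p L')),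
    (∀ σ τ, c (σ * τ) = rs F (act p L' σ) (c τ) + c σ) →
      ∃ b, ∀ σ, c σ = rs F (act p L' σ) b - b

/-- If cocycles are coboundaries, sections over a separable point lift. -/
theorem exists_lift_of_coboundaries {X : Scheme.{u}} {S : ShortComplex (EtCoh.Ab X)}
    (hS : S.ShortExact) {L : Type u} [Field L] (p : Spec (CommRingCat.of L) ⟶ X)
    [AlgebraicGeometry.Etale p] (hcoc : Coboundaries S.X₁ p) (s : EtCoh.sect S.X₃ (pObj p)) :
    ∃ a, (S.g.hom.app (op (pObj p))).hom a = s := by
  haveI : Mono S.f := hS.mono_f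
  haveI : Epi S.g := hS.epi_g
  haveI : LocallySmall.{u + 1} X.Etale := ⟨fun _ _ => inferInstance⟩
  obtain ⟨L', _, _, _, _, a, ha⟩ := exists_lift_galois S.g p s
  let d := fun σ => rs S.X₂ (act p L' σ) a - a
  have hd : ∀ σ, (S.g.hom.app (op (vObj p L'))).hom (d σ) = 0 := by
    intro σ
    simp only [d, map_sub, ← rs_nat, ha, rs_comp, act_proj, sub_self]
  choose c hc using fun σ => exact_sections hS _ (d σ) (hd σ)
  have hcc : ∀ σ τ, c (σ * τ) = rs S.X₁ (act p L' σ) (c τ) + c σ := by
    intro σ τ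
    refine SiteBase.sheaf_app_injective S.f _ ?_
    refine (hc (σ * τ)).trans ?_
    refine Eq.trans ?_ (map_add _ _ _).symm
    refine Eq.trans ?_ (congrArg (· + _) (rs_nat S.f (act p L' σ) (c τ)))
    rw [hc, hc]
    simp only [d, map_sub, rs_comp, act_comp]
    abel
  obtain ⟨b, hb⟩ := hcoc L' c hcc
  let a' := a - (S.f.hom.app (op (vObj p L'))).hom b
  have hinv : ∀ σ, rs S.X₂ (act p L' σ) a' = a' := by
    intro σ
    rw [← sub_eq_zero]
    have h1 := hc σ
    rw [hb σ, map_sub, ← rs_nat] at h1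
    simp only [a', map_sub]
    refine Eq.trans ?_ (sub_eq_zero.2 h1.symm)
    simp only [d]
    abel
  obtain ⟨a₀, ha₀, -⟩ := exists_descent_galois p L' S.X₂ a' hinv
  refine ⟨a₀, (exists_descent_galois p L' S.X₃ (rs S.X₃ (proj p L') s)
    fun τ => by rw [rs_comp, act_proj]).unique ?_ rfl⟩
  rw [rs_nat, ha₀]
  refine (map_sub _ _ _).trans ?_
  rw [ha]
  refine (congrArg (_ - ·) ?_).trans (sub_zero _)
  exact congrArg (fun t : S.X₁ ⟶ S.X₃ => (t.hom.app (op _)).hom b) S.zero

/-- If sections over separable points lift, sections over étale schemes over a field lift. -/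
theorem exists_lift_sections_of_lift {S : ShortComplex (EtCoh.Ab (Spec (CommRingCat.of k)))}
    (hlift : ∀ (L : Type u) [Field L]
      (p : Spec (CommRingCat.of L) ⟶ Spec (CommRingCat.of k)) [AlgebraicGeometry.Etale p]
      (s : EtCoh.sect S.X₃ (pObj p)), ∃ a, (S.g.hom.app (op (pObj p))).hom a = s)
    (U : (Spec (CommRingCat.of k)).Etale) (s : EtCoh.sect S.X₃ U) :
    ∃ a, (S.g.hom.app (op U)).hom a = s := by
  choose a ha using fun w : U.left =>
    hlift (U.left.residueField w) (U.left.fromSpecResidueField w ≫ strMap U) (rs S.X₃ (ptι U w) s)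
  obtain ⟨t, ht, -⟩ := existsUnique_points U S.X₂ a
  refine ⟨t, (existsUnique_points U S.X₃ fun w => rs S.X₃ (ptι U w) s).unique (fun w => ?_)
    fun w => rfl⟩
  rw [rs_nat, ht w]
  exact ha w

/-- If cocycles are coboundaries at all points, sections over quasi-compact étale schemes over a
field lift. -/
theorem exists_lift_sections {S : ShortComplex (EtCoh.Ab (Spec (CommRingCat.of k)))}
    (hS : S.ShortExact) (hcoc : ∀ (L : Type u) [Field L]
      (p : Spec (CommRingCat.of L) ⟶ Spec (CommRingCat.of k)) [AlgebraicGeometry.Etale p],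
      Coboundaries S.X₁ p)
    (U : (Spec (CommRingCat.of k)).Etale) (s : EtCoh.sect S.X₃ U) :
    ∃ a, (S.g.hom.app (op U)).hom a = s :=
  exists_lift_sections_of_lift (fun L _ p _ s => exists_lift_of_coboundaries hS p (hcoc L p) s) U s

/-- `H¹` of a field vanishes if all Galois cocycles at finite levels are coboundaries. -/
theorem subsingleton_H1 (F : EtCoh.Ab (Spec (CommRingCat.of k)))
    (hcoc : Coboundaries (L := k) F (𝟙 (Spec (CommRingCat.of k)))) :
    Subsingleton (EtCoh.H (Spec (CommRingCat.of k)) F 1) := by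
  let X := Spec (CommRingCat.of k)
  let Q := Classical.arbitrary (InjectivePresentation F)
  have hS := Q.shortExact_shortComplex
  let S := Q.shortComplex
  haveI : Injective S.X₂ := Q.injective
  refine subsingleton_of_forall_eq 0 fun x => ?_
  obtain ⟨y, rfl⟩ := Ext.covariant_sequence_exact₁ _ hS x (Ext.eq_zero_of_injective _)
    (rfl : 0 + 1 = 1)
  let hT := EtFound.topIsTerminal X
  obtain ⟨a₀, hga⟩ := exists_lift_of_coboundaries hS (L := k) (𝟙 X) hcoc
    (Sheaf.H.equiv₀ S.X₃ hT y : EtCoh.sect S.X₃ (pObj (L := k) (𝟙 X)))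
  have hy : y = ((Sheaf.H.equiv₀ S.X₂ hT).symm a₀).comp (Ext.mk₀ S.g) (add_zero 0) :=
    ((Sheaf.H.equiv₀ S.X₃ hT).symm_apply_apply y).symm.trans
      ((congrArg (Sheaf.H.equiv₀ S.X₃ hT).symm hga.symm).trans
        (Sheaf.H.equiv₀_symm_naturality hT S.g a₀).symm)
  rw [hy, Ext.comp_assoc_of_second_deg_zero, hS.comp_extClass, Ext.comp_zero]

/-- Noether's form of Hilbert 90 for the sections of `G_m` over a separable point. -/
theorem coboundaries_Gm {X : Scheme.{u}} {L : Type u} [Field L]
    (p : Spec (CommRingCat.of L) ⟶ X) [AlgebraicGeometry.Etale p] :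
    Coboundaries (EtCoh.Gm X) p := by
  intro L' _ _ _ _ c hc
  let e : Γ(Spec (CommRingCat.of L'), ⊤) →* L' :=
    (Scheme.ΓSpecIso (CommRingCat.of L')).hom.hom.toMonoidHom
  let e' : L' →* Γ(Spec (CommRingCat.of L'), ⊤) :=
    (Scheme.ΓSpecIso (CommRingCat.of L')).inv.hom.toMonoidHom
  let un : EtCoh.sect (EtCoh.Gm X) (vObj p L') → Γ(Spec (CommRingCat.of L'), ⊤)ˣ :=
    fun z => z.down.toMul
  let u : (L' ≃ₐ[L] L') → L'ˣ := fun σ => Units.map e (un (c σ))
  have he : ∀ (σ : L' ≃ₐ[L] L') (z : Γ(Spec (CommRingCat.of L'), ⊤)),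
      e ((Spec.map (CommRingCat.ofHom σ.toAlgHom.toRingHom)).appTop z) = σ (e z) := fun σ z =>
    ConcreteCategory.congr_hom
      (Scheme.ΓSpecIso_naturality (CommRingCat.ofHom σ.toAlgHom.toRingHom)) z
  have hu : groupCohomology.IsMulCocycle₁ u := by
    intro σ τ
    refine Units.ext ?_
    show e (un (c (σ * τ))).val = σ (e (un (c τ)).val) * e (un (c σ)).val
    rw [← he, ← map_mul, hc σ τ]
    rfl
  obtain ⟨β, hβ⟩ := groupCohomology.isMulCoboundary₁_of_isMulCocycle₁_of_aut_to_units u hu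
  refine ⟨ULift.up (Additive.ofMul (Units.map e' β)), fun σ => ?_⟩
  refine ULift.ext _ _ (Additive.toMul.injective ?_)
  refine Units.map_injective (f := e)
    (Scheme.ΓSpecIso (CommRingCat.of L')).commRingCatIsoToRingEquiv.injective ?_
  refine (hβ σ).symm.trans ?_
  have hee : ∀ z, e (e' z) = z := fun z =>
    (Scheme.ΓSpecIso (CommRingCat.of L')).inv_hom_id_apply z
  show _ = Units.map e (_ / Units.map e' β)
  rw [map_div]
  refine congrArg₂ (· / ·) (Units.ext ?_) (Units.ext ?_)
  · show σ (β : L') = e ((Spec.map (CommRingCat.ofHom σ.toAlgHom.toRingHom)).appTop (e' β))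
    rw [he, hee]
  · show (β : L') = e (e' β)
    rw [hee]

/-- Hilbert 90 on the étale site of a field. -/
theorem subsingleton_H1_Gm (k : Type u) [Field k] :
    Subsingleton (EtCoh.H (Spec (CommRingCat.of k)) (EtCoh.Gm (Spec (CommRingCat.of k))) 1) :=
  subsingleton_H1 _ (coboundaries_Gm (L := k) (𝟙 _))

variable {X : Scheme.{u}} {M : Type} [AddCommGroup M]

/-- The constant presheaf. -/
noncomputable abbrev cP (X : Scheme.{u}) (M : Type) [AddCommGroup M] :
    X.Etaleᵒᵖ ⥤ AddCommGrpCat.{u + 1} :=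
  (Functor.const X.Etaleᵒᵖ).obj (AddCommGrpCat.of (ULift.{u + 1} M))

/-- The section defined by a constant. -/
noncomputable abbrev cst (U : X.Etale) (m : ULift.{u + 1} M) : EtCoh.sect (EtCoh.const X M) U :=
  ((toSheafify X.smallEtaleTopology (cP X M)).app (op U)).hom m

theorem rs_cst {U V : X.Etale} (g : V ⟶ U) (m : ULift.{u + 1} M) :
    rs (EtCoh.const X M) g (cst U m) = cst V m :=
  (ConcreteCategory.congr_hom ((toSheafify X.smallEtaleTopology (cP X M)).naturality g.op) m).symm

theorem exists_cst (U : X.Etale) (y : EtCoh.sect (EtCoh.const X M) U) (x : U.left) :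
    ∃ (W : X.Etale) (g : W ⟶ U) (w : W.left) (m : ULift.{u + 1} M),
      g.left.base w = x ∧ rs _ g y = cst W m := by
  haveI : LocallySmall.{u + 1} X.Etale := ⟨fun _ _ => inferInstance⟩
  obtain ⟨W, g, w, ⟨m, hm⟩, hw⟩ := (EtFound.mem_topology_iff _).1
    (Presheaf.imageSieve_mem X.smallEtaleTopology (toSheafify X.smallEtaleTopology (cP X M))
      (U := op U) y) x
  exact ⟨W, g, w, m, hw, hm.symm⟩

theorem eq_zero_of_cst_eq_zero (W : X.Etale) (w : W.left) (m : ULift.{u + 1} M)
    (h : cst W m = 0) : m = 0 := by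
  haveI : LocallySmall.{u + 1} X.Etale := ⟨fun _ _ => inferInstance⟩
  obtain ⟨V, g, v, hg, -⟩ := (EtFound.mem_topology_iff _).1
    (Presheaf.equalizerSieve_mem X.smallEtaleTopology (toSheafify X.smallEtaleTopology (cP X M))
      (X := op W) m 0 (h.trans (map_zero _).symm)) w
  exact hg

theorem eq_zero_of_nsmul [IsAddTorsionFree M] (U : X.Etale) (n : ℕ) (hn : 0 < n)
    (y : EtCoh.sect (EtCoh.const X M) U) (hy : n • y = 0) : y = 0 := by
  refine ext_of_local _ U y 0 fun x => ?_
  obtain ⟨W, g, w, m, hw, hm⟩ := exists_cst U y x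
  refine ⟨W, g, w, hw, ?_⟩
  rw [map_zero, hm]
  have h0 : n • m = 0 := eq_zero_of_cst_eq_zero W w _ (by
    show ((toSheafify X.smallEtaleTopology (cP X M)).app (op W)).hom (n • m) = 0
    rw [map_nsmul]
    exact (congrArg (n • ·) hm.symm).trans ((map_nsmul (rs _ g) n y).symm.trans
      ((congrArg (rs _ g) hy).trans (map_zero _))))
  have : m = 0 := ULift.ext _ _ (IsAddTorsionFree.nsmul_right_injective hn.ne'
    ((congrArg ULift.down h0).trans (smul_zero n).symm))
  rw [this]
  exact map_zero _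

theorem act_trivial {L : Type u} [Field L] (p : Spec (CommRingCat.of L) ⟶ X)
    [AlgebraicGeometry.Etale p] (L' : Type u) [Field L'] [Algebra L L'] [Module.Finite L L']
    [Algebra.IsSeparable L L'] (h : vObj p L' ⟶ vObj p L')
    (y : EtCoh.sect (EtCoh.const X M) (vObj p L')) : rs _ h y = y := by
  obtain ⟨W, g, w, m, -, hm⟩ := exists_cst (vObj p L') y (IsLocalRing.closedPoint L')
  refine ext_of_local _ _ _ _ fun x => ?_
  let gl : W.left ⟶ Spec (CommRingCat.of L') := g.left
  let hl : Spec (CommRingCat.of L') ⟶ Spec (CommRingCat.of L') := h.left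
  haveI : AlgebraicGeometry.Etale (W.hom : W.left ⟶ X) := W.prop
  haveI : AlgebraicGeometry.Etale gl := EtFound.etale_left g
  haveI : AlgebraicGeometry.Etale hl := EtFound.etale_left h
  haveI : AlgebraicGeometry.Etale (pullback.fst gl (gl ≫ hl)) :=
    MorphismProperty.pullback_fst _ _ inferInstance
  let W₂ : X.Etale := Scheme.Etale.mk (pullback.fst gl (gl ≫ hl) ≫ (W.hom : W.left ⟶ X))
  let p₁ : W₂ ⟶ W := MorphismProperty.Over.homMk (pullback.fst gl (gl ≫ hl)) rfl
  let p₂ : W₂ ⟶ W := MorphismProperty.Over.homMk (pullback.snd gl (gl ≫ hl)) (by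
    show pullback.snd gl (gl ≫ hl) ≫ W.hom = pullback.fst gl (gl ≫ hl) ≫ W.hom
    have e1 : (W.hom : W.left ⟶ X) = gl ≫ specExt (L := L) L' ≫ p := (MorphismProperty.Over.w g).symm
    have e2 : hl ≫ specExt (L := L) L' ≫ p = specExt (L := L) L' ≫ p := MorphismProperty.Over.w h
    rw [e1]
    conv_lhs => rw [← e2]
    rw [← Category.assoc gl hl, ← Category.assoc, ← Category.assoc (pullback.fst gl (gl ≫ hl)),
      pullback.condition])
  obtain ⟨z, -, -⟩ := Scheme.Pullback.exists_preimage_pullback (f := gl) (g := gl ≫ hl) w w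
    (Subsingleton.elim (α := Spec (CommRingCat.of L')) _ _)
  refine ⟨W₂, p₂ ≫ g, z, Subsingleton.elim (α := Spec (CommRingCat.of L')) _ _, ?_⟩
  have hcomm : (p₂ ≫ g) ≫ h = p₁ ≫ g := MorphismProperty.Over.Hom.ext (by
    show (pullback.snd gl (gl ≫ hl) ≫ gl) ≫ hl = pullback.fst gl (gl ≫ hl) ≫ gl
    rw [pullback.condition, Category.assoc])
  rw [rs_comp, hcomm, ← rs_comp, ← rs_comp, hm, rs_cst, rs_cst]

/-- Cocycles with torsion-free constant values are trivial. -/
theorem coboundaries_const {X : Scheme.{u}} (M : Type) [AddCommGroup M] [IsAddTorsionFree M]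
    {L : Type u} [Field L] (p : Spec (CommRingCat.of L) ⟶ X) [AlgebraicGeometry.Etale p] :
    Coboundaries (EtCoh.const X M) p := by
  intro L' _ _ _ _ c hc
  have hhom : ∀ σ τ, c (σ * τ) = c τ + c σ := fun σ τ => by
    rw [hc, act_trivial p L']
  have h1 : c 1 = 0 := by simpa using hhom 1 1
  refine ⟨0, fun σ => ?_⟩
  rw [map_zero, sub_zero]
  have hpow : ∀ n : ℕ, c (σ ^ n) = n • c σ := by
    intro n
    induction n with
    | zero => rw [pow_zero, zero_smul, h1]
    | succ n ih => rw [pow_succ, hhom, ih, succ_nsmul, add_comm]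
  exact eq_zero_of_nsmul _ (orderOf σ) (orderOf_pos σ) _
    ((hpow _).symm.trans (by rw [pow_orderOf_eq_one, h1]))

/-- `H¹` of a field with torsion-free constant coefficients vanishes. -/
theorem subsingleton_H1_const (k : Type u) [Field k] (M : Type) [AddCommGroup M]
    [IsAddTorsionFree M] :
    Subsingleton (EtCoh.H (Spec (CommRingCat.of k)) (EtCoh.const (Spec (CommRingCat.of k)) M) 1) :=
  subsingleton_H1 _ (coboundaries_const M (L := k) (𝟙 _))

end Groth.Agent.DixBrauer.FieldH1
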