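import Groth.Prelude.Def_Dix
import Groth.Agent.S0108
import Groth.Agent.SiteBase.AbSecExact
import Mathlib.Algebra.Homology.DerivedCategory.Ext.ExactSequences

/-!
Consequences of the Kummer sequence for the cohomology of `G_m`.
-/

universe w v u

set_option linter.style.haveILetI false

open CategoryTheory CategoryTheory.Limits CategoryTheory.Abelian AlgebraicGeometry Opposite

namespace Groth.Agent.DixBrauer.Kummer

section General

variable {C : Type u} [Category.{v} C] [Abelian C] [HasExt.{w} C]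

theorem comp_mk₀_nsmul_id {P M : C} {i : ℕ} (ξ : Ext P M i) (n : ℕ) :
    ξ.comp (Ext.mk₀ (n • 𝟙 M)) (add_zero i) = n • ξ := by
  have h1 : Ext.mk₀ (n • 𝟙 M) = n • (Ext.mk₀ (𝟙 M)) := map_nsmul Ext.addEquiv₀.symm n (𝟙 M)
  rw [h1]
  induction n with
  | zero => simp
  | succ n ih =>
    rw [succ_nsmul, succ_nsmul, Ext.comp_add, ih (map_nsmul Ext.addEquiv₀.symm n (𝟙 M)),
      Ext.comp_mk₀_id]

omit [HasExt.{w} C] in
theorem nsmul_id_comp {M N : C} (f : M ⟶ N) (n : ℕ) : (n • 𝟙 M) ≫ f = n • f := by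
  induction n with
  | zero => simp
  | succ n ih => simp [succ_nsmul, Preadditive.add_comp, ih]

omit [HasExt.{w} C] in
theorem comp_nsmul_id {M N : C} (f : M ⟶ N) (n : ℕ) : f ≫ (n • 𝟙 N) = n • f := by
  induction n with
  | zero => simp
  | succ n ih => simp [succ_nsmul, Preadditive.comp_add, ih]

/-- Kummer short exact sequence: multiplication by `n` is epi. -/
theorem range_eq_torsion {M : C} (n : ℕ) [Epi (n • 𝟙 M)] (P : C) (i : ℕ) :
    Set.range (fun ζ : Ext P (kernel (n • 𝟙 M)) i => ζ.comp (Ext.mk₀ (kernel.ι _)) (add_zero i)) =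
      {ξ : Ext P M i | n • ξ = 0} := by
  let S := ShortComplex.mk (kernel.ι (n • 𝟙 M)) (n • 𝟙 M) (kernel.condition _)
  have hS : S.ShortExact :=
    { exact := ShortComplex.exact_of_f_is_kernel _ (kernelIsKernel _)
      mono_f := inferInstanceAs (Mono (kernel.ι _))
      epi_g := inferInstanceAs (Epi (n • 𝟙 M)) }
  ext ξ
  constructor
  · rintro ⟨ζ, rfl⟩
    show n • _ = 0
    rw [← comp_mk₀_nsmul_id, Ext.comp_assoc_of_second_deg_zero, Ext.mk₀_comp_mk₀, kernel.condition,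
      Ext.mk₀_zero, Ext.comp_zero]
  · intro hξ
    exact Ext.covariant_sequence_exact₂ P hS (show Ext P S.X₂ i from ξ)
      ((comp_mk₀_nsmul_id (M := M) ξ n).trans hξ)

theorem eq_zero_of_nsmul_eq_zero {M : C} (n : ℕ) (P : C) (i : ℕ)
    (hK : Subsingleton (Ext P (kernel (n • 𝟙 M)) (i + 1)))
    (hQ : Subsingleton (Ext P (cokernel (n • 𝟙 M)) i))
    (ξ : Ext P M (i + 1)) (hξ : n • ξ = 0) : ξ = 0 := by
  let f : M ⟶ M := n • 𝟙 M
  let S₁ := ShortComplex.mk (kernel.ι f) (Abelian.factorThruImage f)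
    (by rw [← cancel_mono (Abelian.image.ι f), Category.assoc, Abelian.image.fac, kernel.condition,
      zero_comp])
  have hS₁ : S₁.ShortExact :=
    { exact := ShortComplex.exact_of_f_is_kernel _ (KernelFork.IsLimit.ofι' _ _ fun g hg =>
        ⟨kernel.lift f g (by rw [← Abelian.image.fac f, ← Category.assoc, hg, zero_comp]),
          kernel.lift_ι ..⟩)
      mono_f := inferInstanceAs (Mono (kernel.ι f))
      epi_g := inferInstanceAs (Epi (Abelian.factorThruImage f)) }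
  let S₂ := ShortComplex.mk (Abelian.image.ι f) (cokernel.π f) (kernel.condition _)
  have hS₂ : S₂.ShortExact :=
    { exact := ShortComplex.exact_of_f_is_kernel _ (kernelIsKernel _)
      mono_f := inferInstanceAs (Mono (Abelian.image.ι f))
      epi_g := inferInstanceAs (Epi (cokernel.π f)) }
  have h0 : (ξ.comp (Ext.mk₀ S₁.g) (add_zero (i + 1))).comp (Ext.mk₀ S₂.f) (add_zero (i + 1)) = 0 := by
    rw [Ext.comp_assoc_of_second_deg_zero, Ext.mk₀_comp_mk₀]
    show ξ.comp (Ext.mk₀ (Abelian.factorThruImage f ≫ Abelian.image.ι f)) _ = 0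
    rw [Abelian.image.fac, comp_mk₀_nsmul_id, hξ]
  obtain ⟨η, hη⟩ := Ext.covariant_sequence_exact₁ P hS₂ _ h0 (rfl : i + 1 = i + 1)
  rw [show η = 0 from hQ.elim _ _, Ext.zero_comp] at hη
  obtain ⟨ζ, rfl⟩ := Ext.covariant_sequence_exact₂ P hS₁ (show Ext P S₁.X₂ (i + 1) from ξ) hη.symm
  rw [show ζ = 0 from hK.elim _ _, Ext.zero_comp]

end General

variable {X : Scheme.{u}}

theorem isUnit_natCast {n : ℕ} (hX : Dix.InvertibleOn X n) : IsUnit (n : Γ(X, ⊤)) := by
  refine X.toRingedSpace.isUnit_of_isUnit_germ ⊤ _ fun x _ => ?_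
  have h := hX x
  show IsUnit ((X.presheaf.germ ⊤ x trivial).hom (n : Γ(X, ⊤)))
  rw [map_natCast, ← IsLocalRing.residue_ne_zero_iff_isUnit, map_natCast]
  exact h

theorem epi_powMap {n : ℕ} (hX : Dix.InvertibleOn X n) : Epi (EtCoh.powMap X n) :=
  S0108.result X n (isUnit_natCast hX)

theorem killed_of_nsmul_id {F : EtCoh.Ab X} {n : ℕ} (h : n • 𝟙 F = 0) (U : X.Etale)
    (s : EtCoh.sect F U) : n • s = 0 := by
  let Ev : (F ⟶ F) →+ F.obj.obj (op U) :=
    AddMonoidHom.mk' (fun ψ => (ψ.hom.app (op U)).hom s) (fun _ _ => rfl)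
  exact (map_nsmul Ev n (𝟙 F)).symm.trans ((congrArg Ev h).trans (map_zero Ev))

theorem isPrimaryTorsion_of_nsmul_id {F : EtCoh.Ab X} {ℓ : ℕ} (h : ℓ • 𝟙 F = 0) :
    Dix.IsPrimaryTorsion ℓ F := fun U s x =>
  ⟨U, 𝟙 U, ⟨x, rfl⟩, 1, by rw [pow_one]; exact killed_of_nsmul_id h U _⟩

end Groth.Agent.DixBrauer.Kummer
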