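import Groth.Agent.CdLib.PointPush
import Groth.Agent.DixBrauer.GmComp
import Groth.Agent.H23.FiniteFibreSum
import Groth.Agent.EtFound.PushOutside
import Groth.Agent.DixBrauer.NormGm
import Groth.Agent.EtFound.Germ
import Mathlib.AlgebraicGeometry.PullbackCarrier
import Mathlib.Topology.DiscreteSubset

/-!
The pullback of `G_m` along a flat preimmersion of a point is `G_m`.
-/

universe u

set_option linter.style.haveILetI false
set_option backward.isDefEq.respectTransparency.types false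

open CategoryTheory CategoryTheory.Limits AlgebraicGeometry Opposite

namespace Groth.Agent.DixBrauer.GenericPoint

open NormGm

variable {T X : Scheme.{u}} (ι : T ⟶ X) [IsPreimmersion ι] [Flat ι] {x : X}
  (hrange : Set.range ι.base = {x})

instance isPreimmersion_pr (U : X.Etale) : IsPreimmersion (pr ι U) :=
  MorphismProperty.pullback_fst _ _ inferInstance

instance flat_pr (U : X.Etale) : Flat (pr ι U) := MorphismProperty.pullback_fst _ _ inferInstance

omit [Flat ι] [IsPreimmersion ι] in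
include hrange in
theorem range_pr (U : X.Etale) : Set.range (pr ι U).base = U.hom.base ⁻¹' {x} := by
  rw [← hrange]
  exact Scheme.Pullback.range_fst _ _

omit [Flat ι] [IsPreimmersion ι] in
theorem exists_nhd_lift_gen {P Y : Scheme.{u}} (q : P ⟶ Y) (hinj : Function.Injective q.base)
    (p : P) (hbij : Function.Surjective (q.stalkMap p).hom)
    (O₁ : Y.Opens) (hp₁ : q.base p ∈ O₁) (hO₁ : ∀ a : P, q.base a ∈ O₁ → q.base a = q.base p)
    (t : Γ(P, ⊤)ˣ) :
    ∃ O : Y.Opens, q.base p ∈ O ∧ ∃ s : Γ(Y, O), IsUnit s ∧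
      (q.appLE O (q ⁻¹ᵁ O) le_rfl).hom s = (P.presheaf.map (homOfLE (le_top : q ⁻¹ᵁ O ≤ ⊤)).op).hom (t : Γ(P, ⊤)) := by
  obtain ⟨g, hg⟩ := hbij (P.presheaf.germ ⊤ p trivial (t : Γ(P, ⊤)))
  have hgu : IsUnit g := by
    haveI := q.toLRSHom.prop p
    refine IsUnit.of_map (q.stalkMap p).hom g ?_
    rw [hg]
    exact (t.isUnit).map (P.presheaf.germ ⊤ p trivial).hom
  obtain ⟨O₂, hO₂, s₀, hs₀⟩ := Y.presheaf.exists_germ_eq g
  have hmem : q.base p ∈ Y.basicOpen s₀ := by
    rw [Scheme.mem_basicOpen Y s₀ _ hO₂, hs₀]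
    exact hgu
  let O := O₁ ⊓ Y.basicOpen s₀
  have hle : O ≤ O₂ := inf_le_right.trans (Y.basicOpen_le s₀)
  have hunit : IsUnit ((Y.presheaf.map (homOfLE hle).op).hom s₀) := by
    have h := (RingedSpace.isUnit_res_basicOpen Y.toLocallyRingedSpace.toRingedSpace s₀).map
      (Y.presheaf.map (homOfLE (inf_le_right : O ≤ Y.basicOpen s₀)).op).hom
    rw [show Y.presheaf.map (homOfLE hle).op = Y.presheaf.map (homOfLE (Y.basicOpen_le s₀)).op ≫
      Y.presheaf.map (homOfLE (inf_le_right : O ≤ Y.basicOpen s₀)).op from by rw [← Functor.map_comp]; rfl]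
    exact h
  refine ⟨O, ⟨hp₁, hmem⟩, _, hunit, ?_⟩
  refine TopCat.Presheaf.section_ext P.sheaf _ _ _ fun a ha => ?_
  obtain rfl : a = p := hinj (hO₁ a ha.1)
  show (P.presheaf.germ (q ⁻¹ᵁ O) a ha).hom ((q.appLE O (q ⁻¹ᵁ O) le_rfl).hom _) =
    (P.presheaf.germ (q ⁻¹ᵁ O) a ha).hom ((P.presheaf.map _).hom (t : Γ(P, ⊤)))
  rw [Scheme.Hom.appLE, ← ConcreteCategory.comp_apply, ← ConcreteCategory.comp_apply,
    ← ConcreteCategory.comp_apply]
  refine Eq.trans ?_ ((congrArg (fun φ => φ.hom (t : Γ(P, ⊤))) (P.presheaf.germ_res _ _ ha)).symm)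
  rw [← hg]
  rw [← hs₀]
  simp [Scheme.Hom.germ_stalkMap_apply]

include hrange in
/-- A unit trivial on the fibre is trivial near the fibre. -/
theorem exists_nhd_eq_one (U : X.Etale) (u : U.left) (hu : U.hom.base u = x) (s : Γ(U.left, ⊤)ˣ)
    (hs : Units.map (pr ι U).appTop.hom.toMonoidHom s = 1) :
    ∃ O : U.left.Opens, u ∈ O ∧ U.left.presheaf.map (homOfLE (le_top : O ≤ ⊤)).op (s : Γ(U.left, ⊤)) = 1 := by
  obtain ⟨p, rfl⟩ : u ∈ Set.range (pr ι U).base := by rw [range_pr ι hrange]; exact hu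
  have h1 : ((pr ι U).stalkMap p).hom (U.left.presheaf.germ ⊤ _ trivial (s : Γ(U.left, ⊤))) =
      ((pr ι U).stalkMap p).hom (U.left.presheaf.germ ⊤ _ trivial (1 : Γ(U.left, ⊤))) := by
    rw [Scheme.Hom.germ_stalkMap_apply, Scheme.Hom.germ_stalkMap_apply, map_one]
    exact congrArg _ (congrArg Units.val hs)
  obtain ⟨O, hO, i₁, i₂, h2⟩ := U.left.presheaf.germ_eq (U := ⊤) (V := ⊤) ((pr ι U).base p) trivial trivial _ _
    ((H23.FiniteFibreSum.bijective_stalkMap (pr ι U) p).1 h1)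
  refine ⟨O, hO, ?_⟩
  exact (h2.trans (map_one (CommRingCat.Hom.hom (U.left.presheaf.map i₂.op))))

omit [Flat ι] in
include hrange in
/-- A unit on the fibre extends near each point of the fibre. -/
theorem exists_nhd_lift (U : X.Etale) (u : U.left) (hu : U.hom.base u = x)
    (t : Γ(((EtCoh.bc ι).obj U).left, ⊤)ˣ) :
    ∃ O : U.left.Opens, u ∈ O ∧ ∃ s : Γ((EtFound.restrictEtale U O).left, ⊤)ˣ,
      Units.map (pr ι (EtFound.restrictEtale U O)).appTop.hom.toMonoidHom s =
        Units.map ((EtCoh.bc ι).map (EtFound.restrictEtaleHom U O)).left.appTop.hom.toMonoidHom t := by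
  haveI : AlgebraicGeometry.Etale U.hom := U.prop
  haveI : LocallyQuasiFinite U.hom := inferInstance
  obtain ⟨O₁, hO₁, hO₁'⟩ := isDiscrete_iff_forall_mem_exists_isOpen.1
    (U.hom.isDiscrete_preimage_singleton x) u hu
  obtain ⟨p, rfl⟩ : u ∈ Set.range (pr ι U).base := by rw [range_pr ι hrange]; exact hu
  obtain ⟨O, hpO, s, hs, heq⟩ := exists_nhd_lift_gen (pr ι U) (pr ι U).isEmbedding.injective p
    ((pr ι U).stalkMap_surjective p) ⟨O₁, hO₁⟩ (hO₁'.ge rfl).1
    (fun a ha => hO₁'.le ⟨ha, (range_pr ι hrange U).le ⟨a, rfl⟩⟩) t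
  refine ⟨O, hpO, (hs.map (O.ι.appLE O ⊤ (by rw [Scheme.Opens.ι_preimage_self])).hom).unit, Units.ext ?_⟩
  let b := ((EtCoh.bc ι).map (EtFound.restrictEtaleHom U O)).left
  let W := EtFound.restrictEtale U O
  have hw : b ≫ pr ι U = pr ι W ≫ O.ι := (EtCoh.isPullback_bc_map ι (EtFound.restrictEtaleHom U O)).w
  have e : (⊤ : ((EtCoh.bc ι).obj W).left.Opens) ≤ b ⁻¹ᵁ (pr ι U ⁻¹ᵁ O) := fun a _ => by
    show (pr ι U).base (b.base a) ∈ O
    rw [← Scheme.Hom.comp_apply, hw, Scheme.Hom.comp_apply]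
    exact ((pr ι W).base a).2
  show (pr ι W).appTop.hom ((O.ι.appLE O ⊤ _).hom s) = b.appTop.hom (t : Γ(((EtCoh.bc ι).obj U).left, ⊤))
  have h1 := congrArg (b.appLE (pr ι U ⁻¹ᵁ O) ⊤ e).hom heq
  rw [← ConcreteCategory.comp_apply, ← ConcreteCategory.comp_apply, Scheme.Hom.map_appLE,
    Scheme.Hom.appLE_comp_appLE] at h1
  refine Eq.trans ?_ (h1.trans ?_)
  · rw [Scheme.Hom.appTop, Scheme.Hom.app_eq_appLE]
    erw [← CommRingCat.comp_apply, Scheme.Hom.appLE_comp_appLE]
    congr 3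
    exact hw.symm
  · rw [Scheme.Hom.appTop, Scheme.Hom.app_eq_appLE]; rfl

omit [Flat ι] in
include hrange in
/-- `G_m ⟶ ι_* G_m` is surjective on the stalks over the point. -/
theorem surjective_stalk_GmPush {Ω : Type u} [Field Ω] [IsSepClosed Ω]
    (ξ : Spec (CommRingCat.of Ω) ⟶ X) (hξ : ξ.base (default : Spec (CommRingCat.of Ω)) = x) :
    Function.Surjective ((Scheme.pointSmallEtale ξ).sheafFiber.map (EtLim.GmPush ι)) := by
  let Φ := Scheme.pointSmallEtale ξ
  have hpt : ∀ (U : X.Etale) (v : Φ.fiber.obj U),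
      U.hom.base ((v.left : Spec (CommRingCat.of Ω) ⟶ U.left).base (default : Spec (CommRingCat.of Ω))) = x := by
    intro U v
    refine Eq.trans ?_ hξ
    exact (Scheme.Hom.comp_apply _ _ _).symm.trans
      (congrArg (fun a : Spec (CommRingCat.of Ω) ⟶ X => a.base (default : Spec (CommRingCat.of Ω)))
        (CategoryTheory.Over.w v))
  intro a
  obtain ⟨U, v, z, rfl⟩ := Φ.toPresheafFiber_jointly_surjective a
  obtain ⟨O, hO, s, hs⟩ := exists_nhd_lift ι hrange U _ (hpt U v) (un (U := (EtCoh.bc ι).obj U) z)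
  obtain ⟨v', hv', -⟩ := EtFound.exists_lift_point (EtFound.restrictEtaleHom U O) v ⟨_, hO⟩ rfl
  refine ⟨Φ.toPresheafFiber (EtFound.restrictEtale U O) v' (EtCoh.Gm X).obj (mk _ s), ?_⟩
  refine (ConcreteCategory.congr_hom
    (Φ.toPresheafFiber_naturality (EtLim.GmPush ι).hom _ v') (mk _ s)).trans ?_
  subst hv'
  refine Eq.trans ?_ (Φ.toPresheafFiber_w_apply (EtFound.restrictEtaleHom U O) v' _ z)
  change Φ.toPresheafFiber (EtFound.restrictEtale U O) v' ((EtCoh.push ι).obj (EtCoh.Gm T)).obj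
      ((EtLim.GmPush ι).hom.app (op (EtFound.restrictEtale U O)) (mk _ s)) =
    Φ.toPresheafFiber (EtFound.restrictEtale U O) v' ((EtCoh.push ι).obj (EtCoh.Gm T)).obj
      (((EtCoh.push ι).obj (EtCoh.Gm T)).obj.map (EtFound.restrictEtaleHom U O).op z)
  refine congrArg _ ?_
  exact NormGm.un_injective ((EtCoh.bc ι).obj (EtFound.restrictEtale U O)) hs

include hrange in
/-- `G_m ⟶ ι_* G_m` is bijective on the stalks over the point. -/
theorem bijective_stalk_GmPush {Ω : Type u} [Field Ω] [IsSepClosed Ω]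
    (ξ : Spec (CommRingCat.of Ω) ⟶ X) (hξ : ξ.base (default : Spec (CommRingCat.of Ω)) = x) :
    Function.Bijective ((Scheme.pointSmallEtale ξ).sheafFiber.map (EtLim.GmPush ι)) := by
  let Φ := Scheme.pointSmallEtale ξ
  have hpt : ∀ (U : X.Etale) (v : Φ.fiber.obj U),
      U.hom.base ((v.left : Spec (CommRingCat.of Ω) ⟶ U.left).base (default : Spec (CommRingCat.of Ω))) = x := by
    intro U v
    refine Eq.trans ?_ hξ
    exact (Scheme.Hom.comp_apply _ _ _).symm.trans
      (congrArg (fun a : Spec (CommRingCat.of Ω) ⟶ X => a.base (default : Spec (CommRingCat.of Ω)))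
        (CategoryTheory.Over.w v))
  refine ⟨?_, fun a => ?_⟩
  · refine (injective_iff_map_eq_zero ((Φ.sheafFiber.map (EtLim.GmPush ι)).hom)).2 fun a ha => ?_
    obtain ⟨U, v, z, rfl⟩ := Φ.toPresheafFiber_jointly_surjective a
    have e0 : Φ.toPresheafFiber U v ((EtCoh.push ι).obj (EtCoh.Gm T)).obj ((EtLim.GmPush ι).hom.app (op U) z) =
        Φ.toPresheafFiber U v ((EtCoh.push ι).obj (EtCoh.Gm T)).obj 0 := by
      rw [map_zero]
      exact (ConcreteCategory.congr_hom (Φ.toPresheafFiber_naturality (EtLim.GmPush ι).hom U v) z).symm.trans ha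
    obtain ⟨V, g, w, hw, he⟩ := (Φ.toPresheafFiber_eq_iff' U v _ _).1 e0
    rw [map_zero] at he
    let z' : EtCoh.sect (EtCoh.Gm X) V := (EtCoh.Gm X).obj.map g.op z
    have hz' : (EtLim.GmPush ι).hom.app (op V) z' = 0 :=
      (ConcreteCategory.congr_hom ((EtLim.GmPush ι).hom.naturality g.op) z).trans he
    obtain ⟨O, hO, h1⟩ := exists_nhd_eq_one ι hrange V _ (hpt V w) (un z') (congrArg un hz')
    obtain ⟨w', hw', -⟩ := EtFound.exists_lift_point (EtFound.restrictEtaleHom V O) w ⟨_, hO⟩ rfl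
    subst hw
    refine ((Φ.toPresheafFiber_w_apply g w _ z).symm).trans ?_
    change Φ.toPresheafFiber V w (EtCoh.Gm X).obj z' = 0
    rw [← hw']
    refine ((Φ.toPresheafFiber_w_apply (EtFound.restrictEtaleHom V O) w' _ z').symm).trans ?_
    have hzero : (EtCoh.Gm X).obj.map (EtFound.restrictEtaleHom V O).op z' = 0 := by
      refine NormGm.un_injective (EtFound.restrictEtale V O) (Units.ext ?_)
      show O.ι.appTop.hom (un z' : Γ(V.left, ⊤)) = 1
      have hm : O.ι.appTop = V.left.presheaf.map (homOfLE (le_top : O ≤ ⊤)).op ≫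
          O.ι.appLE O ⊤ (Scheme.Opens.ι_preimage_self O).ge := by
        rw [Scheme.Hom.appTop, Scheme.Hom.app_eq_appLE, Scheme.Hom.map_appLE]
        rfl
      refine (congrArg (fun φ => φ.hom (un z' : Γ(V.left, ⊤))) hm).trans ?_
      exact (congrArg (O.ι.appLE O ⊤ (Scheme.Opens.ι_preimage_self O).ge).hom h1).trans (map_one _)
    rw [hzero]
    exact map_zero _
  · exact surjective_stalk_GmPush ι hrange ξ hξ a

include hrange in
/-- The pullback of `G_m` along the point is `G_m`. -/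
theorem isIso_alpha (hl : EtFound.Liftable ι) : IsIso (GmComp.alpha ι) := by
  haveI : IsIso ((EtCoh.pull ι).map (EtLim.GmPush ι)) := by
    refine EtFound.isIso_of_stalks _ fun k _ _ η => ?_
    have hx : (η ≫ ι).base (default : Spec (CommRingCat.of k)) = x := by
      rw [Scheme.Hom.comp_apply]
      exact hrange.le ⟨_, rfl⟩
    haveI h1 : IsIso ((Scheme.pointSmallEtale (η ≫ ι)).sheafFiber.map (EtLim.GmPush ι)) :=
      (ConcreteCategory.isIso_iff_bijective _).2 (bijective_stalk_GmPush ι hrange (η ≫ ι) hx)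
    exact (ConcreteCategory.isIso_iff_bijective _).1
      ((NatIso.isIso_map_iff (EtFound.sheafFiberPullIso ι η) (EtLim.GmPush ι)).2 h1)
  haveI : IsIso ((EtCoh.pullPushAdj ι).counit.app (EtCoh.Gm T)) := EtFound.counit_isIso ι hl _
  rw [GmComp.alpha, Adjunction.homEquiv_counit]
  infer_instance

end Groth.Agent.DixBrauer.GenericPoint
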