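import Groth.Agent.DixBrauer.CurveH2
import Groth.Agent.DixBrauer.GenericPoint
import Groth.Agent.DixBrauer.GmComp
import Groth.Agent.GrpSchLib.FieldSmooth

/-!
Generic points of reduced schemes and `G_m`.
-/

universe u

set_option linter.style.haveILetI false
set_option backward.isDefEq.respectTransparency.types false

open CategoryTheory CategoryTheory.Limits CategoryTheory.Abelian AlgebraicGeometry Opposite

namespace Groth.Agent.DixBrauer.CurveReduced

open CdLib

variable {X : Scheme.{u}}

theorem range_fromSpecStalk_max {x : X} (hx : ∀ y, y ⤳ x → y = x) :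
    Set.range (X.fromSpecStalk x).base = {x} := by
  ext y
  rw [Scheme.range_fromSpecStalk]
  exact ⟨fun h => hx y h, fun h => h ▸ specializes_refl x⟩

theorem isField_stalk_max [IsReduced X] {x : X} (hx : ∀ y, y ⤳ x → y = x) :
    IsField (X.presheaf.stalk x) := by
  have hr := range_fromSpecStalk_max hx
  have hsub : Subsingleton (PrimeSpectrum (X.presheaf.stalk x)) := ⟨fun a b => by
    refine (X.fromSpecStalk x).isEmbedding.injective ?_
    exact (hr.le ⟨a, rfl⟩).trans (hr.le ⟨b, rfl⟩).symm⟩
  refine IsLocalRing.isField_iff_maximalIdeal_eq.2 ?_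
  refine le_bot_iff.1 fun a ha => ?_
  have : a ∈ nilradical (X.presheaf.stalk x) := by
    rw [nilradical_eq_sInf, Submodule.mem_sInf]
    intro P hP
    have h := hsub.elim ⟨P, hP⟩ ⟨IsLocalRing.maximalIdeal _, inferInstance⟩
    exact (congrArg PrimeSpectrum.asIdeal h).ge ha
  rwa [nilradical_eq_zero] at this

theorem flat_point_max [IsReduced X] {x : X} (hx : ∀ y, y ⤳ x → y = x) :
    Flat (PointPush.ι x) := by
  haveI := GrpSchLib.flat_fromSpecStalk x
  haveI : IsIso (X.residue x) := by
    refine (ConcreteCategory.isIso_iff_bijective _).2 ⟨?_, IsLocalRing.residue_surjective⟩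
    letI := (isField_stalk_max hx).toField
    exact RingHom.injective (IsLocalRing.residue (X.presheaf.stalk x))
  show Flat (Spec.map (X.residue x) ≫ X.fromSpecStalk x)
  infer_instance

theorem isIso_alpha_max [IsReduced X] {x : X} (hx : ∀ y, y ⤳ x → y = x) :
    IsIso (GmComp.alpha (PointPush.ι x)) := by
  haveI := flat_point_max hx
  exact GenericPoint.isIso_alpha (PointPush.ι x) (PointPush.range_ι x) (PointPush.liftable_point x)

theorem isZero_rpush_max [IsReduced X] {x : X} (hx : ∀ y, y ⤳ x → y = x) :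
    IsZero ((EtCoh.Rpush (PointPush.ι x) 1).obj ((EtCoh.pull (PointPush.ι x)).obj (EtCoh.Gm X))) := by
  haveI := isIso_alpha_max hx
  exact IsZero.of_iso (DixBrauer.PointPush.isZero_rpush_one_Gm (k := X.residueField x) (PointPush.ι x))
    ((EtCoh.Rpush (PointPush.ι x) 1).mapIso (asIso (GmComp.alpha (PointPush.ι x))))

theorem Hpull_eq_zero_max [IsReduced X] {x : X} (hx : ∀ y, y ⤳ x → y = x) (n : ℕ)
    (ξ : EtCoh.H X (EtCoh.Gm X) n) (h : EtLim.HGmPull (PointPush.ι x) n ξ = 0) :
    EtCore.Hpull (PointPush.ι x) (EtCoh.Gm X) n ξ = 0 := by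
  haveI := isIso_alpha_max hx
  rw [GmComp.HGmPull_eq] at h
  have hi : Function.Injective ((EtCoh.HF _ n).map (GmComp.alpha (PointPush.ι x))) :=
    ((ConcreteCategory.isIso_iff_bijective _).1 inferInstance).1
  exact hi (h.trans (map_zero _).symm)

theorem maximal_of_phi_eq {d : ℕ} (hdim : topologicalKrullDim X ≤ d) {x : X} (hx : PointDim.phi x = d) :
    ∀ y, y ⤳ x → y = x := fun y hy => by
  by_contra hne
  have h1 := PointDim.phi_lt hdim hy hne
  have h2 := PointDim.phi_le hdim y
  omega

end Groth.Agent.DixBrauer.CurveReduced
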