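import Mathlib.LinearAlgebra.TensorProduct.Basic
import Mathlib.LinearAlgebra.BilinearMap
import Mathlib.LinearAlgebra.Dimension.Free
import Mathlib.RingTheory.Finiteness.Basic
import Mathlib.LinearAlgebra.FreeModule.Finite.Basic
import Mathlib.RingTheory.Ideal.Operations

/-!
Multiplication laws with bijective sandwich map deform along square zero ideals: the obstruction
to associativity is removed with the separability element (vanishing of Hochschild cohomology).
-/

universe u v

namespace Groth.Agent.DixBrauer

open TensorProduct

variable {T : Type u} [CommRing T] {V : Type v} [AddCommGroup V] [Module T V]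

/-- The right association `(a, b, c) ↦ a (b c)` of a bilinear law. -/
def rightAssoc (m : V →ₗ[T] V →ₗ[T] V) : V →ₗ[T] V →ₗ[T] V →ₗ[T] V where
  toFun a := m.compr₂ (m a)
  map_add' a a' := by ext; simp
  map_smul' r a := by ext; simp

/-- The associator of a bilinear law. -/
noncomputable def associatorMap (m : V →ₗ[T] V →ₗ[T] V) : V →ₗ[T] V →ₗ[T] V →ₗ[T] V :=
  m.compr₂ m - rightAssoc m

theorem associatorMap_apply (m : V →ₗ[T] V →ₗ[T] V) (a b c : V) :
    associatorMap m a b c = m (m a b) c - m a (m b c) := rfl

/-- The sandwich map `x ⊗ y ↦ (v ↦ (x v) y)` of a bilinear law. -/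
noncomputable def lawSandwich (m : V →ₗ[T] V →ₗ[T] V) : V ⊗[T] V →ₗ[T] Module.End T V :=
  TensorProduct.lift <| LinearMap.mk₂ T (fun x y => (m.flip y) ∘ₗ (m x))
    (fun x x' y => by ext; simp) (fun r x y => by ext; simp)
    (fun x y y' => by ext; simp) (fun r x y => by ext; simp)

theorem lawSandwich_tmul (m : V →ₗ[T] V →ₗ[T] V) (x y v : V) :
    lawSandwich m (x ⊗ₜ y) v = m (m x v) y := rfl

variable (I : Ideal T)

local notation "W" => (I • ⊤ : Submodule T V)

theorem map_mem_smul_top {U : Type*} [AddCommGroup U] [Module T U] (L : U →ₗ[T] V) {w : U}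
    (hw : w ∈ I • (⊤ : Submodule T U)) : L w ∈ W :=
  Submodule.smul_top_le_comap_smul_top I L hw

theorem smul_eq_zero_of_sq (hI : I * I = ⊥) {r : T} (hr : r ∈ I) {w : V} (hw : w ∈ W) :
    r • w = 0 := by
  refine Submodule.smul_induction_on hw (fun s hs v _ => ?_) fun p q hp hq => by
    rw [smul_add, hp, hq, add_zero]
  have h : r * s ∈ (⊥ : Ideal T) := hI ▸ Ideal.mul_mem_mul hr hs
  rw [smul_smul, (Submodule.mem_bot T).1 h, zero_smul]

theorem map_eq_zero_of_mem (hI : I * I = ⊥) {U : Type*} [AddCommGroup U] [Module T U]
    (L : U →ₗ[T] V) (hL : ∀ x, L x ∈ W) {w : U} (hw : w ∈ I • (⊤ : Submodule T U)) : L w = 0 := by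
  refine Submodule.smul_induction_on hw (fun s hs v _ => ?_) fun p q hp hq => by
    rw [map_add, hp, hq, add_zero]
  rw [map_smul, smul_eq_zero_of_sq I hI hs (hL v)]

variable [Module.Free T V] [Module.Finite T V]

theorem mem_smul_top_of_forall_apply (D : Module.End T V) (hD : ∀ v, D v ∈ W) :
    D ∈ I • (⊤ : Submodule T (Module.End T V)) := by
  classical
  let b := Module.Free.chooseBasis T V
  have hDs : D = ∑ i, (b.coord i).smulRight (D (b i)) := b.ext fun j => by
    simp [Finsupp.single_apply]
  rw [hDs]
  refine Submodule.sum_mem _ fun i _ => ?_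
  exact Submodule.smul_top_le_comap_smul_top I (LinearMap.smulRightₗ (b.coord i)) (hD (b i))

/-- Deformation of an associative unital law with bijective sandwich map. -/
theorem exists_assoc_correction (hI : I * I = ⊥) (m : V →ₗ[T] V →ₗ[T] V) (u : V)
    (hu₁ : ∀ v, m u v = v) (hu₂ : ∀ v, m v u = v) (φ : V →ₗ[T] T) (hφ : φ u = 1)
    (hassoc : ∀ a b c, associatorMap m a b c ∈ W)
    (hS : Function.Bijective (lawSandwich m)) :
    ∃ ψ : V →ₗ[T] V →ₗ[T] V, (∀ b c, ψ b c ∈ W) ∧ (∀ c, ψ u c = 0) ∧ (∀ b, ψ b u = 0) ∧
      ∀ a b c, associatorMap (m + ψ) a b c = 0 := by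
  -- associativity holds exactly once one of the arguments lies in `W`
  have h0 : ∀ a b c, c ∈ W → associatorMap m a b c = 0 := fun a b c hc =>
    map_eq_zero_of_mem I hI (associatorMap m a b) (hassoc a b) hc
  have h1 : ∀ a b c, b ∈ W → associatorMap m a b c = 0 := fun a b c hb =>
    map_eq_zero_of_mem I hI ((associatorMap m a).flip c) (fun x => hassoc a x c) hb
  -- the separability element
  obtain ⟨e, he⟩ := hS.2 (φ.smulRight u)
  have he1 : TensorProduct.lift m e = u := by
    have hmu : ∀ w, lawSandwich m w u = TensorProduct.lift m w := fun w => by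
      induction w using TensorProduct.induction_on with
      | zero => simp
      | add p q hp hq => simp only [map_add, LinearMap.add_apply, hp, hq]
      | tmul p q => simp [lawSandwich_tmul, hu₂]
    rw [← hmu, he]
    simp [hφ]
  let Lb : V → (V ⊗[T] V →ₗ[T] V ⊗[T] V) := fun b => (m b).rTensor V
  let Rb : V → (V ⊗[T] V →ₗ[T] V ⊗[T] V) := fun b => (m.flip b).lTensor V
  have he2 : ∀ b, Lb b e - Rb b e ∈ I • (⊤ : Submodule T (V ⊗[T] V)) := by
    intro b
    let inv := (LinearEquiv.ofBijective (lawSandwich m) hS).symm
    have hD : lawSandwich m (Lb b e - Rb b e) ∈ I • (⊤ : Submodule T (Module.End T V)) := by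
      refine mem_smul_top_of_forall_apply I _ fun v => ?_
      have hl : ∀ w, lawSandwich m (Lb b w) v - m b (lawSandwich m w v) ∈ W := fun w => by
        induction w using TensorProduct.induction_on with
        | zero => simp
        | add p q hp hq =>
          simp only [map_add, LinearMap.add_apply] at hp hq ⊢
          rw [add_sub_add_comm]; exact add_mem hp hq
        | tmul p q =>
          simp only [Lb, LinearMap.rTensor_tmul, lawSandwich_tmul]
          have e1 : m (m (m b p) v) q - m b (m (m p v) q) =
              m (associatorMap m b p v) q + associatorMap m b (m p v) q := by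
            simp only [associatorMap_apply, map_sub, LinearMap.sub_apply]; abel
          rw [e1]
          exact add_mem (map_mem_smul_top I (m.flip q) (hassoc b p v)) (hassoc _ _ _)
      have hr : ∀ w, lawSandwich m (Rb b w) v - m (lawSandwich m w v) b ∈ W := fun w => by
        induction w using TensorProduct.induction_on with
        | zero => simp
        | add p q hp hq =>
          simp only [map_add, LinearMap.add_apply] at hp hq ⊢
          rw [add_sub_add_comm]; exact add_mem hp hq
        | tmul p q =>
          simp only [Rb, LinearMap.lTensor_tmul, lawSandwich_tmul, LinearMap.flip_apply]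
          rw [← neg_sub, ← associatorMap_apply]
          exact neg_mem (hassoc _ _ _)
      have := sub_mem (hl e) (hr e)
      rw [he] at this
      simpa [hu₁, hu₂] using this
    have h := Submodule.smul_top_le_comap_smul_top I inv.toLinearMap hD
    rw [Submodule.mem_comap] at h
    convert h using 1
    exact ((LinearEquiv.ofBijective (lawSandwich m) hS).symm_apply_apply _).symm
  let G : V ⊗[T] V →ₗ[T] (V →ₗ[T] V →ₗ[T] V) :=
    TensorProduct.lift <| LinearMap.mk₂ T (fun x y => (associatorMap m y).compr₂ (m x))
      (fun x x' y => by ext; simp) (fun r x y => by ext; simp)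
      (fun x y y' => by ext; simp) (fun r x y => by ext; simp)
  have hG : ∀ x y b c, G (x ⊗ₜ y) b c = m x (associatorMap m y b c) := fun _ _ _ _ => rfl
  have hGW : ∀ w b c, G w b c ∈ W := fun w b c => by
    induction w using TensorProduct.induction_on with
    | zero => simp
    | add p q hp hq => simp only [map_add, LinearMap.add_apply]; exact add_mem hp hq
    | tmul p q => rw [hG]; exact map_mem_smul_top I (m p) (hassoc _ _ _)
  have hG0 : ∀ w b c, w ∈ I • (⊤ : Submodule T (V ⊗[T] V)) → G w b c = 0 := fun w b c hw =>
    map_eq_zero_of_mem I hI ((LinearMap.applyₗ c) ∘ₗ (LinearMap.applyₗ b) ∘ₗ G) (fun x => hGW x b c) hw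
  refine ⟨G e, hGW e, fun c => ?_, fun b => ?_, fun b c d => ?_⟩
  · clear he he1 he2
    induction e using TensorProduct.induction_on with
    | zero => simp
    | add p q hp hq => simp only [map_add, LinearMap.add_apply, hp, hq, add_zero]
    | tmul p q => simp [hG, associatorMap_apply, hu₁, hu₂]
  · clear he he1 he2
    induction e using TensorProduct.induction_on with
    | zero => simp
    | add p q hp hq => simp only [map_add, LinearMap.add_apply, hp, hq, add_zero]
    | tmul p q => simp [hG, associatorMap_apply, hu₂]
  -- the cocycle identity averaged with the separability element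
  have key : associatorMap m b c d =
      m b (G e c d) - G e (m b c) d + G e b (m c d) - m (G e b c) d := by
    have main : ∀ w, m (TensorProduct.lift m w) (associatorMap m b c d) =
        G (Rb b w) c d - G w (m b c) d + G w b (m c d) - m (G w b c) d := fun w => by
      induction w using TensorProduct.induction_on with
      | zero => simp
      | add p q hp hq => simp only [map_add, LinearMap.add_apply, hp, hq]; abel
      | tmul x y =>
        simp only [Rb, LinearMap.lTensor_tmul, hG, LinearMap.flip_apply, TensorProduct.lift.tmul]
        have hw := hassoc b c d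
        have t1 : m (m x y) (associatorMap m b c d) = m x (m y (associatorMap m b c d)) :=
          sub_eq_zero.1 (by rw [← associatorMap_apply]; exact h0 x y _ hw)
        have t2 : m x (m (associatorMap m y b c) d) = m (m x (associatorMap m y b c)) d :=
          (sub_eq_zero.1 (by rw [← associatorMap_apply]; exact h1 x _ d (hassoc y b c))).symm
        have t3 : m y (associatorMap m b c d) = associatorMap m (m y b) c d -
            associatorMap m y (m b c) d + associatorMap m y b (m c d) -
              m (associatorMap m y b c) d := by
          simp only [associatorMap_apply, map_sub, LinearMap.sub_apply]; abel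
        rw [t1, t3, ← t2]
        simp only [map_sub, map_add]
    have hL : ∀ w, G (Lb b w) c d = m b (G w c d) := fun w => by
      induction w using TensorProduct.induction_on with
      | zero => simp
      | add p q hp hq => simp only [map_add, LinearMap.add_apply, hp, hq]
      | tmul x y =>
        simp only [Lb, LinearMap.rTensor_tmul, hG]
        exact sub_eq_zero.1 (by rw [← associatorMap_apply]; exact h0 b x _ (hassoc y c d))
    have hRL : G (Rb b e) c d = m b (G e c d) := by
      rw [← hL, ← sub_eq_zero, ← neg_sub, neg_eq_zero]
      have := hG0 _ c d (he2 b)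
      simpa [map_sub] using this
    have h := main e
    rwa [he1, hu₁, hRL] at h
  have hzero : ∀ x y z w, G e (G e x y) z = 0 ∧ G e w (G e x y) = 0 := fun x y z w =>
    ⟨map_eq_zero_of_mem I hI ((G e).flip z) (fun v => hGW e v z) (hGW e x y),
      map_eq_zero_of_mem I hI (G e w) (fun v => hGW e w v) (hGW e x y)⟩
  rw [associatorMap_apply] at key
  simp only [associatorMap_apply, LinearMap.add_apply, map_add, (hzero b c d b).1,
    (hzero c d b b).2, add_zero]
  rw [sub_eq_iff_eq_add] at key
  rw [key]
  abel

end Groth.Agent.DixBrauer
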