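import Groth.Agent.DixBrauer.HenselIdem
import Groth.Agent.AzumayaX.Fibres
import Mathlib.RingTheory.Henselian
import Mathlib.RingTheory.LocalRing.Module

/-!
Isomorphisms of Azumaya algebras lift from the closed point of a henselian local ring.
-/

universe u v w

set_option linter.style.haveILetI false

namespace Groth.Agent.DixBrauer

open TensorProduct MulOpposite

variable {R : Type u} [CommRing R] [IsLocalRing R]

local notation "κ" => IsLocalRing.ResidueField R

theorem one_tmul_surjective (V : Type v) [AddCommGroup V] [Module R V] (x : κ ⊗[R] V) :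
    ∃ v : V, (1 : κ) ⊗ₜ[R] v = x :=
  TensorProduct.mk_surjective R V κ IsLocalRing.residue_surjective x

theorem one_tmul_eq_zero_iff (V : Type v) [AddCommGroup V] [Module R V] (v : V) :
    (1 : κ) ⊗ₜ[R] v = 0 ↔ v ∈ IsLocalRing.maximalIdeal R • (⊤ : Submodule R V) := by
  have h := TensorProduct.quotTensorEquivQuotSMul_mk_tmul (M := V) (IsLocalRing.maximalIdeal R) 1 v
  rw [one_smul] at h
  rw [← Submodule.Quotient.mk_eq_zero, ← h]
  exact (EmbeddingLike.map_eq_zero_iff
    (f := TensorProduct.quotTensorEquivQuotSMul V (IsLocalRing.maximalIdeal R))).symm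

/-- A finite `R`-module map to a `κ`-space which induces a surjection of the same rank has kernel
`𝔪 • ⊤`. -/
theorem ker_le_of_surjective {V : Type v} [AddCommGroup V] [Module R V] [Module.Finite R V]
    {M : Type w} [AddCommGroup M] [Module R M] [Module κ M] [IsScalarTower R κ M]
    [Module.Finite κ M] (Φ : V →ₗ[R] M) (hΦ : Function.Surjective Φ)
    (hrank : Module.finrank κ (κ ⊗[R] V) ≤ Module.finrank κ M) (v : V) (hv : Φ v = 0) :
    v ∈ IsLocalRing.maximalIdeal R • (⊤ : Submodule R V) := by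
  let Φ' : κ ⊗[R] V →ₗ[κ] M := Φ.liftBaseChange κ
  have hs : Function.Surjective Φ' := fun m => by
    obtain ⟨x, rfl⟩ := hΦ m
    exact ⟨1 ⊗ₜ x, by simp [Φ']⟩
  have hfr : Module.finrank κ (κ ⊗[R] V) = Module.finrank κ M :=
    le_antisymm hrank (LinearMap.finrank_range_add_finrank_ker Φ' ▸ by
      rw [LinearMap.range_eq_top.2 hs, finrank_top]; omega)
  have hi : Function.Injective Φ' :=
    (LinearMap.injective_iff_surjective_of_finrank_eq_finrank hfr).2 hs
  rw [← one_tmul_eq_zero_iff]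
  exact hi (by simp [Φ', hv])

end Groth.Agent.DixBrauer

namespace Groth.Agent.DixBrauer

open TensorProduct MulOpposite

set_option maxHeartbeats 1000000 in
/-- Isomorphisms of the special fibres of Azumaya algebras over a henselian local ring lift. -/
theorem exists_algEquiv_lift {R : Type u} [CommRing R] [HenselianLocalRing R] {A : Type u} [Ring A]
    [Algebra R A] [IsAzumaya R A] {B : Type u} [Ring B] [Algebra R B] [IsAzumaya R B]
    (e₀ : (IsLocalRing.ResidueField R ⊗[R] A) ≃ₐ[IsLocalRing.ResidueField R]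
      (IsLocalRing.ResidueField R ⊗[R] B)) :
    ∃ e : A ≃ₐ[R] B, ∀ a : A, e₀ ((1 : IsLocalRing.ResidueField R) ⊗ₜ[R] a) =
      (1 : IsLocalRing.ResidueField R) ⊗ₜ[R] (e a) := by
  classical
  let k := IsLocalRing.ResidueField R
  let M := k ⊗[R] A
  haveI : HenselianRing R (IsLocalRing.maximalIdeal R) := inferInstance
  haveI := AzumayaX.isAzumaya_baseChange R k A
  haveI := AzumayaX.nontrivial_of_isAzumaya k M
  haveI : Module.Free R A := Module.free_of_flat_of_isLocalRing
  haveI : Module.Free R B := Module.free_of_flat_of_isLocalRing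
  haveI : Module.Free R Bᵐᵒᵖ := Module.Free.of_equiv (MulOpposite.opLinearEquiv R (M := B))
  haveI : Module.Projective R (A ⊗[R] Bᵐᵒᵖ) := inferInstance
  let iA : A →ₐ[R] M := Algebra.TensorProduct.includeRight
  let iB : B →ₐ[R] M :=
    (e₀.symm.toAlgHom.restrictScalars R).comp Algebra.TensorProduct.includeRight
  let lA : A →ₐ[R] Module.End k M :=
    ((Algebra.lmul k M).restrictScalars R).comp iA
  let rB : Bᵐᵒᵖ →ₐ[R] Module.End k M :=
    { toFun := fun b => LinearMap.mulRight k (iB b.unop)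
      map_one' := by ext; simp
      map_mul' := fun a b => by ext; simp [Module.End.mul_apply, mul_assoc]
      map_zero' := by ext; simp
      map_add' := fun a b => by ext; simp [mul_add]
      commutes' := fun r => by
        ext x
        simp [Algebra.algebraMap_eq_smul_one] }
  let Φ : A ⊗[R] Bᵐᵒᵖ →ₐ[R] Module.End k M :=
    Algebra.TensorProduct.lift lA rB fun a b => LinearMap.ext fun x => (mul_assoc _ _ _).symm
  have hΦ : ∀ a b x, Φ (a ⊗ₜ op b) x = iA a * x * iB b := fun a b x => (mul_assoc _ _ _).symm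
  have hsurj : Function.Surjective Φ := by
    intro f
    obtain ⟨t, rfl⟩ := (IsAzumaya.bij (R := k) (A := M)).2 f
    induction t using TensorProduct.induction_on with
    | zero => exact ⟨0, by simp⟩
    | add p q hp hq =>
      obtain ⟨x, hx⟩ := hp
      obtain ⟨y, hy⟩ := hq
      exact ⟨x + y, by rw [map_add, hx, hy, map_add]⟩
    | tmul p q =>
      obtain ⟨a, rfl⟩ := one_tmul_surjective A p
      obtain ⟨b, hb⟩ := one_tmul_surjective B (e₀ q.unop)
      refine ⟨a ⊗ₜ op b, LinearMap.ext fun x => ?_⟩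
      rw [hΦ, AlgHom.mulLeftRight_apply]
      simp only [iA, iB, AlgHom.comp_apply, Algebra.TensorProduct.includeRight_apply, hb]
      exact congrArg (fun y => _ * y) (e₀.symm_apply_apply _)
  have hrank : Module.finrank k (k ⊗[R] (A ⊗[R] Bᵐᵒᵖ)) ≤ Module.finrank k (Module.End k M) := by
    have h := e₀.toLinearEquiv.finrank_eq
    rw [Module.finrank_baseChange, Module.finrank_baseChange] at h
    rw [Module.finrank_baseChange, Module.finrank_tensorProduct, Module.finrank_linearMap,
      Module.finrank_baseChange, ← (MulOpposite.opLinearEquiv R (M := B)).finrank_eq, ← h]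
  have hker : ∀ c, Φ c = 0 → c ∈ IsLocalRing.maximalIdeal R • (⊤ : Submodule R (A ⊗[R] Bᵐᵒᵖ)) :=
    fun c hc => ker_le_of_surjective Φ.toLinearMap hsurj hrank c hc
  have hΦm : ∀ c ∈ IsLocalRing.maximalIdeal R • (⊤ : Submodule R (A ⊗[R] Bᵐᵒᵖ)), Φ c = 0 := by
    intro c hc
    refine Submodule.smul_induction_on hc (fun r hr z _ => ?_)
      fun p q hp hq => by rw [map_add, hp, hq, add_zero]
    rw [map_smul, ← algebraMap_smul k r, IsLocalRing.ResidueField.algebraMap_eq,
      (IsLocalRing.residue_eq_zero_iff r).2 hr, zero_smul]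
  -- a rank one idempotent fixing `1`
  obtain ⟨φ, hφ⟩ : ∃ φ : M →ₗ[k] k, φ 1 = 1 := by
    obtain ⟨φ, hφ⟩ := Module.Projective.exists_dual_ne_zero k (one_ne_zero (α := M))
    exact ⟨(φ 1)⁻¹ • φ, by simp [inv_mul_cancel₀ hφ]⟩
  let π : Module.End k M := φ.smulRight 1
  have hππ : π * π = π := by ext x; simp [π, hφ]
  obtain ⟨ε, hε⟩ := hsurj π
  obtain ⟨E, hE, hEε⟩ := exists_idempotent_lift_algebra (IsLocalRing.maximalIdeal R) ε
    (hker _ (by rw [map_sub, map_mul, hε, hππ, sub_self]))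
  have hΦE : Φ E = π := by
    rw [← hε, ← sub_eq_zero, ← map_sub]; exact hΦm _ hEε
  let C := A ⊗[R] Bᵐᵒᵖ
  let mE : C →ₗ[R] C := LinearMap.mulRight R E
  let P : Submodule R C := LinearMap.range mE
  haveI : Module.Finite R P := Module.Finite.range mE
  have hPE : ∀ p : P, p.1 * E = p.1 := by
    rintro ⟨_, c, rfl⟩
    show c * E * E = c * E
    rw [mul_assoc, hE]
  haveI : Module.Projective R P :=
    Module.Projective.of_split P.subtype mE.rangeRestrict
      (LinearMap.ext fun p => Subtype.ext (hPE p))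
  let q : P →ₗ[R] M := ((LinearMap.applyₗ (1 : M)).restrictScalars R) ∘ₗ Φ.toLinearMap ∘ₗ P.subtype
  have hq0 : ∀ p : P, q p = 0 → p ∈ IsLocalRing.maximalIdeal R • (⊤ : Submodule R P) := by
    intro p hp
    have h0 : Φ p.1 = 0 := by
      refine LinearMap.ext fun x => ?_
      have hp' : Φ p.1 1 = 0 := hp
      rw [← hPE p, map_mul, hΦE, Module.End.mul_apply]
      simp [π, hp']
    have := Submodule.smul_top_le_comap_smul_top (IsLocalRing.maximalIdeal R) mE.rangeRestrict
      (hker _ h0)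
    rw [Submodule.mem_comap] at this
    rwa [show mE.rangeRestrict p.1 = p from Subtype.ext (hPE p)] at this
  let f : A →ₗ[R] P := mE.rangeRestrict ∘ₗ (Algebra.TensorProduct.includeLeft :
    A →ₐ[R] A ⊗[R] Bᵐᵒᵖ).toLinearMap
  let g : B →ₗ[R] P := mE.rangeRestrict ∘ₗ (Algebra.TensorProduct.includeRight :
    Bᵐᵒᵖ →ₐ[R] A ⊗[R] Bᵐᵒᵖ).toLinearMap ∘ₗ (MulOpposite.opLinearEquiv R (M := B)).toLinearMap
  have hqf : ∀ a, q (f a) = iA a := fun a => by
    show Φ ((a ⊗ₜ 1) * E) 1 = _
    rw [map_mul, Module.End.mul_apply, hΦE, ← op_one, hΦ]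
    simp [π, hφ]
  have hqg : ∀ b, q (g b) = iB b := fun b => by
    show Φ (((1 : A) ⊗ₜ op b) * E) 1 = _
    rw [map_mul, Module.End.mul_apply, hΦE, hΦ]
    simp [π, hφ]
  have hfs : ∀ p, ∃ a, q (f a) = q p := fun p => by
    obtain ⟨a, ha⟩ := one_tmul_surjective A (q p)
    exact ⟨a, by rw [hqf]; exact ha⟩
  have hfi : ∀ a, q (f a) = 0 → a ∈ IsLocalRing.maximalIdeal R • (⊤ : Submodule R A) :=
    fun a ha => (one_tmul_eq_zero_iff A a).1 (by rw [hqf] at ha; exact ha)
  have hgs : ∀ p, ∃ b, q (g b) = q p := fun p => by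
    obtain ⟨b, hb⟩ := one_tmul_surjective B (e₀ (q p))
    refine ⟨b, ?_⟩
    rw [hqg]
    simp only [iB, AlgHom.comp_apply, Algebra.TensorProduct.includeRight_apply, hb]
    exact e₀.symm_apply_apply _
  have hgi : ∀ b, q (g b) = 0 → b ∈ IsLocalRing.maximalIdeal R • (⊤ : Submodule R B) :=
    fun b hb => (one_tmul_eq_zero_iff B b).1 (by
      rw [hqg] at hb
      have := congrArg e₀ hb
      simpa [iB] using this)
  have hf : Function.Bijective f :=
    bijective_of_bijective_residual (M := M) (P := ↥P) (IsLocalRing.maximalIdeal R)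
      (HenselianRing.jac (I := IsLocalRing.maximalIdeal R)) f q hq0 hfs hfi
  have hg : Function.Bijective g :=
    bijective_of_bijective_residual (M := M) (P := ↥P) (IsLocalRing.maximalIdeal R)
      (HenselianRing.jac (I := IsLocalRing.maximalIdeal R)) g q hq0 hgs hgi
  let l : A ≃ₗ[R] B := (LinearEquiv.ofBijective f hf).trans (LinearEquiv.ofBijective g hg).symm
  have hl : ∀ a, g (l a) = f a := fun a =>
    (LinearEquiv.ofBijective g hg).apply_symm_apply (f a)
  have hl' : ∀ a, (a ⊗ₜ[R] (1 : Bᵐᵒᵖ)) * E = ((1 : A) ⊗ₜ[R] op (l a)) * E :=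
    fun a => (congrArg Subtype.val (hl a)).symm
  have hmul : ∀ a a', l (a * a') = l a * l a' := fun a a' => by
    refine hg.1 (Subtype.ext ?_)
    rw [hl]
    show ((a * a') ⊗ₜ[R] (1 : Bᵐᵒᵖ)) * E = ((1 : A) ⊗ₜ[R] op (l a * l a')) * E
    calc ((a * a') ⊗ₜ[R] (1 : Bᵐᵒᵖ)) * E = (a ⊗ₜ 1) * ((a' ⊗ₜ 1) * E) := by
          rw [← mul_assoc, Algebra.TensorProduct.tmul_mul_tmul, mul_one]
      _ = ((1 : A) ⊗ₜ op (l a')) * ((a ⊗ₜ 1) * E) := by
          rw [hl' a', ← mul_assoc, ← mul_assoc]
          simp [Algebra.TensorProduct.tmul_mul_tmul]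
      _ = ((1 : A) ⊗ₜ op (l a * l a')) * E := by
          rw [hl' a, ← mul_assoc]
          simp [Algebra.TensorProduct.tmul_mul_tmul]
  have hone : l 1 = 1 := by
    refine hg.1 ?_
    rw [hl]
    refine Subtype.ext ?_
    show ((1 : A) ⊗ₜ[R] (1 : Bᵐᵒᵖ)) * E = ((1 : A) ⊗ₜ[R] op (1 : B)) * E
    rw [op_one]
  refine ⟨AlgEquiv.ofLinearEquiv l hone hmul, fun a => ?_⟩
  have h1 : iA a = iB (l a) := by rw [← hqf, ← hqg, hl]
  show e₀ (iA a) = 1 ⊗ₜ l a
  rw [h1]
  simp [iB]

end Groth.Agent.DixBrauer
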