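import Groth.Agent.DixBrauer.LawScheme
import Groth.Agent.DixBrauer.AzLift
import Groth.Agent.Hensel.SmoothLift
import Groth.Agent.CSALib.Basic

/-!
Central simple algebras over the residue field of a henselian local ring lift to Azumaya algebras.
-/

universe u v w

set_option linter.style.haveILetI false

namespace Groth.Agent.DixBrauer

open TensorProduct

variable {ι : Type u} [Fintype ι] [DecidableEq ι]

/-- Structure constants of an associative unital algebra. -/
structure LawData (R : Type u) [CommRing R] (i₀ : ι) where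
  /-- The structure constants. -/
  c : ι × ι × ι → R
  isLaw : IsLaw i₀ c

namespace LawData

variable {R : Type u} [CommRing R] {i₀ : ι}

/-- The free module carrying the algebra. -/
@[nolint unusedArguments]
def Carrier (_L : LawData R i₀) : Type u := ι → R

variable (L : LawData R i₀)

instance : AddCommGroup L.Carrier := inferInstanceAs (AddCommGroup (ι → R))

instance : Module R L.Carrier := inferInstanceAs (Module R (ι → R))

instance : Module.Free R L.Carrier := inferInstanceAs (Module.Free R (ι → R))

instance : Module.Finite R L.Carrier := inferInstanceAs (Module.Finite R (ι → R))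

/-- The multiplication. -/
noncomputable def mul : L.Carrier →ₗ[R] L.Carrier →ₗ[R] L.Carrier := lawBil L.c

theorem mul_assoc' (x y z : L.Carrier) : L.mul (L.mul x y) z = L.mul x (L.mul y z) := by
  refine sub_eq_zero.1 (funext fun p => ?_)
  have h := associatorMap_mem (⊥ : Ideal R) L.c
    (fun q => (Submodule.mem_bot R).2 (L.isLaw.assoc q)) x y z p
  exact (Submodule.mem_bot R).1 h

noncomputable instance : Ring L.Carrier :=
  { (inferInstance : AddCommGroup L.Carrier) with
    mul := fun x y => L.mul x y
    one := (Pi.single i₀ 1 : ι → R)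
    left_distrib := fun x y z => map_add (L.mul x) y z
    right_distrib := fun x y z => LinearMap.map_add₂ L.mul x y z
    zero_mul := fun x => LinearMap.map_zero₂ L.mul x
    mul_zero := fun x => map_zero (L.mul x)
    mul_assoc := L.mul_assoc'
    one_mul := lawBil_unit_left L.isLaw.unit_left
    mul_one := lawBil_unit_right L.isLaw.unit_right }

theorem mul_def (x y : L.Carrier) : x * y = lawBil L.c x y := rfl

theorem one_def : (1 : L.Carrier) = (Pi.single i₀ 1 : ι → R) := rfl

noncomputable instance : Algebra R L.Carrier :=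
  Algebra.ofModule (fun r x y => LinearMap.map_smul₂ L.mul r x y) fun r x y => map_smul (L.mul x) r y

end LawData

/-- Central simple algebras over the residue field lift to Azumaya algebras. -/
theorem exists_azumaya_lift {R : Type u} [CommRing R] [HenselianLocalRing R] (A₀ : Type u) [Ring A₀]
    [Algebra (IsLocalRing.ResidueField R) A₀] [Algebra.IsCentral (IsLocalRing.ResidueField R) A₀]
    [IsSimpleRing A₀] [FiniteDimensional (IsLocalRing.ResidueField R) A₀] :
    ∃ (A : Type u) (_ : Ring A) (_ : Algebra R A), IsAzumaya R A ∧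
      Nonempty ((IsLocalRing.ResidueField R ⊗[R] A) ≃ₐ[IsLocalRing.ResidueField R] A₀) := by
  classical
  let k := IsLocalRing.ResidueField R
  letI : Algebra R A₀ := ((algebraMap k A₀).comp (algebraMap R k)).toAlgebra' fun r x =>
    Algebra.commutes (algebraMap R k r) x
  haveI : IsScalarTower R k A₀ := IsScalarTower.of_algebraMap_eq fun r => rfl
  have hli : LinearIndepOn k id ({1} : Set A₀) := LinearIndepOn.singleton one_ne_zero
  let s := hli.extend (Set.subset_univ _)
  let b : Module.Basis s k A₀ := Module.Basis.extend hli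
  haveI : Fintype s := FiniteDimensional.fintypeBasisIndex b
  let i₀ : s := ⟨1, hli.subset_extend (Set.subset_univ _) (Set.mem_singleton 1)⟩
  have hb0 : b i₀ = 1 := Module.Basis.extend_apply_self hli i₀
  let c₀ : s × s × s → k := fun x => b.repr (b x.1 * b x.2.1) x.2.2
  let E : (s → k) ≃ₗ[k] A₀ := b.equivFun.symm
  have hEsingle : ∀ i, E (Pi.single i 1) = b i := fun i => by
    simp [E, Module.Basis.equivFun_symm_apply, Pi.single_apply]
  have hEmul : ∀ x y, E (lawBil c₀ x y) = E x * E y := by
    suffices h : (lawBil c₀).compr₂ E.toLinearMap =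
        (LinearMap.mul k A₀).compl₁₂ E.toLinearMap E.toLinearMap from
      fun x y => LinearMap.congr_fun₂ h x y
    refine (Pi.basisFun k s).ext fun i => (Pi.basisFun k s).ext fun j => ?_
    simp only [Pi.basisFun_apply, LinearMap.compr₂_apply, LinearMap.compl₁₂_apply,
      LinearEquiv.coe_coe, LinearMap.mul_apply_apply, hEsingle, lawBil_single]
    exact b.equivFun.symm_apply_eq.2 (funext fun k' => rfl)
  have hlaw₀ : IsLaw i₀ c₀ := by
    refine ⟨fun j p => ?_, fun j p => ?_, fun q => ?_⟩
    · simp [c₀, hb0, Finsupp.single_apply]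
    · simp [c₀, hb0, Finsupp.single_apply]
    · have h : associatorMap (lawBil c₀) (Pi.single q.1 1) (Pi.single q.2.1 1)
          (Pi.single q.2.2.1 1) = 0 := E.injective (by
        rw [associatorMap_apply, map_sub, hEmul, hEmul, hEmul, hEmul, mul_assoc, sub_self, map_zero])
      rw [← associatorMap_single c₀ q.1 q.2.1 q.2.2.1 q.2.2.2, h]
      rfl
  have hdet₀ : IsUnit (sandwichMatrix c₀).det := by
    rw [← bijective_lawSandwich_iff]
    have hs : Function.Surjective (lawSandwich (lawBil c₀)) := by
      intro f
      obtain ⟨t, ht⟩ := CSALib.mulLeftRight_surjective k A₀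
        (E.toLinearMap ∘ₗ f ∘ₗ E.symm.toLinearMap)
      suffices h : ∀ t, ∃ w, ∀ v, E (lawSandwich (lawBil c₀) w v) = AlgHom.mulLeftRight k A₀ t (E v) by
        obtain ⟨w, hw⟩ := h t
        refine ⟨w, LinearMap.ext fun v => E.injective ?_⟩
        rw [hw, ht]
        simp
      intro t
      induction t using TensorProduct.induction_on with
      | zero => exact ⟨0, by simp⟩
      | add p q hp hq =>
        obtain ⟨w, hw⟩ := hp
        obtain ⟨w', hw'⟩ := hq
        exact ⟨w + w', fun v => by simp [hw, hw']⟩
      | tmul p q =>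
        exact ⟨E.symm p ⊗ₜ E.symm q.unop, fun v => by simp [lawSandwich_tmul, hEmul]⟩
    refine ⟨(LinearMap.injective_iff_surjective_of_finrank_eq_finrank ?_).2 hs, hs⟩
    rw [Module.finrank_tensorProduct, Module.finrank_linearMap]
  obtain ⟨f₀, hf₀⟩ := exists_lawPoint (R := R) c₀ hlaw₀ hdet₀
  haveI : HenselianRing R (IsLocalRing.maximalIdeal R) := inferInstance
  obtain ⟨τ, hτ⟩ := Hensel.exists_smooth_lift (IsLocalRing.maximalIdeal R) (R := R) f₀
  let L : LawData R i₀ := ⟨lawPoint τ, (lawPoint_isLaw τ).1⟩
  have hL : ∀ x, algebraMap R k (L.c x) = c₀ x := fun x => by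
    rw [← hf₀]
    exact AlgHom.congr_fun hτ _
  -- the reduction map
  let g : L.Carrier →ₗ[R] A₀ :=
    (E.toLinearMap.restrictScalars R) ∘ₗ
      (LinearMap.compLeft (Algebra.linearMap R k) s : (s → R) →ₗ[R] (s → k))
  have hgmul : ∀ x y, g (x * y) = g x * g y := fun x y => by
    show E _ = E _ * E _
    rw [← hEmul]
    congr 1
    funext p
    show algebraMap R k (lawBil L.c x y p) =
      lawBil c₀ (fun i => algebraMap R k (x i)) (fun i => algebraMap R k (y i)) p
    simp only [lawBil_apply, map_sum, map_mul, hL]
  have hg1 : g 1 = 1 := by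
    show E _ = 1
    rw [← hb0, ← hEsingle]
    congr 1
    funext p
    show algebraMap R k ((Pi.single i₀ 1 : s → R) p) = _
    simp [Pi.single_apply, apply_ite (algebraMap R k)]
  let G : L.Carrier →ₐ[R] A₀ := AlgHom.ofLinearMap g hg1 hgmul
  let Φ : k ⊗[R] L.Carrier →ₐ[k] A₀ :=
    Algebra.TensorProduct.lift (Algebra.ofId k A₀) G fun a x => Algebra.commutes a (G x)
  have hsurj : Function.Surjective Φ := by
    intro a
    obtain ⟨x, hx⟩ : ∃ x : L.Carrier, g x = a := by
      refine ⟨fun i => (IsLocalRing.residue_surjective (E.symm a i)).choose, ?_⟩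
      show E _ = a
      rw [← LinearEquiv.eq_symm_apply]
      funext i
      exact (IsLocalRing.residue_surjective (E.symm a i)).choose_spec
    refine ⟨1 ⊗ₜ x, ?_⟩
    exact (Algebra.TensorProduct.lift_tmul _ _ _ _ _).trans (by rw [map_one, one_mul]; exact hx)
  have hrank : Module.finrank k (k ⊗[R] L.Carrier) = Module.finrank k A₀ := by
    rw [Module.finrank_baseChange, show Module.finrank R L.Carrier = Fintype.card s from
      Module.finrank_fintype_fun_eq_card R, Module.finrank_eq_card_basis b]
  have hbij : Function.Bijective Φ :=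
    ⟨(LinearMap.injective_iff_surjective_of_finrank_eq_finrank (f := Φ.toLinearMap) hrank).2 hsurj,
      hsurj⟩
  let e := AlgEquiv.ofBijective Φ hbij
  haveI : IsAzumaya k A₀ := CSALib.isAzumaya k A₀
  haveI : IsAzumaya k (k ⊗[R] L.Carrier) := IsAzumaya.of_AlgEquiv k _ _ e.symm
  exact ⟨L.Carrier, inferInstance, inferInstance, AzumayaX.isAzumaya_of_residueField L.Carrier, ⟨e⟩⟩

end Groth.Agent.DixBrauer
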