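import Groth.Agent.DixBrauer.CyclicGal
import Groth.Agent.DixBrauer.GmComp
import Groth.Agent.GalDual.Torsion
import Mathlib.GroupTheory.PGroup
import Mathlib.GroupTheory.Sylow
import Mathlib.FieldTheory.Galois.Basic

/-!
The cohomological Brauer group of a field with surjective norms vanishes.
-/

universe u

set_option linter.style.haveILetI false
set_option backward.isDefEq.respectTransparency.types false

open CategoryTheory CategoryTheory.Limits CategoryTheory.Abelian AlgebraicGeometry Opposite

namespace Groth.Agent.DixBrauer.BrauerNorm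

/-- A class of fields, closed under finite extensions, in which all norms are surjective. -/
structure NormClass where
  mem : ∀ (E : Type u) [Field E], Prop
  ext : ∀ (E F : Type u) [Field E] [Field F] [Algebra E F] [FiniteDimensional E F], mem E → mem F
  norm : ∀ (E F : Type u) [Field E] [Field F] [Algebra E F] [FiniteDimensional E F] [Algebra.IsSeparable E F],
    mem E → ∀ x : E, x ≠ 0 → ∃ y : F, Algebra.norm E y = x

variable (Q : NormClass.{u})

/-- The morphism of spectra. -/
noncomputable abbrev π (E L : Type u) [Field E] [Field L] [Algebra E L] :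
    Spec (CommRingCat.of L) ⟶ Spec (CommRingCat.of E) := GalDual.fieldMap E L

theorem eq_zero_of_isPGroup (p : ℕ) [hp : Fact p.Prime] :
    ∀ (N : ℕ) (E M : Type u) [Field E] [Field M] [Algebra E M] [FiniteDimensional E M] [IsGalois E M],
      Module.finrank E M = N → IsPGroup p (M ≃ₐ[E] M) → Q.mem E →
      ∀ η : EtCoh.H (Spec (CommRingCat.of E)) (EtCoh.Gm (Spec (CommRingCat.of E))) 2,
      (∀ [PreservesFiniteLimits (EtCoh.pull (π E M))], EtLim.HGmPull (π E M) 2 η = 0) → η = 0 := by
  intro N
  induction N using Nat.strong_induction_on with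
  | _ N ih =>
    intro E M _ _ _ _ _ hN hP hC η hη
    haveI := EtFound.pull_preservesFiniteLimits (π E M)
    rcases subsingleton_or_nontrivial (M ≃ₐ[E] M) with hs | hnt
    · exact CyclicGal.eq_zero_of_dies (σ := 1) (fun τ => by rw [Subsingleton.elim τ 1]; exact one_mem _)
        (fun x hx => Q.norm E M hC x hx) η hη
    · haveI := hP.center_nontrivial
      obtain ⟨z, hz⟩ := exists_ne (1 : Subgroup.center (M ≃ₐ[E] M))
      let H := Subgroup.zpowers (z : M ≃ₐ[E] M)
      haveI hHn : H.Normal := by
        refine ⟨fun h hh g => ?_⟩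
        obtain ⟨i, rfl⟩ := hh
        have hc : g * (z : M ≃ₐ[E] M) ^ i = (z : M ≃ₐ[E] M) ^ i * g :=
          Subgroup.mem_center_iff.1 (zpow_mem z.2 i) g
        rw [hc, mul_inv_cancel_right]
        exact Subgroup.mem_zpowers_iff.2 ⟨i, rfl⟩
      let F := IntermediateField.fixedField H
      haveI : IsGalois E F := IsGalois.of_fixedField_normal_subgroup H
      haveI : IsGalois F M := IsGalois.tower_top_of_isGalois E F M
      haveI : Algebra.IsSeparable F M := Algebra.isSeparable_tower_top_of_isSeparable E F M
      have hlt : Module.finrank E F < N := by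
        have hmul := Module.finrank_mul_finrank E F M
        have h2 : 1 < Module.finrank F M := by
          rw [IntermediateField.finrank_fixedField_eq_card, Nat.card_zpowers]
          have h1 : orderOf (z : M ≃ₐ[E] M) ≠ 1 := fun h =>
            hz (Subtype.ext (orderOf_eq_one_iff.1 h))
          have h0 := orderOf_pos (z : M ≃ₐ[E] M)
          omega
        rw [← hN, ← hmul]
        exact lt_mul_of_one_lt_right Module.finrank_pos h2
      haveI := EtFound.pull_preservesFiniteLimits (π E F)
      haveI := EtFound.pull_preservesFiniteLimits (π F M)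
      haveI := EtFound.pull_preservesFiniteLimits (π F M ≫ π E F)
      have hcomp : π F M ≫ π E F = π E M := by
        rw [← Spec.map_comp, ← CommRingCat.ofHom_comp, ← IsScalarTower.algebraMap_eq]
      have hF : EtLim.HGmPull (π E F) 2 η = 0 := by
        let gen : M ≃ₐ[F] M := (IntermediateField.fixingSubgroupEquiv F)
          ⟨z, by rw [IntermediateField.fixingSubgroup_fixedField]; exact Subgroup.mem_zpowers _⟩
        refine CyclicGal.eq_zero_of_dies (E := F) (L := M) (σ := gen) (fun τ => ?_)
          (fun x hx => Q.norm F M (Q.ext E F hC) x hx) _ ?_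
        · have hτ : ((IntermediateField.fixingSubgroupEquiv F).symm τ : M ≃ₐ[E] M) ∈ H :=
            SetLike.le_def.1 (IntermediateField.fixingSubgroup_fixedField H).le
              ((IntermediateField.fixingSubgroupEquiv F).symm τ).2
          obtain ⟨i, hi⟩ := hτ
          refine ⟨i, (IntermediateField.fixingSubgroupEquiv F).symm.injective ?_⟩
          refine Eq.trans (map_zpow (IntermediateField.fixingSubgroupEquiv F).symm gen i) ?_
          rw [MulEquiv.symm_apply_apply]
          exact Subtype.ext hi
        · rw [← GmComp.HGmPull_comp (π F M) (π E F)]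
          convert hη using 3
      refine ih _ hlt E F rfl ?_ hC η hF
      exact hP.of_surjective (AlgEquiv.restrictNormalHom F) (AlgEquiv.restrictNormalHom_surjective M)

/-- `H²(K, G_m) = 0` when norms are surjective in all finite extensions of `K`. -/
theorem subsingleton_H2_Gm (K : Type u) [Field K] (hK : Q.mem K) :
    Subsingleton (EtCoh.H (Spec (CommRingCat.of K)) (EtCoh.Gm (Spec (CommRingCat.of K))) 2) := by
  refine subsingleton_of_forall_eq 0 fun ξ => ?_
  obtain ⟨L, _, _, _, _, hL⟩ := GalDual.exists_dies ξ
  let M := IntermediateField.normalClosure K L (SeparableClosure L)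
  haveI : IsSepClosure K (SeparableClosure L) := ⟨inferInstance, Algebra.IsSeparable.trans K L _⟩
  haveI : IsGalois K (SeparableClosure L) := IsSepClosure.isGalois
  let ι : L →ₐ[K] M := (IsScalarTower.toAlgHom K L (SeparableClosure L)).codRestrict M.toSubalgebra
    fun x => AlgHom.fieldRange_le_normalClosure (IsScalarTower.toAlgHom K L (SeparableClosure L)) ⟨x, rfl⟩
  have hM := hL.of_algHom ι
  by_contra hne
  have hord : addOrderOf ξ ∣ Module.finrank K M :=
    addOrderOf_dvd_of_nsmul_eq_zero (hM.finrank_nsmul M)
  have hne1 : addOrderOf ξ ≠ 1 := fun h => hne (AddMonoid.addOrderOf_eq_one_iff.1 h)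
  obtain ⟨p, hp, hpdvd⟩ := Nat.exists_prime_and_dvd hne1
  haveI : Fact p.Prime := ⟨hp⟩
  let P : Sylow p (M ≃ₐ[K] M) := default
  let E := IntermediateField.fixedField (P : Subgroup (M ≃ₐ[K] M))
  haveI : IsGalois E M := IsGalois.tower_top_of_isGalois K E M
  haveI : Algebra.IsSeparable K E := Algebra.isSeparable_tower_bot_of_isSeparable K E M
  haveI := EtFound.pull_preservesFiniteLimits (π K E)
  haveI := EtFound.pull_preservesFiniteLimits (π K M)
  haveI := EtFound.pull_preservesFiniteLimits (π E M ≫ π K E)
  have hcomp : π E M ≫ π K E = π K M := by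
    rw [← Spec.map_comp, ← CommRingCat.ofHom_comp, ← IsScalarTower.algebraMap_eq]
  have hE : EtLim.HGmPull (π K E) 2 ξ = 0 := by
    refine eq_zero_of_isPGroup Q p _ E M rfl ?_ (Q.ext K E hK) _ ?_
    · exact P.isPGroup'.of_equiv ((MulEquiv.subgroupCongr
        (IntermediateField.fixingSubgroup_fixedField (P : Subgroup (M ≃ₐ[K] M))).symm).trans
        (IntermediateField.fixingSubgroupEquiv E))
    · intro
      rw [← GmComp.HGmPull_comp (π E M) (π K E)]
      have h0 := GmComp.HGmPull_eq_zero (π K M) 2 ξ ((GalDual.dies_iff_Hpull M ξ).1 hM)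
      convert h0 using 3
  haveI : Module.Finite K E := inferInstance
  haveI : IsFinite (π K E) := (IsFinite.SpecMap_iff _).2 (RingHom.finite_algebraMap.2 inferInstance)
  haveI : Flat (π K E) := Flat.SpecMap_iff.2 (RingHom.flat_algebraMap_iff.2 inferInstance)
  haveI : AlgebraicGeometry.Etale (π K E) := GalCover.etale_specExt (L := K) E
  have hd : ∀ y, (π K E).finrank y = Module.finrank K E := fun y => by
    show Scheme.Hom.finrank (Spec.map (CommRingCat.ofHom (algebraMap K E))) y = _
    rw [Scheme.Hom.finrank_SpecMap_algebraMap, Module.rankAtStalk_eq_finrank_of_free]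
    rfl
  have hkill := FinitePush.nsmul_eq_zero_of_HGmPull (π K E) hd ξ hE
  have hindex : Module.finrank K E = (P : Subgroup (M ≃ₐ[K] M)).index := by
    rw [IntermediateField.finrank_eq_fixingSubgroup_index, IntermediateField.fixingSubgroup_fixedField]
  exact P.not_dvd_index (hindex ▸ hpdvd.trans (addOrderOf_dvd_of_nsmul_eq_zero hkill))

end Groth.Agent.DixBrauer.BrauerNorm
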