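import Groth.Agent.BigSiteLib.HofPushBij

/-!
Injectivity of pulling back cohomology classes of a direct image in degrees one and two.
-/

universe w v v' u u'

set_option linter.style.haveILetI false

open CategoryTheory CategoryTheory.Limits CategoryTheory.Abelian

namespace Groth.Agent.DixBrauer.HofInj

open Groth.Agent.BigSiteLib

variable {A : Type u} [Category.{v} A] [Abelian A] [EnoughInjectives A] [HasExt.{w} A]
  {B : Type u'} [Category.{v'} B] [Abelian B] [HasExt.{w} B]
  {L : B ⥤ A} {R : A ⥤ B} [L.Additive] [R.Additive] [PreservesFiniteLimits L] [PreservesFiniteColimits L]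
  (adj : L ⊣ R) {ZA : A} {ZB : B} (i : ZA ⟶ L.obj ZB)

include adj in
/-- Degree one is always injective. -/
theorem hof_injective_one (hi : IsIso i) (F : A) (x : Ext.{w} ZB (R.obj F) 1)
    (hx : HofBij.hof adj i F 1 x = 0) : x = 0 := by
  haveI : R.IsRightAdjoint := adj.isRightAdjoint
  haveI : PreservesFiniteLimits R := inferInstance
  let Q := Classical.arbitrary (InjectivePresentation F)
  have hS := Q.shortExact_shortComplex
  let S := Q.shortComplex
  haveI : Injective S.X₂ := Q.injective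
  haveI : L.PreservesMonomorphisms := inferInstance
  haveI : Injective (R.obj S.X₂) := Injective.injective_of_adjoint adj _
  have hR' : (S.map R).Exact ∧ Mono (R.map S.f) := by
    have tf := (Functor.preservesFiniteLimits_tfae R).out 3 0
    exact tf.1 (show PreservesFiniteLimits R from inferInstance) S hS
  let S₁ : ShortComplex B := ShortComplex.mk (R.map S.f) (cokernel.π (R.map S.f)) (cokernel.condition _)
  have hS₁ : S₁.ShortExact :=
    { exact := ShortComplex.exact_of_g_is_cokernel _ (cokernelIsCokernel _)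
      mono_f := hR'.2
      epi_g := inferInstanceAs (Epi (cokernel.π (R.map S.f))) }
  let m : S₁.X₃ ⟶ R.obj S.X₃ := cokernel.desc _ (R.map S.g) (by rw [← R.map_comp, S.zero, R.map_zero])
  haveI : Mono m := (ShortComplex.exact_iff_mono_cokernel_desc _).1 hR'.1
  obtain ⟨y, rfl⟩ := Ext.covariant_sequence_exact₁ ZB hS₁ x
    (haveI : Injective S₁.X₂ := ‹Injective (R.obj S.X₂)›; Ext.eq_zero_of_injective _)
    (rfl : 0 + 1 = 1)
  obtain ⟨z, rfl⟩ := (Ext.mk₀_bijective _ _).2 y
  have hwf : R.map S.f ≫ cokernel.π (R.map S.f) = 0 := cokernel.condition _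
  let χ : ZA ⟶ S.X₃ := i ≫ (adj.homEquiv ZB S.X₃).symm (z ≫ m)
  let φ : S₁.map L ⟶ S :=
    { τ₁ := adj.counit.app S.X₁, τ₂ := adj.counit.app S.X₂, τ₃ := L.map m ≫ adj.counit.app S.X₃
      comm₁₂ := (adj.counit.naturality S.f).symm
      comm₂₃ := by
        show adj.counit.app S.X₂ ≫ S.g = L.map (cokernel.π (R.map S.f)) ≫ L.map m ≫ _
        rw [← Functor.map_comp_assoc, cokernel.π_desc]
        exact (adj.counit.naturality S.g).symm }
  have hn : (hS₁.extClass.mapExactFunctor L).comp (Ext.mk₀ (adj.counit.app S.X₁)) (add_zero 1) =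
      (Ext.mk₀ (L.map m ≫ adj.counit.app S.X₃)).comp hS.extClass (zero_add 1) :=
    (congrArg (fun t => Ext.comp t (Ext.mk₀ (adj.counit.app S.X₁)) (add_zero 1))
      (Ext.mapExactFunctor_extClass L hS₁)).trans
      (ShortComplex.ShortExact.extClass_naturality (hS₁.map_of_exact L) hS φ)
  have h1 : (Ext.mk₀ χ).comp hS.extClass (zero_add 1) = 0 := by
    refine Eq.trans ?_ hx
    simp only [χ, HofBij.hof, Ext.mapExactFunctor_comp, Ext.mapExactFunctor_mk₀,
      Ext.comp_assoc_of_third_deg_zero]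
    erw [hn]
    rw [Ext.mk₀_comp_mk₀_assoc, Ext.mk₀_comp_mk₀_assoc, Adjunction.homEquiv_counit,
      Functor.map_comp, Category.assoc, Category.assoc]
  obtain ⟨ψ, hψ⟩ := Ext.covariant_sequence_exact₃ ZA hS (Ext.mk₀ χ) (n₁ := 1) rfl h1
  obtain ⟨ψ, rfl⟩ := (Ext.mk₀_bijective _ _).2 ψ
  rw [Ext.mk₀_comp_mk₀] at hψ
  have hψ' : ψ ≫ S.g = χ := (Ext.mk₀_bijective _ _).1 hψ
  have hz : z = adj.homEquiv ZB S.X₂ (inv i ≫ ψ) ≫ cokernel.π (R.map S.f) := by
    rw [← cancel_mono m, Category.assoc, cokernel.π_desc, ← adj.homEquiv_naturality_right,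
      Category.assoc, hψ', IsIso.inv_hom_id_assoc, Equiv.apply_symm_apply]
  rw [hz, ← Ext.mk₀_comp_mk₀, Ext.comp_assoc_of_second_deg_zero]
  exact (congrArg (fun v => (Ext.mk₀ _).comp v _) hS₁.comp_extClass).trans (Ext.comp_zero _ _ _ _ _)

include adj in
/-- Degree two is injective when the first derived direct image vanishes. -/
theorem hof_injective_two (hi : IsIso i) (F : A) (hR : IsZero ((R.rightDerived 1).obj F))
    (x : Ext.{w} ZB (R.obj F) 2) (hx : HofBij.hof adj i F 2 x = 0) : x = 0 := by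
  haveI : R.IsRightAdjoint := adj.isRightAdjoint
  haveI : PreservesFiniteLimits R := inferInstance
  let Q := Classical.arbitrary (InjectivePresentation F)
  have hS := Q.shortExact_shortComplex
  let S := Q.shortComplex
  haveI : Injective S.X₂ := Q.injective
  haveI : L.PreservesMonomorphisms := inferInstance
  haveI : Injective (R.obj S.X₂) := Injective.injective_of_adjoint adj _
  have hS' : (S.map R).ShortExact := TriCat.shortExact_map_of_subsingleton hS hR
  let e' : Ext.{w} (R.obj S.X₃) (R.obj S.X₁) 1 := hS'.extClass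
  have hn : (e'.mapExactFunctor L).comp (Ext.mk₀ (adj.counit.app S.X₁)) (add_zero 1) =
      (Ext.mk₀ (adj.counit.app S.X₃)).comp hS.extClass (zero_add 1) :=
    (congrArg (fun t => Ext.comp t (Ext.mk₀ (adj.counit.app S.X₁)) (add_zero 1))
      (Ext.mapExactFunctor_extClass L hS')).trans
      (ShortComplex.ShortExact.extClass_naturality (hS'.map_of_exact L) hS
        ({ τ₁ := adj.counit.app S.X₁, τ₂ := adj.counit.app S.X₂, τ₃ := adj.counit.app S.X₃
           comm₁₂ := (adj.counit.naturality S.f).symm, comm₂₃ := (adj.counit.naturality S.g).symm } :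
          (S.map R).map L ⟶ S))
  obtain ⟨y, hy⟩ : ∃ y : Ext.{w} ZB (R.obj S.X₃) 1, y.comp e' rfl = x :=
    haveI : Injective (S.map R).X₂ := ‹Injective (R.obj S.X₂)›
    Ext.covariant_sequence_exact₁ ZB hS' x (Ext.eq_zero_of_injective _) rfl
  subst hy
  have hx' : (HofBij.hof adj i S.X₃ 1 y).comp hS.extClass rfl = 0 :=
    (HofBij.hof_comp adj i 1 y e' hS.extClass hn).symm.trans hx
  obtain ⟨z, hz⟩ := Ext.covariant_sequence_exact₃ ZA hS (HofBij.hof adj i S.X₃ 1 y) (n₁ := 2) rfl hx'
  rw [Ext.eq_zero_of_injective z, Ext.zero_comp] at hz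
  rw [hof_injective_one adj i hi S.X₃ y hz.symm, Ext.zero_comp]

end Groth.Agent.DixBrauer.HofInj
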