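import Groth.Agent.DixBrauer.FieldH1
import Groth.Agent.DixBrauer.HofInj
import Groth.Agent.BigSiteLib.HofPushEt
import Groth.Agent.EtFound.PullStalk

/-!
Direct images of `G_m` and of constant sheaves from the spectrum of a field.
-/

universe u

set_option linter.style.haveILetI false
set_option backward.isDefEq.respectTransparency.types false

open CategoryTheory CategoryTheory.Limits CategoryTheory.Abelian AlgebraicGeometry Opposite

namespace Groth.Agent.DixBrauer.PointPush

variable {Y : Scheme.{u}} {k : Type u} [Field k] (f : Spec (CommRingCat.of k) ⟶ Y)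

/-- The first derived direct image vanishes when sections over separable points lift. -/
theorem isZero_rpush_one_of_lift (F : EtCoh.Ab (Spec (CommRingCat.of k)))
    (hlift : ∀ (S : ShortComplex (EtCoh.Ab (Spec (CommRingCat.of k)))), S.ShortExact → S.X₁ = F →
      ∀ (L : Type u) [Field L] (p : Spec (CommRingCat.of L) ⟶ Spec (CommRingCat.of k))
        [AlgebraicGeometry.Etale p] (s : EtCoh.sect S.X₃ (GalCover.pObj p)),
        ∃ a, (S.g.hom.app (op (GalCover.pObj p))).hom a = s) :
    IsZero ((EtCoh.Rpush f 1).obj F) := by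
  let Q := Classical.arbitrary (InjectivePresentation F)
  have hS := Q.shortExact_shortComplex
  haveI : Injective Q.shortComplex.X₂ := Q.injective
  let R := EtCoh.push f
  haveI : R.IsRightAdjoint := (EtCoh.pullPushAdj f).isRightAdjoint
  haveI : PreservesFiniteLimits R := inferInstance
  let := HasDerivedCategory.standard (EtCoh.Ab (Spec (CommRingCat.of k)))
  let := HasDerivedCategory.standard (EtCoh.Ab Y)
  obtain ⟨δ, w₁, w₂, w₃, e₁, e₂, e₃⟩ := TriCat.exists_rightDerived_ses R hS 0
  haveI : Epi δ :=
    e₃.epi_f ((R.isZero_rightDerived_obj_injective_succ 0 Q.shortComplex.X₂).eq_of_tgt _ _)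
  let d : R.obj Q.shortComplex.X₃ ⟶ (R.rightDerived 1).obj F :=
    R.rightDerivedZeroIsoSelf.inv.app Q.shortComplex.X₃ ≫ δ
  haveI : Epi d := epi_comp _ _
  have hd : R.map Q.shortComplex.g ≫ d = 0 := by
    rw [← Category.assoc, R.rightDerivedZeroIsoSelf.inv.naturality, Category.assoc, w₂, comp_zero]
  have h0 : d = 0 := by
    refine Sheaf.hom_ext (NatTrans.ext (funext fun V => AddCommGrpCat.hom_ext
      (AddMonoidHom.ext fun s => ?_)))
    obtain ⟨a, ha⟩ := FieldH1.exists_lift_sections_of_lift (hlift _ hS rfl)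
      ((EtCoh.bc f).obj V.unop) s
    refine (congrArg _ ha.symm).trans ?_
    exact congrArg (fun t : R.obj Q.shortComplex.X₂ ⟶ (R.rightDerived 1).obj F =>
      (t.hom.app V).hom a) hd
  exact IsZero.of_epi_eq_zero d h0

/-- The first derived direct image vanishes when Galois cocycles are coboundaries. -/
theorem isZero_rpush_one (F : EtCoh.Ab (Spec (CommRingCat.of k)))
    (hcoc : ∀ (L : Type u) [Field L] (p : Spec (CommRingCat.of L) ⟶ Spec (CommRingCat.of k))
      [AlgebraicGeometry.Etale p], FieldH1.Coboundaries F p) :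
    IsZero ((EtCoh.Rpush f 1).obj F) :=
  isZero_rpush_one_of_lift f F fun _ hS hF L _ p _ s =>
    FieldH1.exists_lift_of_coboundaries hS p (hF.symm ▸ hcoc L p) s

/-- `R¹ f_* G_m = 0` for a morphism from the spectrum of a field. -/
theorem isZero_rpush_one_Gm :
    IsZero ((EtCoh.Rpush f 1).obj (EtCoh.Gm (Spec (CommRingCat.of k)))) :=
  isZero_rpush_one f _ fun _ _ p _ => FieldH1.coboundaries_Gm p

theorem injective_hofPush_one [PreservesFiniteLimits (EtCoh.pull f)]
    (F : EtCoh.Ab (Spec (CommRingCat.of k))) : Function.Injective (EtLim.HofPush f F 1) := by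
  haveI : (EtCoh.pull f).IsLeftAdjoint := (EtCoh.pullPushAdj f).isLeftAdjoint
  haveI : (EtCoh.pull f).Additive := (EtCoh.pullPushAdj f).left_adjoint_additive
  exact (injective_iff_map_eq_zero (EtLim.HofPush f F 1)).2 fun x hx =>
    HofInj.hof_injective_one (EtCoh.pullPushAdj f) (EtCore.pullConst f ℤ).inv inferInstance F x hx

theorem injective_hofPush_two [PreservesFiniteLimits (EtCoh.pull f)]
    (F : EtCoh.Ab (Spec (CommRingCat.of k))) (hR : IsZero ((EtCoh.Rpush f 1).obj F)) :
    Function.Injective (EtLim.HofPush f F 2) := by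
  haveI : (EtCoh.pull f).IsLeftAdjoint := (EtCoh.pullPushAdj f).isLeftAdjoint
  haveI : (EtCoh.pull f).Additive := (EtCoh.pullPushAdj f).left_adjoint_additive
  exact (injective_iff_map_eq_zero (EtLim.HofPush f F 2)).2 fun x hx =>
    HofInj.hof_injective_two (EtCoh.pullPushAdj f) (EtCore.pullConst f ℤ).inv inferInstance F hR x hx

theorem subsingleton_H1_push (F : EtCoh.Ab (Spec (CommRingCat.of k)))
    (h : Subsingleton (EtCoh.H (Spec (CommRingCat.of k)) F 1)) :
    Subsingleton (EtCoh.H Y ((EtCoh.push f).obj F) 1) := by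
  haveI := EtFound.pull_preservesFiniteLimits f
  exact (injective_hofPush_one f F).subsingleton

end Groth.Agent.DixBrauer.PointPush
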