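import Groth.Agent.DixBrauer.FinitePush
import Groth.Agent.DixBrauer.PointPush
import Mathlib.RingTheory.Norm.Transitivity
import Mathlib.GroupTheory.OrderOfElement

/-!
Classes in `H²(E, G_m)` dying on a cyclic extension `L/E` vanish when every unit of `E` is a norm.
-/

universe u

set_option linter.style.haveILetI false
set_option backward.isDefEq.respectTransparency.types false

open CategoryTheory CategoryTheory.Limits CategoryTheory.Abelian AlgebraicGeometry Opposite

namespace Groth.Agent.DixBrauer.CyclicGal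

open GalCover

variable (E L : Type u) [Field E] [Field L] [Algebra E L] [Module.Finite E L] [Algebra.IsSeparable E L]

/-- The morphism of spectra. -/
noncomputable abbrev π : Spec (CommRingCat.of L) ⟶ Spec (CommRingCat.of E) := specExt (L := E) L

/-- The base point. -/
noncomputable abbrev base : Spec (CommRingCat.of E) ⟶ Spec (CommRingCat.of E) := 𝟙 _

/-- The base change of an object, over `E`. -/
noncomputable abbrev Q (V : (Spec (CommRingCat.of E)).Etale) : (Spec (CommRingCat.of E)).Etale :=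
  haveI : AlgebraicGeometry.Etale V.hom := V.prop
  Scheme.Etale.mk (pullback.fst V.hom (π E L) ≫ V.hom)

variable {E L}

/-- The projection of the base change. -/
noncomputable abbrev projQ (V : (Spec (CommRingCat.of E)).Etale) : Q E L V ⟶ V :=
  MorphismProperty.Over.homMk (pullback.fst V.hom (π E L)) rfl

/-- The projection to `L`. -/
noncomputable abbrev sndQ (V : (Spec (CommRingCat.of E)).Etale) : Q E L V ⟶ vObj (base E) L :=
  MorphismProperty.Over.homMk (pullback.snd V.hom (π E L)) (by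
    show pullback.snd V.hom (π E L) ≫ π E L ≫ 𝟙 _ = pullback.fst V.hom (π E L) ≫ V.hom
    rw [Category.comp_id]
    exact pullback.condition.symm)

theorem homQ_ext {W V : (Spec (CommRingCat.of E)).Etale} {a b : W ⟶ Q E L V}
    (h₁ : a ≫ projQ V = b ≫ projQ V) (h₂ : a ≫ sndQ V = b ≫ sndQ V) : a = b :=
  MorphismProperty.Over.Hom.ext (pullback.hom_ext
    (congrArg (fun m : W ⟶ V => m.left) h₁) (congrArg (fun m : W ⟶ vObj (base E) L => m.left) h₂))

theorem exists_liftQ {W V : (Spec (CommRingCat.of E)).Etale} (a : W ⟶ V) (b : W ⟶ vObj (base E) L) :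
    ∃ c : W ⟶ Q E L V, c ≫ projQ V = a ∧ c ≫ sndQ V = b := by
  have ha : a.left ≫ V.hom = W.hom := Over.w a.hom
  have hb : b.left ≫ π E L = W.hom := by
    have h : b.left ≫ π E L ≫ 𝟙 _ = W.hom := Over.w b.hom
    rwa [Category.comp_id] at h
  refine ⟨MorphismProperty.Over.homMk (pullback.lift a.left b.left (ha.trans hb.symm)) ?_, ?_, ?_⟩
  · show pullback.lift _ _ _ ≫ pullback.fst _ _ ≫ V.hom = W.hom
    rw [pullback.lift_fst_assoc, ha]
  · exact MorphismProperty.Over.Hom.ext (pullback.lift_fst _ _ _)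
  · exact MorphismProperty.Over.Hom.ext (pullback.lift_snd _ _ _)

/-- The graph of the `τ`-translate of a morphism to `L`. -/
noncomputable def gr {V : (Spec (CommRingCat.of E)).Etale} (φ : V ⟶ vObj (base E) L) (τ : L ≃ₐ[E] L) :
    V ⟶ Q E L V :=
  (exists_liftQ (𝟙 V) (φ ≫ act (base E) L τ)).choose

theorem gr_proj {V : (Spec (CommRingCat.of E)).Etale} (φ : V ⟶ vObj (base E) L) (τ : L ≃ₐ[E] L) :
    gr φ τ ≫ projQ V = 𝟙 V :=
  (exists_liftQ (𝟙 V) (φ ≫ act (base E) L τ)).choose_spec.1

theorem gr_snd {V : (Spec (CommRingCat.of E)).Etale} (φ : V ⟶ vObj (base E) L) (τ : L ≃ₐ[E] L) :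
    gr φ τ ≫ sndQ V = φ ≫ act (base E) L τ :=
  (exists_liftQ (𝟙 V) (φ ≫ act (base E) L τ)).choose_spec.2

/-- The translation of the base change. -/
noncomputable def shift (τ : L ≃ₐ[E] L) (V : (Spec (CommRingCat.of E)).Etale) : Q E L V ⟶ Q E L V :=
  (exists_liftQ (projQ V) (sndQ V ≫ act (base E) L τ)).choose

theorem shift_proj (τ : L ≃ₐ[E] L) (V : (Spec (CommRingCat.of E)).Etale) :
    shift τ V ≫ projQ V = projQ V :=
  (exists_liftQ (projQ V) (sndQ V ≫ act (base E) L τ)).choose_spec.1

theorem shift_snd (τ : L ≃ₐ[E] L) (V : (Spec (CommRingCat.of E)).Etale) :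
    shift τ V ≫ sndQ V = sndQ V ≫ act (base E) L τ :=
  (exists_liftQ (projQ V) (sndQ V ≫ act (base E) L τ)).choose_spec.2

theorem gr_shift {V : (Spec (CommRingCat.of E)).Etale} (φ : V ⟶ vObj (base E) L) (τ ρ : L ≃ₐ[E] L) :
    gr φ τ ≫ shift ρ V = gr φ (τ * ρ) := by
  refine homQ_ext ?_ ?_
  · rw [Category.assoc, shift_proj, gr_proj, gr_proj]
  · rw [Category.assoc, shift_snd, ← Category.assoc, gr_snd, Category.assoc, act_comp, gr_snd]

theorem shift_comp (τ ρ : L ≃ₐ[E] L) (V : (Spec (CommRingCat.of E)).Etale) :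
    shift τ V ≫ shift ρ V = shift (τ * ρ) V := by
  refine homQ_ext ?_ ?_
  · rw [Category.assoc, shift_proj, shift_proj, shift_proj]
  · rw [Category.assoc, shift_snd, ← Category.assoc, shift_snd, Category.assoc, act_comp, shift_snd]

variable (E L) in
/-- The direct image of `G_m`. -/
noncomputable abbrev A : EtCoh.Ab (Spec (CommRingCat.of E)) :=
  (EtCoh.push (π E L)).obj (EtCoh.Gm (Spec (CommRingCat.of L)))

/-- A section of the direct image as a section of `G_m` on the base change. -/
noncomputable abbrev toQ {V : (Spec (CommRingCat.of E)).Etale} (z : EtCoh.sect (A E L) V) :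
    EtCoh.sect (EtCoh.Gm (Spec (CommRingCat.of E))) (Q E L V) := z

/-- A section of `G_m` on the base change as a section of the direct image. -/
noncomputable abbrev ofQ {V : (Spec (CommRingCat.of E)).Etale}
    (z : EtCoh.sect (EtCoh.Gm (Spec (CommRingCat.of E))) (Q E L V)) : EtCoh.sect (A E L) V := z

/-- Functoriality of the base change. -/
noncomputable def mapQ {V V' : (Spec (CommRingCat.of E)).Etale} (g : V ⟶ V') : Q E L V ⟶ Q E L V' :=
  MorphismProperty.Over.homMk ((EtCoh.bc (π E L)).map g).left (by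
    have w := (EtCoh.isPullback_bc_map (π E L) g).w
    show ((EtCoh.bc (π E L)).map g).left ≫ pullback.fst _ _ ≫ V'.hom = pullback.fst _ _ ≫ V.hom
    refine (Category.assoc _ _ _).symm.trans ?_
    refine (congrArg (· ≫ V'.hom) w).trans ?_
    exact (Category.assoc _ _ _).trans (congrArg (pullback.fst _ _ ≫ ·) (Over.w g.hom)))

theorem mapQ_proj {V V' : (Spec (CommRingCat.of E)).Etale} (g : V ⟶ V') :
    mapQ (L := L) g ≫ projQ V' = projQ V ≫ g :=
  MorphismProperty.Over.Hom.ext (EtCoh.isPullback_bc_map (π E L) g).w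

theorem mapQ_snd {V V' : (Spec (CommRingCat.of E)).Etale} (g : V ⟶ V') :
    mapQ (L := L) g ≫ sndQ V' = sndQ V :=
  MorphismProperty.Over.Hom.ext (by
    show ((EtCoh.bc (π E L)).map g).left ≫ pullback.snd V'.hom (π E L) = pullback.snd V.hom (π E L)
    dsimp [EtCoh.bc]
    exact pullback.lift_snd _ _ _)

theorem mapQ_shift {V V' : (Spec (CommRingCat.of E)).Etale} (g : V ⟶ V') (τ : L ≃ₐ[E] L) :
    mapQ g ≫ shift τ V' = shift τ V ≫ mapQ g := by
  refine homQ_ext ?_ ?_
  · rw [Category.assoc, shift_proj, Category.assoc, mapQ_proj, ← Category.assoc, shift_proj]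
  · rw [Category.assoc, shift_snd, ← Category.assoc, mapQ_snd, Category.assoc, mapQ_snd, shift_snd]

/-- The Galois action on the direct image. -/
noncomputable def actA (τ : L ≃ₐ[E] L) : A E L ⟶ A E L :=
  ObjectProperty.homMk (Functor.whiskerRight (NatTrans.op
    ({ app := fun V => (shift τ V).left
       naturality := fun V V' g =>
        congrArg (fun m : Q E L V ⟶ Q E L V' => m.left) (mapQ_shift g τ) } :
      EtCoh.bc (π E L) ⋙ (Scheme.Etale.forget _ ⋙ Over.forget _) ⟶
        EtCoh.bc (π E L) ⋙ (Scheme.Etale.forget _ ⋙ Over.forget _))) EtCoh.ΓUnits)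

theorem actA_app (τ : L ≃ₐ[E] L) {V : (Spec (CommRingCat.of E)).Etale} (z : EtCoh.sect (A E L) V) :
    toQ (((actA τ).hom.app (op V)).hom z) = rs (EtCoh.Gm _) (shift τ V) (toQ z) := rfl

theorem gmPush_app {V : (Spec (CommRingCat.of E)).Etale}
    (b : EtCoh.sect (EtCoh.Gm (Spec (CommRingCat.of E))) V) :
    toQ (((EtLim.GmPush (π E L)).hom.app (op V)).hom b) = rs (EtCoh.Gm _) (projQ V) b := rfl

theorem gmPush_actA (τ : L ≃ₐ[E] L) : EtLim.GmPush (π E L) ≫ actA τ = EtLim.GmPush (π E L) := by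
  refine Sheaf.hom_ext (NatTrans.ext (funext fun V => AddCommGrpCat.hom_ext
    (AddMonoidHom.ext fun b => ?_)))
  show rs (EtCoh.Gm _) (shift τ V.unop) (rs (EtCoh.Gm _) (projQ V.unop) b) =
    rs (EtCoh.Gm _) (projQ V.unop) b
  rw [rs_comp, shift_proj]

theorem actA_comp (τ ρ : L ≃ₐ[E] L) : actA τ ≫ actA ρ = actA (ρ * τ) := by
  refine Sheaf.hom_ext (NatTrans.ext (funext fun V => AddCommGrpCat.hom_ext
    (AddMonoidHom.ext fun b => ?_)))
  show rs (EtCoh.Gm _) (shift ρ V.unop) (rs (EtCoh.Gm _) (shift τ V.unop) (toQ b)) =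
    rs (EtCoh.Gm _) (shift (ρ * τ) V.unop) (toQ b)
  rw [rs_comp, shift_comp]

theorem shift_one (V : (Spec (CommRingCat.of E)).Etale) : shift (1 : L ≃ₐ[E] L) V = 𝟙 (Q E L V) := by
  have h1 : act (base E) L (1 : L ≃ₐ[E] L) = 𝟙 _ := MorphismProperty.Over.Hom.ext (Spec.map_id _)
  refine homQ_ext ?_ ?_
  · rw [shift_proj, Category.id_comp]
  · rw [shift_snd, h1, Category.comp_id, Category.id_comp]

variable [IsGalois E L]

omit [IsGalois E L] in
theorem surjective_projQ (V : (Spec (CommRingCat.of E)).Etale) :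
    Function.Surjective (projQ (L := L) V).left.base := by
  haveI : Surjective (π E L) := ⟨fun _ =>
    ⟨IsLocalRing.closedPoint L, Subsingleton.elim (α := Spec (CommRingCat.of E)) _ _⟩⟩
  haveI : Surjective (pullback.fst V.hom (π E L)) := MorphismProperty.pullback_fst _ _ inferInstance
  exact Scheme.Hom.surjective (pullback.fst V.hom (π E L))

/-- The base change is locally a torsor. -/
theorem locally_shift (V W : (Spec (CommRingCat.of E)).Etale) (a b : W ⟶ Q E L V)
    (hab : a ≫ projQ V = b ≫ projQ V) (w : W.left) :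
    ∃ (W' : (Spec (CommRingCat.of E)).Etale) (g : W' ⟶ W) (w' : W'.left), g.left.base w' = w ∧
      ∃ τ : L ≃ₐ[E] L, g ≫ b = g ≫ a ≫ shift τ V := by
  have hp : ∀ c : W ⟶ vObj (base E) L, c ≫ proj (base E) L = (EtCore.topIsTerminal _).from W :=
    fun c => (EtCore.topIsTerminal _).hom_ext _ _
  obtain ⟨W', g, w', hw', τ, hτ⟩ := locally_torsor (base E) L W (a ≫ sndQ V) (b ≫ sndQ V)
    (by rw [hp, hp]) w
  refine ⟨W', g, w', hw', τ, homQ_ext ?_ ?_⟩
  · rw [Category.assoc, Category.assoc, Category.assoc, shift_proj, hab]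
  · rw [Category.assoc, Category.assoc, Category.assoc, shift_snd, hτ, Category.assoc]

/-- Invariant sections of the direct image come from the base. -/
theorem exists_descent_invariant (V : (Spec (CommRingCat.of E)).Etale) (z : EtCoh.sect (A E L) V)
    (hz : ∀ τ : L ≃ₐ[E] L, ((actA τ).hom.app (op V)).hom z = z) :
    ∃! b, ((EtLim.GmPush (π E L)).hom.app (op V)).hom b = z :=
  exists_descent (projQ V) (surjective_projQ V) (fun τ => shift τ V) (locally_shift V)
    (EtCoh.Gm _) (toQ z) hz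

instance mono_gmPush : Mono (EtLim.GmPush (π E L)) where
  right_cancellation {F} a b h := by
    refine Sheaf.hom_ext (NatTrans.ext (funext fun V => AddCommGrpCat.hom_ext
      (AddMonoidHom.ext fun x => ?_)))
    refine (exists_descent_invariant V.unop
      (((EtLim.GmPush (π E L)).hom.app V).hom ((a.hom.app V).hom x)) fun τ => ?_).unique rfl ?_
    · exact congrArg (fun m : EtCoh.Gm _ ⟶ A E L => (m.hom.app V).hom ((a.hom.app V).hom x))
        (gmPush_actA τ)
    · exact congrArg (fun m : F ⟶ A E L => (m.hom.app V).hom x) h.symm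

/-- Sections of the direct image over an object lying over `L` are tuples. -/
theorem existsUnique_coords {V : (Spec (CommRingCat.of E)).Etale} (φ : V ⟶ vObj (base E) L)
    (s : (L ≃ₐ[E] L) → EtCoh.sect (EtCoh.Gm (Spec (CommRingCat.of E))) V) :
    ∃! z : EtCoh.sect (A E L) V, ∀ τ, rs (EtCoh.Gm _) (gr φ τ) (toQ z) = s τ := by
  have hcov : ∀ x : (Q E L V).left, ∃ (W : (Spec (CommRingCat.of E)).Etale) (g : W ⟶ Q E L V) (w : W.left),
      Presieve.ofArrows (fun _ : L ≃ₐ[E] L => V) (gr φ) g ∧ g.left.base w = x := by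
    intro x
    obtain ⟨W', g, w', hw', τ, hτ⟩ := locally_shift V (Q E L V) (projQ V ≫ gr φ 1) (𝟙 _)
      (by rw [Category.assoc, gr_proj, Category.comp_id, Category.id_comp]) x
    rw [Category.comp_id, Category.assoc, gr_shift, one_mul, ← Category.assoc] at hτ
    refine ⟨V, gr φ τ, (g ≫ projQ V).left.base w', Presieve.ofArrows.mk τ, ?_⟩
    rw [← hw']
    exact (congrArg (fun m : W' ⟶ Q E L V => m.left.base w') hτ).symm
  refine (Presieve.isSheafFor_arrows_iff _ _).1
    (isSheafFor (EtCoh.Gm _) (Presieve.ofArrows (fun _ : L ≃ₐ[E] L => V) (gr φ)) hcov) s ?_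
  intro τ ρ Z g₁ g₂ hg
  have hgg : g₁ = g₂ := by
    have := congrArg (· ≫ projQ V) hg
    simpa only [Category.assoc, gr_proj, Category.comp_id] using this
  subst hgg
  cases isEmpty_or_nonempty Z.left with
  | inl h => exact (subsingleton_sect_of_isEmpty _ Z).elim _ _
  | inr h =>
    obtain ⟨z⟩ := h
    have hτρ : τ = ρ := by
      have h1 := congrArg (· ≫ sndQ V) hg
      simp only [Category.assoc, gr_snd] at h1
      let a : CommRingCat.of L ⟶ Z.left.residueField z :=
        Spec.preimage (Z.left.fromSpecResidueField z ≫ g₁.left ≫ φ.left)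
      have key : CommRingCat.ofHom τ.toAlgHom.toRingHom ≫ a = CommRingCat.ofHom ρ.toAlgHom.toRingHom ≫ a := by
        apply Spec.map_injective
        rw [Spec.map_comp, Spec.map_comp, Spec.map_preimage, Category.assoc, Category.assoc,
          Category.assoc, Category.assoc]
        exact congrArg (fun m : Z ⟶ vObj (base E) L => Z.left.fromSpecResidueField z ≫ m.left) h1
      exact AlgEquiv.ext fun x => a.hom.injective (ConcreteCategory.congr_hom key x)
    subst hτρ
    rfl

variable {σ : L ≃ₐ[E] L} (hσ : ∀ τ : L ≃ₐ[E] L, τ ∈ Subgroup.zpowers σ)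

include hσ in
omit [IsGalois E L] in
theorem actA_invariant {V : (Spec (CommRingCat.of E)).Etale} (z : EtCoh.sect (A E L) V)
    (hz : ((actA σ).hom.app (op V)).hom z = z) (τ : L ≃ₐ[E] L) :
    ((actA τ).hom.app (op V)).hom z = z := by
  obtain ⟨i, rfl⟩ := (IsOfFinOrder.mem_powers_iff_mem_zpowers (isOfFinOrder_of_finite σ)).2 (hσ τ)
  induction i with
  | zero =>
    show ((actA (σ ^ 0)).hom.app (op V)).hom z = z
    rw [pow_zero]
    show rs (EtCoh.Gm _) (shift 1 V) (toQ z) = z
    rw [shift_one]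
    exact ConcreteCategory.congr_hom ((EtCoh.Gm _).obj.map_id (op (Q E L V))) (toQ z)
  | succ i ih =>
    show ((actA (σ ^ (i + 1))).hom.app (op V)).hom z = z
    rw [pow_succ, ← actA_comp]
    exact (congrArg _ hz).trans ih

/-- Telescoping along a cyclic group. -/
theorem exists_telescope {G M : Type*} [Group G] [Fintype G] [AddCommGroup M] (g : G)
    (hg : ∀ x : G, x ∈ Subgroup.zpowers g) (s : G → M) (hs : ∑ x, s x = 0) :
    ∃ t : G → M, ∀ x, t (x * g) - t x = s x := by
  classical
  have hmem : ∀ x : G, ∃ i, i < orderOf g ∧ g ^ i = x := fun x => by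
    obtain ⟨j, rfl⟩ := (IsOfFinOrder.mem_powers_iff_mem_zpowers (isOfFinOrder_of_finite g)).2 (hg x)
    exact ⟨j % orderOf g, Nat.mod_lt _ (orderOf_pos g), pow_mod_orderOf g j⟩
  choose idx hidx hpow using hmem
  refine ⟨fun x => ∑ j ∈ Finset.range (idx x), s (g ^ j), fun x => ?_⟩
  show ∑ j ∈ Finset.range (idx (x * g)), s (g ^ j) - _ = s x
  have heq : ∀ i, i < orderOf g → ∀ y, g ^ i = y → idx y = i := fun i hi y hy =>
    pow_injOn_Iio_orderOf (hidx y) hi ((hpow y).trans hy.symm)
  rcases Nat.lt_or_ge (idx x + 1) (orderOf g) with h | h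
  · rw [heq (idx x + 1) h (x * g) (by rw [pow_succ, hpow]), Finset.sum_range_succ, add_sub_cancel_left,
      hpow]
  · have hn : idx x + 1 = orderOf g := le_antisymm (hidx x) h
    have h0 : idx (x * g) = 0 := heq 0 (orderOf_pos g) _ (by
      rw [pow_zero, ← hpow x, ← pow_succ, hn, pow_orderOf_eq_one])
    have htot : ∑ j ∈ Finset.range (orderOf g), s (g ^ j) = 0 := by
      rw [← hs]
      refine Finset.sum_bij (fun j _ => g ^ j) (fun _ _ => Finset.mem_univ _) ?_ ?_ (fun _ _ => rfl)
      · intro i hi j hj hij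
        exact pow_injOn_Iio_orderOf (Finset.mem_range.1 hi) (Finset.mem_range.1 hj) hij
      · exact fun y _ => ⟨idx y, Finset.mem_range.2 (hidx y), hpow y⟩
    rw [← hn, Finset.sum_range_succ, hpow] at htot
    rw [h0, Finset.range_zero, Finset.sum_empty, zero_sub, neg_eq_iff_add_eq_zero, htot]

variable (E L) in
/-- The sum of all translates. -/
noncomputable def traceA : A E L ⟶ A E L := ∑ τ : L ≃ₐ[E] L, actA τ

theorem app_sum {ι : Type*} (S : Finset ι) {F G : EtCoh.Ab (Spec (CommRingCat.of E))} (f : ι → (F ⟶ G))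
    {V : (Spec (CommRingCat.of E)).Etale} (z : EtCoh.sect F V) :
    ((∑ i ∈ S, f i).hom.app (op V)).hom z = ∑ i ∈ S, ((f i).hom.app (op V)).hom z := by
  let Ev : (F ⟶ G) →+ EtCoh.sect G V :=
    AddMonoidHom.mk' (fun ψ => (ψ.hom.app (op V)).hom z) (fun _ _ => rfl)
  exact map_sum Ev f S

include hσ in
theorem exists_of_traceA {V : (Spec (CommRingCat.of E)).Etale} (φ : V ⟶ vObj (base E) L)
    (s : EtCoh.sect (A E L) V) (hs : ((traceA E L).hom.app (op V)).hom s = 0) :
    ∃ t : EtCoh.sect (A E L) V, ((actA σ - 𝟙 (A E L)).hom.app (op V)).hom t = s := by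
  classical
  let c : (L ≃ₐ[E] L) → EtCoh.sect (EtCoh.Gm _) V := fun τ => rs (EtCoh.Gm _) (gr φ τ) (toQ s)
  have hc : ∑ τ, c τ = 0 := by
    have h := congrArg (fun z => rs (EtCoh.Gm _) (gr φ 1) (toQ z)) hs
    rw [traceA, app_sum] at h
    refine Eq.trans ?_ (h.trans (map_zero _))
    refine Eq.trans ?_ (map_sum (rs (EtCoh.Gm _) (gr φ 1)) _ _).symm
    refine Finset.sum_congr rfl fun τ _ => ?_
    show _ = rs (EtCoh.Gm _) (gr φ 1) (rs (EtCoh.Gm _) (shift τ V) (toQ s))
    rw [rs_comp, gr_shift, one_mul]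
  obtain ⟨d, hd⟩ := exists_telescope σ hσ c hc
  obtain ⟨t, ht, -⟩ := existsUnique_coords φ d
  refine ⟨t, (existsUnique_coords φ c).unique (fun τ => ?_) fun τ => rfl⟩
  show rs (EtCoh.Gm _) (gr φ τ) (rs (EtCoh.Gm _) (shift σ V) (toQ t) - toQ t) = c τ
  rw [map_sub, rs_comp, gr_shift, ht, ht, hd]

omit [IsGalois E L] in
theorem actA_traceA (ρ : L ≃ₐ[E] L) : actA ρ ≫ traceA E L = traceA E L := by
  classical
  rw [traceA, Preadditive.comp_sum]
  simp only [actA_comp]
  exact Fintype.sum_equiv (Equiv.mulRight ρ) _ _ fun _ => rfl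

omit [IsGalois E L] in
theorem traceA_actA (ρ : L ≃ₐ[E] L) : traceA E L ≫ actA ρ = traceA E L := by
  classical
  rw [traceA, Preadditive.sum_comp]
  simp only [actA_comp]
  exact Fintype.sum_equiv (Equiv.mulLeft ρ) _ _ fun _ => rfl

variable (σ) in
/-- The difference map to the kernel of the trace. -/
noncomputable def diff : A E L ⟶ kernel (traceA E L) :=
  kernel.lift _ (actA σ - 𝟙 (A E L))
    (by rw [Preadditive.sub_comp, actA_traceA, Category.id_comp, sub_self])

omit [IsGalois E L] in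
theorem diff_ι (σ : L ≃ₐ[E] L) : diff σ ≫ kernel.ι (traceA E L) = actA σ - 𝟙 (A E L) :=
  kernel.lift_ι _ _ _

omit [IsGalois E L] in
theorem app_kernel_injective {F G : EtCoh.Ab (Spec (CommRingCat.of E))} (g : F ⟶ G) (U : (Spec (CommRingCat.of E)).Etale) :
    Function.Injective ((kernel.ι g).hom.app (op U)).hom := by
  haveI : LocallySmall.{u + 1} (Spec (CommRingCat.of E)).Etale := ⟨fun _ _ => inferInstance⟩
  exact (AddCommGrpCat.mono_iff_injective _).1 (inferInstanceAs (Mono ((sheafToPresheaf _ _ ⋙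
    (evaluation (Spec (CommRingCat.of E)).Etaleᵒᵖ AddCommGrpCat.{u + 1}).obj (op U)).map (kernel.ι g))))

omit [IsGalois E L] in
theorem gmPush_diff (σ : L ≃ₐ[E] L) : EtLim.GmPush (π E L) ≫ diff σ = 0 := by
  rw [← cancel_mono (kernel.ι (traceA E L)), Category.assoc, diff_ι, Preadditive.comp_sub,
    gmPush_actA, Category.comp_id, sub_self, zero_comp]

/-- The sequence `G_m ⟶ π_* G_m ⟶ ker(trace)`. -/
noncomputable abbrev seq₁ (σ : L ≃ₐ[E] L) : ShortComplex (EtCoh.Ab (Spec (CommRingCat.of E))) :=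
  ShortComplex.mk (EtLim.GmPush (π E L)) (diff σ) (gmPush_diff σ)

include hσ in
theorem epi_diff : Epi (diff σ) := by
  haveI : LocallySmall.{u + 1} (Spec (CommRingCat.of E)).Etale := ⟨fun _ _ => inferInstance⟩
  refine (Sheaf.isLocallySurjective_iff_epi' AddCommGrpCat.{u + 1} (diff σ)).1 ⟨fun {U} y => ?_⟩
  refine (EtFound.mem_topology_iff _).2 fun x => ?_
  obtain ⟨q, hq⟩ := surjective_projQ (E := E) (L := L) U x
  refine ⟨Q E L U, projQ U, q, ?_, hq⟩
  let y' := rs (kernel (traceA E L)) (projQ (L := L) U) y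
  obtain ⟨t, ht⟩ := exists_of_traceA hσ (sndQ U)
    (((kernel.ι (traceA E L)).hom.app (op (Q E L U))).hom y')
    (congrArg (fun m : kernel (traceA E L) ⟶ A E L => (m.hom.app (op (Q E L U))).hom y')
      (kernel.condition (traceA E L)))
  refine ⟨t, app_kernel_injective _ _ ?_⟩
  refine Eq.trans ?_ ht
  exact congrArg (fun m : A E L ⟶ A E L => (m.hom.app (op (Q E L U))).hom t) (diff_ι σ)

include hσ in
theorem shortExact₁ : (seq₁ σ).ShortExact := by
  refine ShortComplex.ShortExact.mk' ?_ inferInstance (epi_diff hσ)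
  refine ShortComplex.exact_of_f_is_kernel _ (KernelFork.IsLimit.ofι' _ _ fun {W} g hg => ?_)
  have key : ∀ (V : (Spec (CommRingCat.of E)).Etale) (w : EtCoh.sect W V),
      ∃! b, ((EtLim.GmPush (π E L)).hom.app (op V)).hom b = (g.hom.app (op V)).hom w := by
    intro V w
    refine exists_descent_invariant V _ (actA_invariant hσ _ ?_)
    have h : ((g ≫ diff σ ≫ kernel.ι (traceA E L)).hom.app (op V)).hom w = 0 := by
      rw [← Category.assoc, show g ≫ diff σ = 0 from hg, zero_comp]
      rfl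
    rw [diff_ι] at h
    exact sub_eq_zero.1 h
  refine ⟨ObjectProperty.homMk
    { app := fun V => AddCommGrpCat.ofHom (AddMonoidHom.mk' (fun w => (key V.unop w).exists.choose)
        fun w w' => (key V.unop (w + w')).unique (key V.unop (w + w')).exists.choose_spec
          ((map_add ((EtLim.GmPush (π E L)).hom.app (op V.unop)).hom _ _).trans
            ((congrArg₂ (· + ·) (key V.unop w).exists.choose_spec (key V.unop w').exists.choose_spec).trans
              (map_add (g.hom.app (op V.unop)).hom w w').symm)))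
      naturality := fun V V' i => AddCommGrpCat.hom_ext (AddMonoidHom.ext fun w => by
        show (key V'.unop ((W.obj.map i).hom w)).exists.choose =
          ((EtCoh.Gm _).obj.map i).hom (key V.unop w).exists.choose
        refine (key V'.unop _).unique (key V'.unop _).exists.choose_spec ?_
        refine (rs_nat (EtLim.GmPush (π E L)) i.unop _).symm.trans ?_
        rw [(key V.unop w).exists.choose_spec]
        exact rs_nat g i.unop w) }, ?_⟩
  exact Sheaf.hom_ext (NatTrans.ext (funext fun V => AddCommGrpCat.hom_ext (AddMonoidHom.ext fun w =>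
    (key V.unop w).exists.choose_spec)))

/-- The sequence `ker(trace) ⟶ π_* G_m ⟶ im(trace)`. -/
noncomputable abbrev seq₂ : ShortComplex (EtCoh.Ab (Spec (CommRingCat.of E))) :=
  ShortComplex.mk (kernel.ι (traceA E L)) (Abelian.factorThruImage (traceA E L))
    (by rw [← cancel_mono (Abelian.image.ι (traceA E L)), Category.assoc, Abelian.image.fac,
      kernel.condition, zero_comp])

omit [IsGalois E L] in
theorem shortExact₂ : (seq₂ (E := E) (L := L)).ShortExact :=
  { exact := ShortComplex.exact_of_f_is_kernel _ (KernelFork.IsLimit.ofι' _ _ fun {W} g hg =>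
      ⟨kernel.lift _ g (by
        rw [← Abelian.image.fac (traceA E L), ← Category.assoc]
        exact (congrArg (· ≫ Abelian.image.ι _) hg).trans zero_comp), kernel.lift_ι _ _ _⟩) }

/-- Every unit of `E` is a trace. -/
theorem exists_trace_eq (hnorm : ∀ x : E, x ≠ 0 → ∃ y : L, Algebra.norm E y = x)
    (b : EtCoh.sect (EtCoh.Gm (Spec (CommRingCat.of E))) (EtCoh.top _)) :
    ∃ c, ((traceA E L).hom.app (op (EtCoh.top _))).hom c =
      ((EtLim.GmPush (π E L)).hom.app (op (EtCoh.top _))).hom b := by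
  classical
  let T := EtCoh.top (Spec (CommRingCat.of E))
  let e : Γ(Spec (CommRingCat.of L), ⊤) →* L := (Scheme.ΓSpecIso (CommRingCat.of L)).hom.hom.toMonoidHom
  let e' : L →* Γ(Spec (CommRingCat.of L), ⊤) := (Scheme.ΓSpecIso (CommRingCat.of L)).inv.hom.toMonoidHom
  let eE : Γ(Spec (CommRingCat.of E), ⊤) →* E := (Scheme.ΓSpecIso (CommRingCat.of E)).hom.hom.toMonoidHom
  let β : Eˣ := Units.map eE (NormGm.un (U := T) b)
  obtain ⟨y, hy⟩ := hnorm (β : E) β.ne_zero
  have hy0 : y ≠ 0 := fun h => β.ne_zero (by rw [← hy, h, Algebra.norm_zero])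
  let c' : EtCoh.sect (EtCoh.Gm (Spec (CommRingCat.of E))) (vObj (base E) L) :=
    NormGm.mk _ (Units.map e' (Units.mk0 y hy0))
  refine ⟨ofQ (rs (EtCoh.Gm _) (sndQ T) c'), ?_⟩
  rw [traceA, app_sum]
  have hpq : projQ (L := L) T = sndQ T ≫ proj (base E) L :=
    (EtCore.topIsTerminal (Spec (CommRingCat.of E))).hom_ext _ _
  show ∑ τ, rs (EtCoh.Gm _) (shift τ T) (rs (EtCoh.Gm _) (sndQ T) c') = rs (EtCoh.Gm _) (projQ T) b
  simp only [rs_comp, shift_snd]
  simp only [← rs_comp]
  rw [← map_sum, hpq, ← rs_comp]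
  refine congrArg _ (NormGm.un_injective _ ?_)
  refine Units.map_injective (f := e)
    (Scheme.ΓSpecIso (CommRingCat.of L)).commRingCatIsoToRingEquiv.injective ?_
  let U : EtCoh.sect (EtCoh.Gm (Spec (CommRingCat.of E))) (vObj (base E) L) →+ Additive Lˣ :=
    AddMonoidHom.mk' (fun z => Additive.ofMul (Units.map e (NormGm.un z)))
      fun z z' => congrArg Additive.ofMul (map_mul (Units.map e) (NormGm.un z) (NormGm.un z'))
  refine Additive.ofMul.injective (show U _ = U _ from ?_)
  rw [map_sum]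
  apply Additive.toMul.injective
  rw [toMul_sum]
  refine Units.ext ?_
  rw [Units.coe_prod]
  have hr : ((U (rs (EtCoh.Gm _) (proj (base E) L) b)).toMul : L) = algebraMap E L (β : E) :=
    ConcreteCategory.congr_hom
      (Scheme.ΓSpecIso_naturality (CommRingCat.ofHom (algebraMap E L))) (NormGm.un (U := T) b : Γ(T.left, ⊤))
  rw [hr, ← hy, Algebra.norm_eq_prod_automorphisms]
  refine Finset.prod_congr rfl fun τ _ => ?_
  have h := ConcreteCategory.congr_hom
    (Scheme.ΓSpecIso_naturality (CommRingCat.ofHom τ.toAlgHom.toRingHom)) (e' y)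
  refine h.trans ?_
  exact congrArg τ ((Scheme.ΓSpecIso (CommRingCat.of L)).inv_hom_id_apply y)

include hσ in
/-- A degree two class of `G_m` dying on a cyclic extension with surjective norm vanishes. -/
theorem eq_zero_of_dies (hnorm : ∀ x : E, x ≠ 0 → ∃ y : L, Algebra.norm E y = x)
    [PreservesFiniteLimits (EtCoh.pull (π E L))]
    (ξ : EtCoh.H (Spec (CommRingCat.of E)) (EtCoh.Gm (Spec (CommRingCat.of E))) 2)
    (hξ : EtLim.HGmPull (π E L) 2 ξ = 0) : ξ = 0 := by
  have h₁ := shortExact₁ hσ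
  have h₂ := shortExact₂ (E := E) (L := L)
  haveI : IsFinite (π E L) := (IsFinite.SpecMap_iff _).2 (RingHom.finite_algebraMap.2 ‹Module.Finite E L›)
  have h0 : ξ.comp (Ext.mk₀ (EtLim.GmPush (π E L))) (add_zero 2) = 0 :=
    (FinitePush.hofPush_bijective (π E L) (EtCoh.Gm _) 2).1 (hξ.trans (map_zero _).symm)
  obtain ⟨η, rfl⟩ := Ext.covariant_sequence_exact₁ _ h₁ ξ h0 (rfl : 1 + 1 = 2)
  haveI := PointPush.subsingleton_H1_push (π E L) (EtCoh.Gm (Spec (CommRingCat.of L)))
    (FieldH1.subsingleton_H1_Gm L)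
  obtain ⟨b, rfl⟩ := Ext.covariant_sequence_exact₁ _ h₂ η (Subsingleton.elim _ _) (rfl : 0 + 1 = 1)
  let hT := EtFound.topIsTerminal (Spec (CommRingCat.of E))
  let T := EtCoh.top (Spec (CommRingCat.of E))
  let a := Sheaf.H.equiv₀ (Abelian.image (traceA E L)) hT b
  obtain ⟨β, hβ, -⟩ := exists_descent_invariant T
    (((Abelian.image.ι (traceA E L)).hom.app (op T)).hom a) fun τ => by
      refine congrArg (fun m : Abelian.image (traceA E L) ⟶ A E L => (m.hom.app (op T)).hom a)
        (show Abelian.image.ι (traceA E L) ≫ actA τ = Abelian.image.ι (traceA E L) from ?_)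
      rw [← cancel_epi (Abelian.factorThruImage (traceA E L)), ← Category.assoc, Abelian.image.fac,
        traceA_actA]
  obtain ⟨c, hc⟩ := exists_trace_eq hnorm β
  have hb : b = ((Sheaf.H.equiv₀ (A E L) hT).symm c).comp
      (Ext.mk₀ (Abelian.factorThruImage (traceA E L))) (add_zero 0) := by
    refine (Sheaf.H.equiv₀ (Abelian.image (traceA E L)) hT).injective ?_
    refine Eq.trans ?_
      (Sheaf.H.equiv₀_naturality hT (Abelian.factorThruImage (traceA E L))
        ((Sheaf.H.equiv₀ (A E L) hT).symm c))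
    rw [AddEquiv.apply_symm_apply]
    refine app_kernel_injective (cokernel.π (traceA E L)) T ?_
    refine hβ.symm.trans (hc.symm.trans ?_)
    exact congrArg (fun m : A E L ⟶ A E L => (m.hom.app (op T)).hom c)
      (Abelian.image.fac (traceA E L)).symm
  have h00 : b.comp h₂.extClass (rfl : 0 + 1 = 1) = 0 := by
    rw [hb, Ext.comp_assoc_of_second_deg_zero, h₂.comp_extClass, Ext.comp_zero]
  rw [h00, Ext.zero_comp]

end Groth.Agent.DixBrauer.CyclicGal
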