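import Groth.Agent.DixBrauer.NormGm
import Groth.Agent.DixBrauer.Kummer
import Groth.Agent.BigSiteLib.HofPushEt
import Groth.Agent.EtFound.PushExact
import Groth.Agent.EtFound.PullStalk
import Groth.Agent.SiteBase.LerayTop

/-!
Pullback of Brauer classes along finite locally free morphisms and the norm.
-/

universe u

set_option linter.style.haveILetI false
set_option backward.isDefEq.respectTransparency.types false

open CategoryTheory CategoryTheory.Limits CategoryTheory.Abelian AlgebraicGeometry Opposite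

namespace Groth.Agent.DixBrauer.FinitePush

variable {X Y : Scheme.{u}} (f : X ⟶ Y) [IsFinite f]

theorem isZero_Rpush (F : EtCoh.Ab X) (q : ℕ) (hq : 0 < q) : IsZero ((EtCoh.Rpush f q).obj F) := by
  obtain ⟨n, rfl⟩ : ∃ n, q = n + 1 := ⟨q - 1, by omega⟩
  have := EtFound.push_preservesFiniteColimits f
  have := EtFound.push_preservesFiniteLimits f
  exact LerayDegen.isZero_rightDerived_of_exact (EtCoh.push f) F n

theorem hofPush_bijective [PreservesFiniteLimits (EtCoh.pull f)] (F : EtCoh.Ab X) (p : ℕ) :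
    Function.Bijective (EtLim.HofPush f F p) :=
  BigSiteLib.hofPush_bijective f F (fun q hq => isZero_Rpush f F q hq) p

variable [Flat f] [LocallyOfFinitePresentation f]

/-- A class dying on a finite locally free cover of degree `d` is killed by `d`. -/
theorem nsmul_eq_zero_of_GmPush {d : ℕ} (hd : ∀ y : Y, f.finrank y = d) {n : ℕ}
    (ξ : EtCoh.H Y (EtCoh.Gm Y) n)
    (hξ : ξ.comp (Ext.mk₀ (EtLim.GmPush f)) (add_zero n) = 0) : d • ξ = 0 := by
  rw [← Kummer.comp_mk₀_nsmul_id]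
  show ξ.comp (Ext.mk₀ (EtCoh.powMap Y d)) (add_zero n) = 0
  rw [← NormGm.gmPush_norm f d hd, ← Ext.mk₀_comp_mk₀, ← Ext.comp_assoc_of_second_deg_zero, hξ,
    Ext.zero_comp]

theorem nsmul_eq_zero_of_HGmPull [PreservesFiniteLimits (EtCoh.pull f)] {d : ℕ}
    (hd : ∀ y : Y, f.finrank y = d) {n : ℕ} (ξ : EtCoh.H Y (EtCoh.Gm Y) n)
    (hξ : EtLim.HGmPull f n ξ = 0) : d • ξ = 0 :=
  nsmul_eq_zero_of_GmPush f hd ξ
    ((hofPush_bijective f (EtCoh.Gm X) n).1 (hξ.trans (map_zero _).symm))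

theorem isTorsion_H_Gm {d : ℕ} (hd : 0 < d) (hdeg : ∀ y : Y, f.finrank y = d) (n : ℕ)
    (hX : IsAddTorsion (EtCoh.H X (EtCoh.Gm X) n)) : IsAddTorsion (EtCoh.H Y (EtCoh.Gm Y) n) := by
  intro ξ
  haveI := EtFound.pull_preservesFiniteLimits f
  obtain ⟨m, hm, hm0⟩ := isOfFinAddOrder_iff_nsmul_eq_zero.1 (hX (EtLim.HGmPull f n ξ))
  refine isOfFinAddOrder_iff_nsmul_eq_zero.2 ⟨d * m, Nat.mul_pos hd hm, ?_⟩
  rw [mul_nsmul']
  exact nsmul_eq_zero_of_HGmPull f hdeg _ ((map_nsmul _ _ _).trans hm0)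

end Groth.Agent.DixBrauer.FinitePush
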