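import Groth.Agent.DixBrauer.CurveReduced
import Groth.Agent.DixBrauer.HenselUnits.Main
import Groth.Agent.Hensel.Local

/-!
Maximal points of arbitrary schemes and `G_m`.
-/

universe u

set_option linter.style.haveILetI false
set_option backward.isDefEq.respectTransparency.types false

open CategoryTheory CategoryTheory.Limits CategoryTheory.Abelian AlgebraicGeometry Opposite

namespace Groth.Agent.DixBrauer.CurveArtin

open CdLib

/-- `R¹f_* F = 0` when `Ext¹(P L, F) = 0` for all finite separable extensions. -/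
theorem isZero_rpush_one_of_ext {Y : Scheme.{u}} {k : Type u} [Field k]
    (f : Spec (CommRingCat.of k) ⟶ Y) (F : EtCoh.Ab (Spec (CommRingCat.of k)))
    (h : ∀ (L : Type u) [Field L] [Algebra k L] [FiniteDimensional k L] [Algebra.IsSeparable k L],
      Subsingleton (Ext (CohTriv.P (K := k) L) F 1)) :
    IsZero ((EtCoh.Rpush f 1).obj F) := by
  refine PointPush.isZero_rpush_one_of_lift f F fun S hS hF L _ p _ s => ?_
  obtain ⟨φ, rfl⟩ := Spec.map_surjective p
  letI : Algebra k L := φ.hom.toAlgebra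
  haveI : Algebra.Etale k L := by
    have h1 := (HasRingHomProperty.Spec_iff (P := @AlgebraicGeometry.Etale) (φ := φ)).1 inferInstance
    exact h1
  haveI : Module.Finite k L := Algebra.FormallyUnramified.finite_of_free k L
  haveI : Algebra.IsSeparable k L := (Algebra.FormallyEtale.iff_isSeparable k L).1 inferInstance
  let e : GalCover.pObj (X := Spec (CommRingCat.of k)) (Spec.map φ) ≅
      GalDual.objU (GalDual.fieldMap k L) :=
    MorphismProperty.Over.isoMk (Iso.refl _) (by
      show 𝟙 _ ≫ 𝟙 _ ≫ GalDual.fieldMap k L = Spec.map φ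
      rw [Category.id_comp, Category.id_comp]
      rfl)
  let g : CohTriv.P (K := k) L ⟶ S.X₃ :=
    (GalDual.secOf (GalDual.fieldMap k L) S.X₃).symm (GalCover.rs S.X₃ e.inv s)
  subst hF
  obtain ⟨y, hy⟩ := Ext.covariant_sequence_exact₃ _ hS (Ext.mk₀ g) (rfl : 0 + 1 = 1)
    ((h L).elim _ _)
  obtain ⟨a, rfl⟩ := (Ext.mk₀_bijective _ _).2 y
  rw [Ext.mk₀_comp_mk₀] at hy
  refine ⟨GalCover.rs S.X₂ e.hom (GalDual.secOf _ _ a), ?_⟩
  rw [← GalCover.rs_nat, ← GalDual.secOf_comp, (Ext.mk₀_bijective _ _).1 hy]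
  simp only [g, Equiv.apply_symm_apply, GalCover.rs_comp, Iso.hom_inv_id]
  exact ConcreteCategory.congr_hom (S.X₃.obj.map_id _) s

variable {X : Scheme.{u}} {x : X}

theorem isIso_alpha_fromSpecStalk (hx : ∀ y, y ⤳ x → y = x) :
    IsIso (GmComp.alpha (X.fromSpecStalk x)) := by
  haveI := GrpSchLib.flat_fromSpecStalk x
  exact GenericPoint.isIso_alpha (X.fromSpecStalk x) (CurveReduced.range_fromSpecStalk_max hx)
    (CdLib.PointPush.liftable_fromSpecStalk x)

theorem henselian_stalk_max (hx : ∀ y, y ⤳ x → y = x) : HenselianLocalRing (X.presheaf.stalk x) := by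
  haveI : HenselianRing (X.presheaf.stalk x) (IsLocalRing.maximalIdeal _) := by
    refine Hensel.henselianRing_of_forall_isNilpotent _ fun a ha => ?_
    refine mem_nilradical.1 ?_
    rw [nilradical_eq_sInf, Submodule.mem_sInf]
    intro P hP
    have hr := CurveReduced.range_fromSpecStalk_max hx
    have h : (⟨P, hP⟩ : PrimeSpectrum (X.presheaf.stalk x)) = ⟨IsLocalRing.maximalIdeal _, inferInstance⟩ :=
      (X.fromSpecStalk x).isEmbedding.injective ((hr.le ⟨_, rfl⟩).trans (hr.le ⟨_, rfl⟩).symm)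
    exact (congrArg PrimeSpectrum.asIdeal h).ge ha
  exact Hensel.henselianLocalRing_of_henselianRing _

theorem isZero_rpush_max (hx : ∀ y, y ⤳ x → y = x) :
    IsZero ((EtCoh.Rpush (PointPush.ι x) 1).obj ((EtCoh.pull (PointPush.ι x)).obj (EtCoh.Gm X))) := by
  haveI := henselian_stalk_max hx
  haveI := isIso_alpha_fromSpecStalk hx
  let c := HenselUnits.cpt' (R := X.presheaf.stalk x)
  have hN : IsZero ((EtCoh.Rpush (PointPush.ι x) 1).obj (HenselUnits.N (X.presheaf.stalk x))) :=
    isZero_rpush_one_of_ext (k := IsLocalRing.ResidueField (X.presheaf.stalk x)) (PointPush.ι x) _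
      HenselUnits.ct_N.h1
  have hG : IsZero ((EtCoh.Rpush (PointPush.ι x) 1).obj
      (EtCoh.Gm (Spec (X.residueField x)))) :=
    DixBrauer.PointPush.isZero_rpush_one_Gm (k := X.residueField x) (PointPush.ι x)
  let := HasDerivedCategory.standard (EtCoh.Ab (Spec (X.residueField x)))
  let := HasDerivedCategory.standard (EtCoh.Ab X)
  haveI : (EtCoh.push (PointPush.ι x)).IsRightAdjoint :=
    (EtCoh.pullPushAdj (PointPush.ι x)).isRightAdjoint
  haveI : PreservesFiniteLimits (EtCoh.push (PointPush.ι x)) := inferInstance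
  obtain ⟨δ, w₁, w₂, w₃, e₁, e₂, e₃⟩ := TriCat.exists_rightDerived_ses (EtCoh.push (PointPush.ι x))
    (HenselUnits.shortExact_seqN (R := X.presheaf.stalk x)) 1
  have hM : IsZero ((EtCoh.Rpush (PointPush.ι x) 1).obj
      ((EtCoh.pull c).obj (EtCoh.Gm (Spec (X.presheaf.stalk x))))) :=
    e₁.isZero_of_both_zeros (hN.eq_of_src _ _) (hG.eq_of_tgt _ _)
  refine hM.of_iso ((EtCoh.Rpush (PointPush.ι x) 1).mapIso ?_)
  show (EtCoh.pull (c ≫ X.fromSpecStalk x)).obj (EtCoh.Gm X) ≅ _
  exact ((EtCore.pullComp c (X.fromSpecStalk x)).app (EtCoh.Gm X)) ≪≫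
    (EtCoh.pull c).mapIso (asIso (GmComp.alpha (X.fromSpecStalk x)))

theorem Hpull_eq_zero_max (hx : ∀ y, y ⤳ x → y = x)
    [PreservesFiniteLimits (EtCoh.pull (X.fromSpecStalk x))] (n : ℕ)
    (ξ : EtCoh.H X (EtCoh.Gm X) n) (h : EtLim.HGmPull (X.fromSpecStalk x) n ξ = 0) :
    EtCore.Hpull (PointPush.ι x) (EtCoh.Gm X) n ξ = 0 := by
  haveI := isIso_alpha_fromSpecStalk hx
  rw [GmComp.HGmPull_eq] at h
  have hi : Function.Injective ((EtCoh.HF _ n).map (GmComp.alpha (X.fromSpecStalk x))) :=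
    ((ConcreteCategory.isIso_iff_bijective _).1 inferInstance).1
  have h0 : EtCore.Hpull (X.fromSpecStalk x) (EtCoh.Gm X) n ξ = 0 := hi (h.trans (map_zero _).symm)
  haveI := EtFound.pull_preservesFiniteLimits (Spec.map (X.residue x))
  haveI := EtFound.pull_preservesFiniteLimits (Spec.map (X.residue x) ≫ X.fromSpecStalk x)
  have hk : EtCore.Hpull (Spec.map (X.residue x) ≫ X.fromSpecStalk x) (EtCoh.Gm X) n ξ = 0 := by
    have hc := EtBCA.Hpull_comp (Spec.map (X.residue x)) (X.fromSpecStalk x) (EtCoh.Gm X) n ξ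
    rw [h0, map_zero] at hc
    have hj : Function.Injective ((EtCoh.HF _ n).map
        ((EtCore.pullComp (Spec.map (X.residue x)) (X.fromSpecStalk x)).hom.app (EtCoh.Gm X))) :=
      ((ConcreteCategory.isIso_iff_bijective _).1 inferInstance).1
    exact hj (hc.trans (map_zero _).symm)
  exact hk

end Groth.Agent.DixBrauer.CurveArtin
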