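import Groth.Agent.CdLib.Devissage
import Groth.Agent.CdLib.PointDim
import Groth.Agent.DixBrauer.PointPush
import Groth.Agent.EtBCA.Hpull
import Groth.Agent.S0071
import Groth.Agent.S0088

/-!
Cohomology of sheaves on one-dimensional schemes with separably closed closed points: a class of degree
two is detected at the points of dimension one.
-/

universe u

set_option linter.style.haveILetI false
set_option backward.isDefEq.respectTransparency.types false

open CategoryTheory CategoryTheory.Limits CategoryTheory.Abelian AlgebraicGeometry Opposite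

namespace Groth.Agent.DixBrauer.CurveH2

open CdLib

variable {X : Scheme.{u}}

theorem hofPush_unit {Y : Scheme.{u}} (f : Y ⟶ X) [PreservesFiniteLimits (EtCoh.pull f)] (F : EtCoh.Ab X)
    (n : ℕ) (x : EtCoh.H X F n) :
    EtLim.HofPush f ((EtCoh.pull f).obj F) n ((EtCoh.HF X n).map ((EtCoh.pullPushAdj f).unit.app F) x) =
      EtCore.Hpull f F n x := by
  have h := EtBCA.Hpull_natural f ((EtCoh.pullPushAdj f).unit.app F) n x
  change Ext.comp (EtCore.Hpull f _ n ((EtCoh.HF X n).map ((EtCoh.pullPushAdj f).unit.app F) x))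
    (Ext.mk₀ ((EtCoh.pullPushAdj f).counit.app ((EtCoh.pull f).obj F))) (add_zero n) = _
  rw [h]
  change Ext.comp (Ext.comp (EtCore.Hpull f F n x)
    (Ext.mk₀ ((EtCoh.pull f).map ((EtCoh.pullPushAdj f).unit.app F))) (add_zero n))
    (Ext.mk₀ ((EtCoh.pullPushAdj f).counit.app ((EtCoh.pull f).obj F))) (add_zero n) = _
  rw [Ext.comp_assoc_of_second_deg_zero, Ext.mk₀_comp_mk₀]
  exact (congrArg (fun g => Ext.comp (EtCore.Hpull f F n x) (Ext.mk₀ g) (add_zero n))
    ((EtCoh.pullPushAdj f).left_triangle_components F)).trans (Ext.comp_mk₀_id _)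

theorem isSepClosed_equiv {k k' : Type u} [Field k] [Field k'] [IsSepClosed k] (e : k ≃+* k') :
    IsSepClosed k' :=
  IsSepClosed.of_exists_root _ fun p _ hp hs => by
    have hd : (p.map e.symm.toRingHom).degree ≠ 0 := by
      rw [Polynomial.degree_map]; exact (Polynomial.degree_pos_of_irreducible hp).ne'
    obtain ⟨x, hx⟩ := IsSepClosed.exists_root (p.map e.symm.toRingHom) hd hs.map
    refine ⟨e x, e.symm.injective ?_⟩
    have h2 : p.eval₂ e.symm.toRingHom (e.symm (e x)) = 0 := by
      rw [e.symm_apply_apply, ← Polynomial.eval_map]; exact hx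
    rw [map_zero, ← h2]
    exact (Polynomial.eval₂_at_apply e.symm.toRingHom (e x)).symm

/-- Residue fields of the spectrum of a separably closed field. -/
theorem isSepClosed_residueField_spec (K : Type u) [Field K] [IsSepClosed K]
    (s : Spec (CommRingCat.of K)) : IsSepClosed ((Spec (CommRingCat.of K)).residueField s) := by
  let S := Spec (CommRingCat.of K)
  let c : K →+* S.residueField s :=
    (S.residue s).hom.comp ((S.presheaf.germ ⊤ s trivial).hom.comp (Scheme.ΓSpecIso (CommRingCat.of K)).inv.hom)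
  refine isSepClosed_equiv (RingEquiv.ofBijective c ⟨c.injective, fun z => ?_⟩)
  obtain ⟨z, rfl⟩ := S.residue_surjective s z
  letI : Algebra K (S.presheaf.stalk s) := StructureSheaf.stalkAlgebra K s
  haveI : IsLocalization.AtPrime (S.presheaf.stalk s) s.asIdeal := StructureSheaf.IsLocalization.to_stalk K s
  obtain ⟨⟨a, b⟩, hab⟩ := IsLocalization.surj s.asIdeal.primeCompl z
  refine ⟨a / b.1, ?_⟩
  have hb : b.1 ≠ 0 := fun h => b.2 (h ▸ s.asIdeal.zero_mem)
  rw [map_div₀, div_eq_iff ((map_ne_zero c).2 hb)]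
  exact ((congrArg (S.residue s) hab).symm.trans (map_mul _ _ _))

section coprod

variable {J : Type (u + 1)} (M : J → EtCoh.Ab X)

open CoproductsFromFiniteFiltered in
/-- A class in the cohomology of a coproduct is zero if its components are. -/
theorem eq_zero_of_proj [CompactSpace X] [QuasiSeparatedSpace X] (q : ℕ) (x : EtCoh.H X (∐ M) q)
    (h : ∀ j, (EtCoh.HF X q).map (CoprodProd.proj M j) x = 0) : x = 0 := by
  classical
  haveI := EtLC12.QcqsAcyclic.preservesColimitsOfShape_HF X q (Finset (Discrete J))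
  obtain ⟨S, z, hz⟩ := Concrete.isColimit_exists_rep _
    (isColimitOfPreserves (EtCoh.HF X q) (isColimitFiniteSubproductsCocone M)) x
  let MS : ↥S → EtCoh.Ab X := fun j => M j.1.as
  let incl : ∐ MS ⟶ ∐ M := Sigma.desc fun j => Sigma.ι M j.1.as
  have hx : (EtCoh.HF X q).map incl z = x := hz
  let pj : ∀ j : ↥S, ∐ MS ⟶ M j.1.as := fun j => incl ≫ CoprodProd.proj M j.1.as
  have hid : ∑ j, pj j ≫ Sigma.ι MS j = 𝟙 (∐ MS) := by
    refine Sigma.hom_ext _ _ fun k => ?_
    rw [Preadditive.comp_sum, Finset.sum_eq_single k]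
    · simp [pj, incl, MS, reassoc_of% (CoprodProd.ι_proj_self M k.1.as)]
    · intro j _ hj
      have hne : k.1.as ≠ j.1.as := fun e => hj (Subtype.ext (Discrete.ext e.symm))
      have h0 := CoprodProd.ι_proj_ne M hne
      simp [pj, incl, MS, reassoc_of% h0]
    · exact fun h => absurd (Finset.mem_univ k) h
  suffices hz0 : z = 0 by rw [← hx, hz0]; exact map_zero _
  have hz' : (EtCoh.HF X q).map (𝟙 (∐ MS)) z = z := by rw [CategoryTheory.Functor.map_id]; rfl
  rw [← hz', ← hid]
  show (Ext.comp z (Ext.mk₀ (∑ j, pj j ≫ Sigma.ι MS j)) (add_zero q)) = 0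
  rw [Ext.mk₀_sum, Ext.comp_sum]
  refine Finset.sum_eq_zero fun j _ => ?_
  have hj : (EtCoh.HF X q).map (pj j) z = 0 := by
    have := h j.1.as
    rw [← hx, ← ConcreteCategory.comp_apply, ← Functor.map_comp] at this
    exact this
  have hj' : Ext.comp z (Ext.mk₀ (pj j)) (add_zero q) = 0 := hj
  rw [← Ext.mk₀_comp_mk₀, ← Ext.comp_assoc_of_second_deg_zero, hj', Ext.zero_comp]

end coprod

theorem isClosed_of_phi_eq_zero [IsNoetherian X] {d : ℕ} (hdim : topologicalKrullDim X ≤ d) {x : X}
    (hx : PointDim.phi x = 0) : IsClosed ({x} : Set X) := by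
  obtain ⟨c, hc, hcl⟩ : ∃ c ∈ closure ({x} : Set X), IsClosed ({c} : Set X) :=
    IsClosed.exists_closed_singleton isClosed_closure ⟨x, subset_closure rfl⟩
  rcases eq_or_ne x c with h | h
  · exact h ▸ hcl
  · have := PointDim.phi_lt hdim (specializes_iff_mem_closure.2 hc) h
    omega

theorem subsingleton_H_closed_point [∀ x : X, PreservesFiniteLimits (EtCoh.pull (PointPush.ι x))]
    [IsNoetherian X] (x : X) (hx : IsClosed ({x} : Set X)) (hs : IsSepClosed (X.residueField x))
    (G : EtCoh.Ab (Spec (X.residueField x))) (q : ℕ) (hq : 1 ≤ q) :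
    Subsingleton (EtCoh.H X ((EtCoh.push (PointPush.ι x)).obj G) q) := by
  haveI : IsClosedImmersion (X.fromSpecResidueField x) := by
    refine IsClosedImmersion.of_isPreimmersion _ ?_
    rw [Scheme.range_fromSpecResidueField]
    exact hx
  refine Devissage.subsingleton_H_push _ _ _ ?_ fun a b _ => ?_
  · refine Groth.Agent.S0088.result (Spec (X.residueField x)) (fun s => ?_) (fun s => ?_) G q hq
    · haveI : Subsingleton ↥(Spec (X.residueField x)) := inferInstanceAs (Subsingleton (PrimeSpectrum (X.residueField x)))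
      exact Set.Subsingleton.isClosed Set.subsingleton_of_subsingleton
    · haveI := hs
      exact isSepClosed_residueField_spec (X.residueField x) s
  · exact Devissage.subsingleton_H_of_isZero _ (Groth.Agent.S0071.result _ _ _ (Nat.le_add_left 1 b)) a

theorem subsingleton_H_of_supp_closed [IsNoetherian X] {d : ℕ} (hdim : topologicalKrullDim X ≤ d)
    (hsep : ∀ x : X, IsClosed ({x} : Set X) → IsSepClosed (X.residueField x))
    (F : EtCoh.Ab X) (hF : ∀ x ∈ EtPBC.supp F, PointDim.phi x < 1) (q : ℕ) (hq : 1 ≤ q) :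
    Subsingleton (EtCoh.H X F q) := by
  let φ : X → ℕ := PointDim.phi
  have hφ : ∀ x y : X, x ⤳ y → x ≠ y → φ y < φ x := fun x y h hne => PointDim.phi_lt hdim h hne
  have hF' : ∀ x ∈ EtPBC.supp F, φ x ≤ 0 := fun x hx => Nat.lt_succ_iff.1 (hF x hx)
  let θ := LevelMap.map φ 0 F hφ hF'
  have hK : IsZero (kernel θ) := Supp.isZero_of_supp_eq_empty _ (Set.eq_empty_iff_forall_notMem.2
    fun x hx => absurd (LevelMap.supp_kernel φ 0 F hφ hF' x hx) (Nat.not_lt_zero _))
  have hC : IsZero (cokernel θ) := Supp.isZero_of_supp_eq_empty _ (Set.eq_empty_iff_forall_notMem.2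
    fun x hx => absurd (LevelMap.supp_cokernel φ 0 F hφ hF' x hx) (Nat.not_lt_zero _))
  haveI : Mono θ := Preadditive.mono_of_kernel_zero (hK.eq_of_src _ _)
  haveI : Epi θ := Preadditive.epi_of_cokernel_zero (hC.eq_of_tgt _ _)
  haveI : IsIso θ := isIso_of_mono_of_epi θ
  have h : Subsingleton (EtCoh.H X (∐ LevelMap.M φ 0 F) q) := Devissage.subsingleton_H_coprod _ _ fun k => by
    have hcl := isClosed_of_phi_eq_zero hdim k.down.2
    exact subsingleton_H_closed_point k.down.1 hcl (hsep _ hcl) _ q hq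
  exact @Equiv.subsingleton _ _ ((EtCoh.HF X q).mapIso (asIso θ)).addCommGroupIsoToAddEquiv.toEquiv h

/-- Classes of degree two are detected at the points of dimension one. -/
theorem eq_zero_of_Hpull [IsNoetherian X] (hdim : topologicalKrullDim X ≤ 1)
    (hsep : ∀ x : X, IsClosed ({x} : Set X) → IsSepClosed (X.residueField x))
    (F : EtCoh.Ab X)
    (hR : ∀ x : X, PointDim.phi x = 1 →
      IsZero ((EtCoh.Rpush (PointPush.ι x) 1).obj ((EtCoh.pull (PointPush.ι x)).obj F)))
    (ξ : EtCoh.H X F 2)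
    (hξ : ∀ x : X, PointDim.phi x = 1 → EtCore.Hpull (PointPush.ι x) F 2 ξ = 0) : ξ = 0 := by
  have hd : topologicalKrullDim X ≤ (1 : ℕ) := hdim
  let φ : X → ℕ := PointDim.phi
  have hφ : ∀ x y : X, x ⤳ y → x ≠ y → φ y < φ x := fun x y h hne => PointDim.phi_lt hd h hne
  have hF : ∀ x ∈ EtPBC.supp F, φ x ≤ 1 := fun x _ => PointDim.phi_le hd x
  let θ := LevelMap.map φ 1 F hφ hF
  have hK := subsingleton_H_of_supp_closed hd hsep _ (LevelMap.supp_kernel φ 1 F hφ hF) 2 (by norm_num)
  have hC := subsingleton_H_of_supp_closed hd hsep _ (LevelMap.supp_cokernel φ 1 F hφ hF) 1 le_rfl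
  have hx : (EtCoh.HF X 2).map θ ξ = 0 := eq_zero_of_proj _ 2 _ fun k => by
    rw [← ConcreteCategory.comp_apply, ← Functor.map_comp, LevelMap.map_proj]
    refine DixBrauer.PointPush.injective_hofPush_two (PointPush.ι k.down.1) _ (hR _ k.down.2) ?_
    exact ((hofPush_unit (PointPush.ι k.down.1) F 2 ξ).trans (hξ _ k.down.2)).trans (map_zero _).symm
  let S₁ := ShortComplex.mk (kernel.ι θ) (Abelian.factorThruImage θ)
    (by rw [← cancel_mono (Abelian.image.ι θ), Category.assoc, Abelian.image.fac, kernel.condition, zero_comp])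
  let S₂ := ShortComplex.mk (Abelian.image.ι θ) (cokernel.π θ) (kernel.condition _)
  have hS₁ : S₁.ShortExact :=
    { exact := ShortComplex.exact_of_f_is_kernel _ (KernelFork.IsLimit.ofι' _ _ fun {W} g hg =>
        ⟨kernel.lift θ g (by rw [← Abelian.image.fac θ, ← Category.assoc]
                             exact (congrArg (· ≫ Abelian.image.ι θ) hg).trans zero_comp),
          kernel.lift_ι _ _ _⟩) }
  have hS₂ : S₂.ShortExact :=
    { exact := ShortComplex.exact_of_f_is_kernel _ (kernelIsKernel (cokernel.π θ)) }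
  have hfac : Ext.comp (Ext.comp ξ (Ext.mk₀ (Abelian.factorThruImage θ)) (add_zero 2))
      (Ext.mk₀ (Abelian.image.ι θ)) (add_zero 2) = 0 := by
    rw [Ext.comp_assoc_of_second_deg_zero, Ext.mk₀_comp_mk₀, Abelian.image.fac]
    exact hx
  obtain ⟨y, hy⟩ := Ext.covariant_sequence_exact₁ _ hS₂ _ hfac (rfl : 1 + 1 = 2)
  rw [hC.elim y 0, Ext.zero_comp] at hy
  obtain ⟨w, hw⟩ := Ext.covariant_sequence_exact₂ _ hS₁ ξ hy.symm
  rw [← hw, hK.elim w 0, Ext.zero_comp]

end Groth.Agent.DixBrauer.CurveH2
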