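import Groth.Agent.DixBrauer.TorsionCoh
import Groth.Agent.CdLib.Devissage
import Groth.Agent.CdLib.PointDim

/-!
Torsion of cohomology above the dimension: on a Noetherian scheme `X` the groups `H^q(X, F)` are torsion
as soon as `q` exceeds the dimension of the support of `F`.
-/

universe u

set_option linter.style.haveILetI false
set_option backward.isDefEq.respectTransparency.types false

open CategoryTheory CategoryTheory.Limits CategoryTheory.Abelian AlgebraicGeometry Opposite

namespace Groth.Agent.DixBrauer.TorsionDim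

section Ext

variable {A : Type*} [Category A] [Abelian A] [HasExt A] {T : ShortComplex A}

theorem isTorsion_ext₂ (hT : T.ShortExact) (Z : A) (n : ℕ) (h₁ : IsAddTorsion (Ext Z T.X₁ n))
    (h₃ : IsAddTorsion (Ext Z T.X₃ n)) : IsAddTorsion (Ext Z T.X₂ n) := by
  intro x
  obtain ⟨a, ha, ha0⟩ := (isOfFinAddOrder_iff_nsmul_eq_zero).1
    (h₃ (x.comp (Ext.mk₀ T.g) (add_zero n)))
  obtain ⟨y, hy⟩ := Ext.covariant_sequence_exact₂ Z hT (a • x)
    (by rw [TorsionAbstract.nsmul_comp, ha0])
  obtain ⟨b, hb, hb0⟩ := isOfFinAddOrder_iff_nsmul_eq_zero.1 (h₁ y)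
  refine isOfFinAddOrder_iff_nsmul_eq_zero.2 ⟨b * a, Nat.mul_pos hb ha, ?_⟩
  rw [mul_nsmul', ← hy, ← TorsionAbstract.nsmul_comp, hb0, Ext.zero_comp]

theorem isTorsion_ext₁ (hT : T.ShortExact) (Z : A) (n : ℕ) (h₃ : IsAddTorsion (Ext Z T.X₃ n))
    (h₂ : IsAddTorsion (Ext Z T.X₂ (n + 1))) : IsAddTorsion (Ext Z T.X₁ (n + 1)) := by
  intro x
  obtain ⟨a, ha, ha0⟩ := isOfFinAddOrder_iff_nsmul_eq_zero.1
    (h₂ (x.comp (Ext.mk₀ T.f) (add_zero (n + 1))))
  obtain ⟨y, hy⟩ := Ext.covariant_sequence_exact₁ Z hT (a • x)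
    (by rw [TorsionAbstract.nsmul_comp, ha0]) rfl
  obtain ⟨b, hb, hb0⟩ := isOfFinAddOrder_iff_nsmul_eq_zero.1 (h₃ y)
  refine isOfFinAddOrder_iff_nsmul_eq_zero.2 ⟨b * a, Nat.mul_pos hb ha, ?_⟩
  rw [mul_nsmul', ← hy, ← TorsionAbstract.nsmul_comp, hb0, Ext.zero_comp]

end Ext

variable {X : Scheme.{u}} {J : Type (u + 1)} (M : J → EtCoh.Ab X)

theorem isTorsion_H_sigma [Finite J] (q : ℕ) (h : ∀ j, IsAddTorsion (EtCoh.H X (M j) q)) :
    IsAddTorsion (EtCoh.H X (∐ M) q) := by
  classical
  haveI := Fintype.ofFinite J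
  have hid : ∑ j, CdLib.CoprodProd.proj M j ≫ Sigma.ι M j = 𝟙 (∐ M) := by
    refine Sigma.hom_ext _ _ fun k => ?_
    rw [Preadditive.comp_sum, Finset.sum_eq_single k]
    · rw [← Category.assoc, CdLib.CoprodProd.ι_proj_self, Category.id_comp, Category.comp_id]
    · intro j _ hj
      rw [← Category.assoc, CdLib.CoprodProd.ι_proj_ne M (Ne.symm hj), zero_comp]
    · exact fun h => absurd (Finset.mem_univ k) h
  intro x
  rw [← Ext.comp_mk₀_id x, ← hid, Ext.mk₀_sum, Ext.comp_sum]
  refine Finset.sum_induction _ IsOfFinAddOrder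
    (fun a b ha hb => (AddCommute.all a b).isOfFinAddOrder_add ha hb) IsOfFinAddOrder.zero fun j _ => ?_
  rw [← Ext.mk₀_comp_mk₀, ← Ext.comp_assoc_of_second_deg_zero]
  exact AddMonoidHom.isOfFinAddOrder ((Ext.mk₀ (Sigma.ι M j)).postcomp _ (add_zero q))
    (h j (x.comp (Ext.mk₀ (CdLib.CoprodProd.proj M j)) (add_zero q)))

open CoproductsFromFiniteFiltered in
/-- Torsion cohomology passes to coproducts. -/
theorem isTorsion_H_coprod [CompactSpace X] [QuasiSeparatedSpace X] (q : ℕ)
    (h : ∀ j, IsAddTorsion (EtCoh.H X (M j) q)) : IsAddTorsion (EtCoh.H X (∐ M) q) := by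
  classical
  haveI := EtLC12.QcqsAcyclic.preservesColimitsOfShape_HF X q (Finset (Discrete J))
  let hc := isColimitOfPreserves (EtCoh.HF X q) (isColimitFiniteSubproductsCocone M)
  intro x
  obtain ⟨S, y, hy⟩ := Concrete.isColimit_exists_rep _ hc x
  rw [← hy]
  exact AddMonoidHom.isOfFinAddOrder _
    ((isTorsion_H_sigma (fun j : ↥S => M j.1.as) q fun j => h j.1.as) y)

open CdLib in
/-- Cohomology is torsion above the dimension of the support. -/
theorem isTorsion_H_of_supp [IsNoetherian X] (φ : X → ℕ)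
    (hφ : ∀ x y : X, x ⤳ y → x ≠ y → φ y < φ x) :
    ∀ (n : ℕ) (F : EtCoh.Ab X), (∀ x ∈ EtPBC.supp F, φ x < n) →
      ∀ q, n ≤ q → IsAddTorsion (EtCoh.H X F q) := by
  intro n
  induction n using Nat.strong_induction_on with
  | _ n ih =>
    intro F hsupp q hq
    cases n with
    | zero =>
      haveI := Devissage.subsingleton_H_of_isZero F (Supp.isZero_of_supp_eq_empty F
        (Set.eq_empty_iff_forall_notMem.2 fun x hx => absurd (hsupp x hx) (Nat.not_lt_zero _))) q
      exact fun x => by rw [Subsingleton.elim x 0]; exact IsOfFinAddOrder.zero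
    | succ n =>
      obtain ⟨q, rfl⟩ := Nat.exists_eq_add_of_le hq
      have hle : ∀ x ∈ EtPBC.supp F, φ x ≤ n := fun x hx => Nat.lt_succ_iff.1 (hsupp x hx)
      let θ := LevelMap.map φ n F hφ hle
      have e : n + 1 + q = (n + q) + 1 := by omega
      rw [e]
      have hT : IsAddTorsion (EtCoh.H X (∐ LevelMap.M φ n F) (n + q + 1)) :=
        isTorsion_H_coprod _ _ fun k x => by
          haveI := EtFound.pull_preservesFiniteLimits (PointPush.ι k.down.1)
          exact TorsionCoh.isOfFinAddOrder_push (k := X.residueField k.down.1)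
            (PointPush.ι k.down.1) _ _ x
      have hK : IsAddTorsion (EtCoh.H X (kernel θ) (n + q + 1)) :=
        ih n (by omega) _ (LevelMap.supp_kernel φ n F hφ hle) _ (by omega)
      have hC : IsAddTorsion (EtCoh.H X (cokernel θ) (n + q)) :=
        ih n (by omega) _ (LevelMap.supp_cokernel φ n F hφ hle) _ (by omega)
      let S₁ := ShortComplex.mk (kernel.ι θ) (Abelian.factorThruImage θ)
        (by rw [← cancel_mono (Abelian.image.ι θ), Category.assoc, Abelian.image.fac, kernel.condition,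
          zero_comp])
      let S₂ := ShortComplex.mk (Abelian.image.ι θ) (cokernel.π θ) (kernel.condition _)
      have hS₁ : S₁.ShortExact :=
        { exact := ShortComplex.exact_of_f_is_kernel _ (KernelFork.IsLimit.ofι' _ _ fun {W} g hg =>
            ⟨kernel.lift θ g (by rw [← Abelian.image.fac θ, ← Category.assoc]
                                 exact (congrArg (· ≫ Abelian.image.ι θ) hg).trans zero_comp),
              kernel.lift_ι _ _ _⟩) }
      have hS₂ : S₂.ShortExact :=
        { exact := ShortComplex.exact_of_f_is_kernel _ (kernelIsKernel (cokernel.π θ)) }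
      exact isTorsion_ext₂ hS₁ _ _ hK (isTorsion_ext₁ hS₂ _ _ hC hT)

/-- Cohomology is torsion above the dimension. -/
theorem isTorsion_H_of_dim_lt [IsNoetherian X] {d : ℕ} (hd : topologicalKrullDim X ≤ d)
    (F : EtCoh.Ab X) {q : ℕ} (hq : d < q) : IsAddTorsion (EtCoh.H X F q) :=
  isTorsion_H_of_supp CdLib.PointDim.phi (fun _ _ => CdLib.PointDim.phi_lt hd) q F
    (fun x _ => (CdLib.PointDim.phi_le hd x).trans_lt hq) q le_rfl

end Groth.Agent.DixBrauer.TorsionDim
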