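import Groth.Agent.DixBrauer.StrictDVR
import Groth.Agent.DixBrauer.DivSeq.Noetherian
import Groth.Agent.DixBrauer.DivSeq.Integral
import Groth.Agent.S3492
import Groth.Agent.S9262
import Groth.Agent.CdField.TorsionScheme
import Groth.Agent.RegLoc6.Serre
import Groth.Agent.CdField.Henselian
import Groth.Agent.PBC50.PushAcyclic

/-!
Cohomological dimension of regular one-dimensional schemes of residue characteristic zero.
-/

set_option autoImplicit false
set_option linter.style.haveILetI false
set_option backward.isDefEq.respectTransparency.types false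

universe u

open CategoryTheory CategoryTheory.Limits CategoryTheory.Abelian AlgebraicGeometry Opposite IsLocalRing

noncomputable section

namespace Groth.Agent.DixBrauer.CurveCd

/-- The fraction field of a strictly henselian discrete valuation ring of residue characteristic zero. -/
theorem isStrictField_fractionRing (R : Type u) [CommRing R] [IsDomain R] [IsDiscreteValuationRing R]
    [HenselianLocalRing R] [IsSepClosed (ResidueField R)] [CharZero (ResidueField R)] (P : Ideal R) [P.IsPrime]
    (hP : P = ⊥) : StrictDVR.IsStrictField (FractionRing (R ⧸ P)) := by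
  let L := FractionRing (R ⧸ P)
  have hinj : Function.Injective (algebraMap R L) := by
    rw [IsScalarTower.algebraMap_eq R (R ⧸ P) L]
    refine (IsFractionRing.injective (R ⧸ P) L).comp fun a b h => ?_
    change Ideal.Quotient.mk P a = Ideal.Quotient.mk P b at h
    rw [Ideal.Quotient.eq, hP, Ideal.mem_bot, sub_eq_zero] at h
    exact h
  haveI : FaithfulSMul R L := (faithfulSMul_iff_algebraMap_injective _ _).2 hinj
  refine ⟨R, inferInstance, inferInstance, inferInstance, inferInstance, inferInstance, inferInstance,
    inferInstance, IsFractionRing.of_field _ _ fun z => ?_⟩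
  obtain ⟨a, b, -, rfl⟩ := IsFractionRing.div_surjective (R ⧸ P) z
  obtain ⟨a, rfl⟩ := Ideal.Quotient.mk_surjective a
  obtain ⟨b, rfl⟩ := Ideal.Quotient.mk_surjective b
  exact ⟨a, b, rfl⟩

/-- Bounds on the cohomological dimension pass to larger degrees. -/
theorem cohDimLEAt_mono {X : Scheme.{u}} {ℓ d e : ℕ} (h : Dix.CohDimLEAt X ℓ d) (hde : d ≤ e) :
    Dix.CohDimLEAt X ℓ e := fun F hF q hq => h F hF q (hde.trans_lt hq)

variable (X : Scheme.{u}) [AlgebraicGeometry.IsNoetherian X] [IsIntegral X]
  (hdim : ∀ y : X, ringKrullDim (X.presheaf.stalk y) ≤ 1)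
  (hnorm : ∀ y : X, IsIntegrallyClosed (X.presheaf.stalk y))

include hdim hnorm in
theorem isDVR_stalk (y : X) (h : ¬ IsField (X.presheaf.stalk y)) :
    IsDiscreteValuationRing (X.presheaf.stalk y) := by
  haveI := hnorm y
  haveI : Ring.KrullDimLE 1 (X.presheaf.stalk y) := ⟨hdim y⟩
  haveI : IsDomain (X.presheaf.stalk y) := inferInstance
  haveI : Ring.DimensionLEOne (X.presheaf.stalk y) := ⟨fun hp hpp => hpp.isMaximal_of_ne_bot hp⟩
  haveI : IsNoetherianRing (X.presheaf.stalk y) := inferInstance
  haveI : IsDedekindRing (X.presheaf.stalk y) := { }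
  haveI : IsDedekindDomain (X.presheaf.stalk y) := { }
  exact ((IsDiscreteValuationRing.TFAE _ h).out 2 0).mp ‹IsDedekindDomain (X.presheaf.stalk y)›

include hdim hnorm in
theorem isRegular_stalk (y : X) : IsRegularLocalRing (X.presheaf.stalk y) := by
  by_cases h : IsField (X.presheaf.stalk y)
  · exact RegLoc6.isRegularLocalRing_of_isField h
  · haveI := isDVR_stalk X hdim hnorm y h
    infer_instance

include hdim in
theorem codim_le (y : X) : DimFormula.codim y ≤ 1 := by
  have h := hdim y
  rw [DimFormula.ringKrullDim_stalk] at h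
  exact_mod_cast h

include hdim in
theorem isClosed_singleton {y : X} (hy : ringKrullDim (X.presheaf.stalk y) = 1) : IsClosed ({y} : Set X) := by
  rw [← closure_subset_iff_isClosed]
  intro z hz
  have hyz : y ⤳ z := specializes_iff_mem_closure.2 hz
  by_contra hne
  have h1 := DimFormula.codim_mono_add hyz
  have h2 : DimFormula.cd y z ≠ 0 := fun h => hne ((DimFormula.cd_eq_zero_iff hyz).1 h).symm
  have h3 := codim_le X hdim z
  rw [DimFormula.ringKrullDim_stalk] at hy
  have h4 : DimFormula.codim y = 1 := by exact_mod_cast hy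
  omega

include hdim in
theorem eq_genericPoint {x : X} (hx : DimFormula.codim x = 0) : x = genericPoint X := by
  have h : genericPoint X ⤳ x := (genericPoint_spec X).specializes trivial
  have h1 := DimFormula.codim_mono_add h
  exact ((DimFormula.cd_eq_zero_iff h).1 (by omega)).symm

include hdim hnorm in
/-- `cd ≤ 3`. -/
theorem cohDimLE_three (hchar : ∀ y : X, CharZero (X.residueField y))
    (hgen : EtCoh.CohDimLE (Spec (X.residueField (genericPoint X))) 2)
    (hclosed : ∀ y : X, IsClosed ({y} : Set X) → EtCoh.CohDimLE (Spec (X.residueField y)) 1) :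
    EtCoh.CohDimLE X 3 := by
  refine CdField.cohDimLE_of_forall' fun ℓ hℓ => ?_
  haveI := Fact.mk hℓ
  intro F hF q hq
  refine S3492.result X ℓ hℓ 3 (fun y c hc => ?_) (fun x y hxy R => ?_) 0 F hF (fun y _ => ?_) q (by omega)
  · rw [DimFormula.ringKrullDim_stalk] at hc
    have hc' : DimFormula.codim y = c := by exact_mod_cast hc
    have hc1 := codim_le X hdim y
    refine ⟨by omega, ?_⟩
    rcases Nat.eq_zero_or_pos c with rfl | hpos
    · rw [eq_genericPoint X hdim hc']
      exact cohDimLEAt_mono (CdField.cohDimLEAt_of_cohDimLE hℓ.pos hgen) (by omega)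
    · obtain rfl : c = 1 := by omega
      refine CdField.cohDimLEAt_of_cohDimLE hℓ.pos (hclosed y (isClosed_singleton X hdim ?_))
      rw [DimFormula.ringKrullDim_stalk, hc']
      rfl
  · intro _ _ _ _ _ P hP e he
    let A : Type u := X.presheaf.stalk y
    haveI : HenselianLocalRing R := Hensel.IsStrictHenselization.henselian A
    have hsc := Hensel.IsStrictHenselization.isSepClosure (R := A) (S := R)
    haveI : IsSepClosed (ResidueField R) := hsc.sep_closed
    haveI hPp : P.IsPrime := hP.1.1
    rcases Nat.eq_zero_or_pos (DimFormula.cd x y) with h0 | hpos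
    · obtain rfl : x = y := (DimFormula.cd_eq_zero_iff hxy).1 h0
      have hker : RingHom.ker (Cyc.specMap x x hxy) = maximalIdeal A := by
        ext a
        rw [RingHom.mem_ker, ← residue_eq_zero_iff]
        show X.residue x (X.presheaf.stalkSpecializes hxy a) = 0 ↔ _
        rw [TopCat.Presheaf.stalkSpecializes_refl]
        rfl
      have hmap : (RingHom.ker (Cyc.specMap x x hxy)).map (algebraMap A R) = maximalIdeal R := by
        rw [hker]
        exact Hensel.map_maximalIdeal_of_isStrictHenselization (R := A) (S := R)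
      rw [hmap, Ideal.minimalPrimes_eq_subsingleton_self] at hP
      obtain rfl : P = maximalIdeal R := hP
      letI : Field (R ⧸ maximalIdeal R) := inferInstanceAs (Field (ResidueField R))
      haveI : IsSepClosed (R ⧸ maximalIdeal R) := ‹IsSepClosed (ResidueField R)›
      haveI : IsSepClosed (FractionRing (R ⧸ maximalIdeal R)) :=
        Hensel.isSepClosed_of_ringEquiv
          ((IsLocalization.atUnits (R ⧸ maximalIdeal R) (nonZeroDivisors (R ⧸ maximalIdeal R))
            fun a ha => IsUnit.mk0 _ (nonZeroDivisors.ne_zero ha)).toRingEquiv)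
      exact cohDimLEAt_mono (CdField.cohDimLEAt_zero _ ℓ) (Nat.zero_le e)
    · have h1 := DimFormula.codim_mono_add hxy
      have h2 := codim_le X hdim y
      have hy1 : DimFormula.codim y = 1 := by omega
      obtain rfl : x = genericPoint X := eq_genericPoint X hdim (by omega)
      have hker : RingHom.ker (Cyc.specMap y (genericPoint X) hxy) = ⊥ := by
        refine (RingHom.injective_iff_ker_eq_bot _).1 ?_
        intro a b hab
        refine IsFractionRing.injective A X.functionField ?_
        have hf : IsField (X.presheaf.stalk (genericPoint X)) := Field.toIsField X.functionField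
        letI := hf.toField
        exact (RingHom.injective (X.residue (genericPoint X)).hom) hab
      have hnf : ¬ IsField A := fun h => by
        have := ringKrullDim_eq_zero_of_isField h
        rw [DimFormula.ringKrullDim_stalk, hy1] at this
        exact one_ne_zero (α := WithBot ℕ∞) this
      haveI := isDVR_stalk X hdim hnorm y hnf
      haveI : IsNoetherianRing A := inferInstance
      have hlike := Hensel.isHenzLike_of_isStrictHenselization A R
      haveI := hlike.isNoetherianRing_iff.mp inferInstance
      obtain ⟨hR, hdvr⟩ := (S9262.dvr_iff R).2 ⟨hlike.isRegularLocalRing_iff.1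
        ((S9262.dvr_iff A).1 ⟨inferInstance, inferInstance⟩).1, hlike.ringKrullDim_eq ▸
          ((S9262.dvr_iff A).1 ⟨inferInstance, inferInstance⟩).2⟩
      haveI := hR
      haveI := hdvr
      have hmap : (RingHom.ker (Cyc.specMap y (genericPoint X) hxy)).map (algebraMap A R) = ⊥ := by
        rw [hker, Ideal.map_bot]
      rw [hmap] at hP he
      have hPbot : P = ⊥ := le_antisymm (hP.2 ⟨Ideal.isPrime_bot, le_rfl⟩ bot_le) bot_le
      haveI : CharZero (ResidueField R) := by
        letI : Algebra (ResidueField A) (ResidueField R) := (ResidueField.map (algebraMap A R)).toAlgebra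
        haveI : CharZero (ResidueField A) := hchar y
        exact charZero_of_injective_algebraMap (algebraMap (ResidueField A) (ResidueField R)).injective
      obtain rfl : e = 1 := by
        rw [ringKrullDim_eq_of_ringEquiv (RingEquiv.quotientBot R), IsDiscreteValuationRing.ringKrullDim_eq_one] at he
        exact_mod_cast he.symm
      exact StrictDVR.cohDimLEAt_one _ (isStrictField_fractionRing R P hPbot) ℓ
  · rw [DimFormula.ringKrullDim_stalk]
    exact_mod_cast Nat.zero_le _

set_option maxHeartbeats 1000000 in
include hdim hnorm in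
/-- Vanishing of the cohomology of `G_m` in degrees `≥ 4`. -/
theorem subsingleton_H_Gm (hchar : ∀ y : X, CharZero (X.residueField y))
    (hcd : EtCoh.CohDimLE X 3) (r : ℕ) (hr : 4 ≤ r) : Subsingleton (EtCoh.H X (EtCoh.Gm X) r) := by
  obtain ⟨q, rfl⟩ : ∃ q, r = q + 2 := ⟨r - 2, by omega⟩
  have htor := DivSeq.isTorsion_H_Gm (DivSeq.efact_of_regular (isRegular_stalk X hdim hnorm)) q
  refine subsingleton_of_forall_eq 0 fun ξ => ?_
  obtain ⟨n, hn, hn0⟩ := isOfFinAddOrder_iff_nsmul_eq_zero.1 (htor ξ)
  have hu : IsUnit (n : Γ(X, ⊤)) := by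
    refine X.toRingedSpace.isUnit_of_isUnit_germ ⊤ _ fun x hx => ?_
    rw [map_natCast]
    refine IsLocalRing.residue_ne_zero_iff_isUnit _ |>.1 ?_
    rw [map_natCast]
    haveI : CharZero (ResidueField (X.toRingedSpace.presheaf.stalk x)) := hchar x
    exact Nat.cast_ne_zero.2 hn.ne'
  haveI : Epi (EtCoh.powMap X n) := S0108.result X n hu
  let T := ShortComplex.mk (EtCoh.muι X n) (EtCoh.powMap X n) (kernel.condition _)
  have hT : T.ShortExact := ShortComplex.ShortExact.mk'
    (ShortComplex.exact_of_f_is_kernel _ (kernelIsKernel _)) (inferInstanceAs (Mono (kernel.ι _))) this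
  haveI : Mono (EtCoh.muι X n) := inferInstanceAs (Mono (kernel.ι (EtCoh.powMap X n)))
  have hμ : EtCoh.IsTorsion (EtCoh.mu X n) := GalDual.isTorsion_of_nsmul_eq_zero _ n hn (by
    rw [← cancel_mono (EtCoh.muι X n), Preadditive.nsmul_comp, Category.id_comp, zero_comp]
    have h : EtCoh.muι X n ≫ EtCoh.powMap X n = 0 := kernel.condition _
    rwa [EtCoh.powMap, Preadditive.comp_nsmul, Category.comp_id] at h)
  have h0 : ξ.comp (Ext.mk₀ T.g) (add_zero (q + 2)) = 0 := (GalDual.nsmul_eq_comp ξ n).symm.trans hn0
  obtain ⟨η, rfl⟩ := Abelian.Ext.covariant_sequence_exact₂ _ hT ξ h0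
  rw [show η = 0 from (hcd _ hμ (q + 2) (by omega)).elim η 0, Abelian.Ext.zero_comp]

end Groth.Agent.DixBrauer.CurveCd
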