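import Groth.Agent.DixBrauer.PointExt
import Groth.Agent.DixBrauer.DivSeq.Integral
import Groth.Agent.EtMVLib.ExtTools
import Groth.Agent.EtFound.PushExact

/-!
`Ext` from sheaves supported on closed points of a regular curve into `G_m`.
-/

set_option autoImplicit false
set_option linter.style.haveILetI false
set_option backward.isDefEq.respectTransparency.types false

universe u

open CategoryTheory CategoryTheory.Limits CategoryTheory.Abelian AlgebraicGeometry Opposite

noncomputable section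

namespace Groth.Agent.DixBrauer.CurveExt

open CdLib

variable (X : Scheme.{u}) [AlgebraicGeometry.IsNoetherian X] [IsIntegral X]
  (hdim : ∀ y : X, ringKrullDim (X.presheaf.stalk y) ≤ 1)
  (hnorm : ∀ y : X, IsIntegrallyClosed (X.presheaf.stalk y))

/-- The generic point is not in a proper closed set. -/
theorem genericPoint_notMem {Z : Set X} (hZ : IsClosed Z) (hZU : Z ≠ Set.univ) : genericPoint X ∉ Z :=
  fun h => hZU (Set.eq_univ_of_forall fun _ => ((genericPoint_spec X).specializes trivial).mem_closed hZ h)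

/-- The direct image of `G_m` from the generic point, in its two descriptions. -/
theorem nonempty_Jm_iso :
    Nonempty ((EtCoh.push (X.fromSpecStalk (genericPoint X))).obj
        (EtCoh.Gm (Spec (X.presheaf.stalk (genericPoint X)))) ≅
      (EtCoh.push (CdLib.PointPush.ι (genericPoint X))).obj
        (EtCoh.Gm (Spec (X.residueField (genericPoint X))))) := by
  have hf : IsField (X.presheaf.stalk (genericPoint X)) := Field.toIsField X.functionField
  haveI : IsIso (X.residue (genericPoint X)) := by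
    letI := hf.toField
    exact (ConcreteCategory.isIso_iff_bijective _).2
      ⟨(X.residue (genericPoint X)).hom.injective, IsLocalRing.residue_surjective⟩
  let e := Spec.map (X.residue (genericPoint X))
  haveI : IsIso e := inferInstanceAs (IsIso (Spec.map _))
  haveI : IsIso (EtLim.GmPush e) := by
    haveI : IsIso ((sheafToPresheaf _ _).map (EtLim.GmPush e)) := by
      refine (NatTrans.isIso_iff_isIso_app _).2 fun V => ?_
      show IsIso (EtCoh.ΓUnits.map (pullback.fst V.unop.hom e).op)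
      infer_instance
    exact isIso_of_reflects_iso (EtLim.GmPush e) (sheafToPresheaf _ _)
  exact ⟨(EtCoh.push (X.fromSpecStalk (genericPoint X))).mapIso (asIso (EtLim.GmPush e)) ≪≫
    (EtCoh.pushComp (X.fromSpecStalk (genericPoint X)) e).app _⟩

include hdim hnorm in
/-- No `Ext` from a sheaf killed at the generic point into `j_* G_m`. -/
theorem subsingleton_ext_Jm (hchar : ∀ y : X, CharZero (X.residueField y)) (F : EtCoh.Ab X)
    (hη : genericPoint X ∉ EtPBC.supp F) (q : ℕ) :
    Subsingleton (Abelian.Ext.{u + 1} F (∐ DivSeq.Jm fun _ : PUnit.{u + 2} => genericPoint X) q) := by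
  let η : PUnit.{u + 2} → X := fun _ => genericPoint X
  let ι := CdLib.PointPush.ι (genericPoint X)
  haveI : PreservesFiniteLimits (EtCoh.pull ι) := EtFound.pull_preservesFiniteLimits ι
  obtain ⟨e⟩ := nonempty_Jm_iso X
  have h : Subsingleton (Abelian.Ext.{u + 1} F ((EtCoh.push ι).obj (EtCoh.Gm _)) q) :=
    Leray.subsingleton_ext_right (EtCoh.pullPushAdj ι) F q _
      (PointExt.subsingleton_ext_of_isZero_left (PointExt.isZero_pull_of_disjoint ι F fun p => by
        rw [Set.mem_singleton_iff.1 ((CdLib.PointPush.range_ι (genericPoint X)).le ⟨p, rfl⟩)]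
        exact hη) _ q)
      (fun a b _ => PointExt.subsingleton_ext_of_isZero_right F
        (PointRpush.isZero_rpush_Gm X hdim hnorm hchar b) a)
  have hp1 : Sigma.ι (DivSeq.Jm η) PUnit.unit ≫ CoprodProd.proj (DivSeq.Jm η) PUnit.unit = 𝟙 _ :=
    CoprodProd.ι_proj_self _ _
  let p : DivSeq.Jm η PUnit.unit ≅ ∐ DivSeq.Jm η :=
    ⟨Sigma.ι (DivSeq.Jm η) PUnit.unit, CoprodProd.proj (DivSeq.Jm η) PUnit.unit, hp1,
      Sigma.hom_ext _ _ fun i => by
        cases i
        rw [← Category.assoc, hp1, Category.id_comp, Category.comp_id]⟩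
  exact ExtVanish.ext_of_iso (e.symm ≪≫ p) F q h

include hdim in
/-- The points of a proper closed subset are closed of codimension one. -/
theorem closed_point_of_mem {Z : Set X} (hZ : IsClosed Z) (hZU : Z ≠ Set.univ) {v : X} (hv : v ∈ Z) :
    ringKrullDim (X.presheaf.stalk v) = 1 := by
  rw [DimFormula.ringKrullDim_stalk]
  have h1 := CurveCd.codim_le X hdim v
  have h2 : DimFormula.codim v ≠ 0 := fun h =>
    genericPoint_notMem X hZ hZU (CurveCd.eq_genericPoint X hdim h ▸ hv)
  have h3 : DimFormula.codim v = 1 := by omega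
  rw [h3]; rfl

include hdim in
/-- Proper closed subsets are finite. -/
theorem finite_closed {Z : Set X} (hZ : IsClosed Z) (hZU : Z ≠ Set.univ) : Z.Finite := by
  obtain ⟨S, hSf, hSc, hSi, hS⟩ :=
    TopologicalSpace.NoetherianSpace.exists_finite_set_isClosed_irreducible hZ
  rw [hS]
  refine hSf.sUnion fun t ht => ?_
  obtain ⟨g, hg⟩ := QuasiSober.sober (hSi t ht) (hSc t ht)
  have hgZ : g ∈ Z := hS ▸ ⟨t, ht, hg.mem⟩
  have hcl := CurveCd.isClosed_singleton X hdim (closed_point_of_mem X hdim hZ hZU hgZ)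
  rw [← hg.def, hcl.closure_eq]
  exact Set.finite_singleton g

include hdim in
/-- Cohomologically, divisors away from the support do not count. -/
theorem subsingleton_ext_away {Z : Set X} (hZ : IsClosed Z) (hZU : Z ≠ Set.univ) (F : EtCoh.Ab X)
    (hF : EtPBC.supp F ⊆ Z) (q : ℕ) :
    Subsingleton (Abelian.Ext.{u + 1} F
      (∐ fun k : {k : DivSeq.P1 X // k.down.1 ∉ Z} => DivSeq.M k.1) q) := by
  let j : X.Opens := ⟨Zᶜ, hZ.isOpen_compl⟩
  have hsupp : ∀ x : X, (∀ k : DivSeq.P1 X, k.down.1 ∉ Z → k.down.1 ≠ x) →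
      x ∉ EtPBC.supp (∐ fun k : {k : DivSeq.P1 X // k.down.1 ∉ Z} => DivSeq.M k.1) := fun x hx hmem => by
    refine S3491.not_subsingleton_stalk _ x hmem (AddCommGrpCat.subsingleton_of_isZero
      (CoprodProd.isZero_stalk _ _ fun k => ?_))
    by_contra hne
    have h := CdLib.PointPush.supp_push_point _ _ (Supp.mem_supp_of_stalk (EtaleStrictHens.ξ x) hne)
    have hpt : Supp.pt (EtaleStrictHens.ξ x) = x := by
      rw [Supp.pt, EtaleStrictHens.ξ]
      exact Set.mem_singleton_iff.1 ((X.range_fromSpecResidueField x).le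
        ⟨_, (Scheme.Hom.comp_apply _ (X.fromSpecResidueField x) _).symm⟩)
    rw [hpt] at h
    exact hx k.1 k.2 (h.mem_closed (CurveCd.isClosed_singleton X hdim k.1.down.2) rfl).symm
  refine PointExt.subsingleton_ext j F _ (fun x hx hx' => hx (hF hx'))
    (fun y hy => hsupp y fun k hk h => hy (h ▸ hk)) (fun x y hy hxy hxj => hsupp x fun k hk h => ?_) q
  subst h
  have hmem : y = k.down.1 := hxy.mem_closed (CurveCd.isClosed_singleton X hdim k.down.2) rfl
  exact hy (hmem ▸ hk)

/-- A class with vanishing components at a finite part vanishes if the rest contributes nothing. -/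
theorem eq_zero_of_components {C : Type*} [Category C] [Abelian C] [HasExt C] {J : Type*}
    (M : J → C) [HasCoproduct M] (S : Finset J) [HasCoproduct fun k : {k : J // k ∉ S} => M k.1]
    (pr : ∀ k, (∐ M) ⟶ M k)
    (hpr : ∀ k, Sigma.ι M k ≫ pr k = 𝟙 _) (hpr' : ∀ j k, j ≠ k → Sigma.ι M j ≫ pr k = 0)
    (P : C) (r : ℕ) (hN : Subsingleton (Ext P (∐ fun k : {k : J // k ∉ S} => M k.1) r))
    (x : Ext P (∐ M) r) (hx : ∀ k ∈ S, x.comp (Ext.mk₀ (pr k)) (add_zero r) = 0) : x = 0 := by
  classical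
  let a : (∐ M) ⟶ ∐ fun k : {k : J // k ∉ S} => M k.1 :=
    Sigma.desc fun k => if h : k ∈ S then 0 else Sigma.ι (fun k : {k : J // k ∉ S} => M k.1) ⟨k, h⟩
  let b : (∐ fun k : {k : J // k ∉ S} => M k.1) ⟶ ∐ M := Sigma.desc fun k => Sigma.ι M k.1
  have hid : (∑ k ∈ S, pr k ≫ Sigma.ι M k) + a ≫ b = 𝟙 (∐ M) := by
    refine Sigma.hom_ext _ _ fun i => ?_
    rw [Preadditive.comp_add, Preadditive.comp_sum, Category.comp_id]
    by_cases hi : i ∈ S
    · rw [Finset.sum_eq_single_of_mem i hi fun k _ hk => by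
        rw [← Category.assoc, hpr' i k (Ne.symm hk), zero_comp], ← Category.assoc, hpr, Category.id_comp]
      simp [a, hi]
    · rw [Finset.sum_eq_zero fun k hk => by
        rw [← Category.assoc, hpr' i k (fun h => hi (h ▸ hk)), zero_comp], zero_add]
      simp [a, b, hi]
  have hs : Ext.mk₀ (∑ k ∈ S, pr k ≫ Sigma.ι M k) = ∑ k ∈ S, Ext.mk₀ (pr k ≫ Sigma.ι M k) :=
    map_sum Ext.addEquiv₀.symm _ _
  have hc : ∀ f : J → Ext (∐ M) (∐ M) 0,
      x.comp (∑ k ∈ S, f k) (add_zero r) = ∑ k ∈ S, x.comp (f k) (add_zero r) := fun f =>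
    map_sum (AddMonoidHom.mk' (fun z : Ext (∐ M) (∐ M) 0 => x.comp z (add_zero r))
      (fun _ _ => Ext.comp_add _ _ _ _)) _ _
  rw [← Ext.comp_mk₀_id x, ← hid, Ext.mk₀_add, Ext.comp_add, hs, hc,
    ← Ext.mk₀_comp_mk₀, ← Ext.comp_assoc_of_second_deg_zero,
    hN.elim (x.comp (Ext.mk₀ a) (add_zero r)) 0, Ext.zero_comp, add_zero]
  refine Finset.sum_eq_zero fun k hk => ?_
  rw [← Ext.mk₀_comp_mk₀, ← Ext.comp_assoc_of_second_deg_zero, hx k hk, Ext.zero_comp]

include hdim in
/-- `Ext` into the sheaf of divisors is a product over the support. -/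
theorem nonempty_ext_div_equiv {Z : Set X} (hZ : IsClosed Z) (hZU : Z ≠ Set.univ) (F : EtCoh.Ab X)
    (hF : EtPBC.supp F ⊆ Z) (r : ℕ) :
    Nonempty (Abelian.Ext.{u + 1} F (∐ DivSeq.M (X := X)) r ≃+
      (∀ v : ↥Z, Abelian.Ext.{u + 1} F
        ((EtCoh.push (CdLib.PointPush.ι (v : X))).obj (EtCoh.const (Spec (X.residueField (v : X))) ℤ)) r)) := by
  classical
  haveI : Fintype ↥Z := (finite_closed X hdim hZ hZU).fintype
  let κ : ↥Z → DivSeq.P1 X := fun v => ⟨⟨v.1, closed_point_of_mem X hdim hZ hZU v.2⟩⟩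
  have hκ : Function.Injective κ := fun v w h => Subtype.ext (congrArg (fun k => k.down.1) h)
  let S : Finset (DivSeq.P1 X) := Finset.univ.image κ
  have hS : ∀ k : DivSeq.P1 X, k ∈ S ↔ k.down.1 ∈ Z := fun k => by
    simp only [S, Finset.mem_image, Finset.mem_univ, true_and]
    exact ⟨fun ⟨v, hv⟩ => hv ▸ v.2, fun h => ⟨⟨_, h⟩, rfl⟩⟩
  let M := DivSeq.M (X := X)
  let φ : Abelian.Ext.{u + 1} F (∐ M) r →+ ∀ v : ↥Z, Abelian.Ext.{u + 1} F (M (κ v)) r :=
    AddMonoidHom.mk' (fun x v => x.comp (Ext.mk₀ (CoprodProd.proj M (κ v))) (add_zero r))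
      fun x y => funext fun v => Ext.add_comp _ _ _ _
  have hN : Subsingleton (Abelian.Ext.{u + 1} F (∐ fun k : {k : DivSeq.P1 X // k ∉ S} => M k.1) r) := by
    let e : {k : DivSeq.P1 X // k.down.1 ∉ Z} ≃ {k : DivSeq.P1 X // k ∉ S} :=
      Equiv.subtypeEquivRight fun k => not_congr (hS k).symm
    exact ExtVanish.ext_of_iso (Sigma.reindex e fun k : {k : DivSeq.P1 X // k ∉ S} => M k.1) F r
      (subsingleton_ext_away X hdim hZ hZU F hF r)
  have hφ : Function.Bijective φ := by
    refine ⟨(injective_iff_map_eq_zero φ).2 fun x hx => ?_, fun f => ?_⟩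
    · refine eq_zero_of_components M S (CoprodProd.proj M) (CoprodProd.ι_proj_self M)
        (fun j k h => CoprodProd.ι_proj_ne M h) F r hN x fun k hk => ?_
      obtain ⟨v, -, rfl⟩ := Finset.mem_image.1 hk
      exact congrFun hx v
    · refine ⟨∑ v, (f v).comp (Ext.mk₀ (Sigma.ι M (κ v))) (add_zero r), ?_⟩
      rw [map_sum]
      funext w
      rw [Finset.sum_apply, Finset.sum_eq_single w]
      · show ((f w).comp (Ext.mk₀ (Sigma.ι M (κ w))) (add_zero r)).comp (Ext.mk₀ (CoprodProd.proj M (κ w)))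
            (add_zero r) = f w
        rw [Ext.comp_assoc_of_second_deg_zero, Ext.mk₀_comp_mk₀, CoprodProd.ι_proj_self, Ext.comp_mk₀_id]
      · intro v _ hv
        show ((f v).comp (Ext.mk₀ (Sigma.ι M (κ v))) (add_zero r)).comp (Ext.mk₀ (CoprodProd.proj M (κ w)))
            (add_zero r) = 0
        rw [Ext.comp_assoc_of_second_deg_zero, Ext.mk₀_comp_mk₀, CoprodProd.ι_proj_ne M (fun h => hv (hκ h)),
          Ext.mk₀_zero, Ext.comp_zero]
      · exact fun h => absurd (Finset.mem_univ w) h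
  exact ⟨AddEquiv.ofBijective φ hφ⟩

/-- `Ext` into a skyscraper is `Ext` over the point. -/
theorem nonempty_ext_push_equiv (v : X) (hv : IsClosed ({v} : Set X)) (F : EtCoh.Ab X)
    (A : EtCoh.Ab (Spec (X.residueField v))) (r : ℕ) :
    Nonempty (Abelian.Ext.{u + 1} F ((EtCoh.push (CdLib.PointPush.ι v)).obj A) r ≃+
      Abelian.Ext.{u + 1} ((EtCoh.pull (X.fromSpecResidueField v)).obj F) A r) := by
  let i := CdLib.PointPush.ι v
  haveI : IsClosedImmersion (X.fromSpecResidueField v) := isClosed_singleton_iff_isClosedImmersion.mp hv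
  haveI : IsClosedImmersion i := inferInstanceAs (IsClosedImmersion (X.fromSpecResidueField v))
  haveI := EtFound.push_preservesFiniteColimits i
  haveI := EtFound.push_preservesFiniteLimits i
  haveI : (EtCoh.push i).IsRightAdjoint := (EtCoh.pullPushAdj i).isRightAdjoint
  haveI : (EtCoh.push i).Additive := (EtCoh.pullPushAdj i).right_adjoint_additive
  haveI := EtFound.pull_preservesFiniteLimits i
  haveI : (EtCoh.pull i).PreservesMonomorphisms := inferInstance
  exact ⟨(AddEquiv.ofBijective _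
    (EtMVLib.adjExtMap_bijective (EtCoh.pullPushAdj i) F A r)).symm⟩

include hdim hnorm in
/-- The main computation. -/
theorem ext_Gm_of_supp (hchar : ∀ y : X, CharZero (X.residueField y)) {Z : Set X} (hZ : IsClosed Z)
    (hZU : Z ≠ Set.univ) (F : EtCoh.Ab X) (hF : EtPBC.supp F ⊆ Z) :
    Subsingleton (Abelian.Ext.{u + 1} F (EtCoh.Gm X) 0) ∧
      ∀ r : ℕ, Nonempty (Abelian.Ext.{u + 1} F (EtCoh.Gm X) (r + 1) ≃+
        (∀ v : ↥Z, Abelian.Ext.{u + 1}
          ((EtCoh.pull (X.fromSpecResidueField (v : X))).obj F)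
          (EtCoh.const (Spec (X.residueField (v : X))) ℤ) r)) := by
  have hd := DivSeq.efact_of_regular (CurveCd.isRegular_stalk X hdim hnorm)
  have hS := DivSeq.shortExact_seq hd (DivSeq.maxFamily_generic (X := X))
  let S := DivSeq.seq hd (DivSeq.maxFamily_generic (X := X))
  have hη : genericPoint X ∉ EtPBC.supp F := fun h => genericPoint_notMem X hZ hZU (hF h)
  have hJ : ∀ q, Subsingleton (Abelian.Ext.{u + 1} F S.X₂ q) :=
    fun q => subsingleton_ext_Jm X hdim hnorm hchar F hη q
  refine ⟨subsingleton_of_forall_eq 0 fun x => ?_, fun r => ?_⟩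
  · obtain ⟨f, rfl⟩ := (Ext.mk₀_bijective _ _).2 x
    haveI : Mono S.f := hS.mono_f
    have h : Ext.mk₀ (f ≫ S.f) = 0 := (hJ 0).elim _ _
    have h' : f ≫ S.f = 0 := (Ext.mk₀_bijective _ _).1 (h.trans (Ext.mk₀_zero _ _).symm)
    rw [(cancel_mono S.f).1 (h'.trans zero_comp.symm), Ext.mk₀_zero]
  · let δ : Abelian.Ext.{u + 1} F S.X₃ r →+ Abelian.Ext.{u + 1} F S.X₁ (r + 1) :=
      AddMonoidHom.mk' (fun x => x.comp hS.extClass rfl) fun _ _ => Ext.add_comp _ _ _ _
    have hδ : Function.Bijective δ := by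
      refine ⟨(injective_iff_map_eq_zero δ).2 fun x hx => ?_, fun y => ?_⟩
      · obtain ⟨z, rfl⟩ := Ext.covariant_sequence_exact₃ F hS x rfl hx
        rw [(hJ r).elim z 0, Ext.zero_comp]
      · exact Ext.covariant_sequence_exact₁ F hS y ((hJ (r + 1)).elim _ _) rfl
    obtain ⟨e⟩ := nonempty_ext_div_equiv X hdim hZ hZU F hF r
    exact ⟨(AddEquiv.ofBijective δ hδ).symm.trans (e.trans (AddEquiv.piCongrRight fun v =>
      (nonempty_ext_push_equiv X (v : X)
        (CurveCd.isClosed_singleton X hdim (closed_point_of_mem X hdim hZ hZU v.2)) F _ r).some))⟩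

end Groth.Agent.DixBrauer.CurveExt
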