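import Groth.Agent.EtLC12.QcqsAcyclic
import Groth.Agent.EtFound.CompactObj
import Groth.Agent.EtFound.NoethConstr
import Groth.Agent.CdLib.ExtVanish
import Groth.Agent.CdLib.CoprodProd
import Mathlib.CategoryTheory.Adjunction.Evaluation
import Mathlib.Algebra.Category.Grp.AB
import Mathlib.CategoryTheory.Preadditive.LiftToFinset

/-!
`Ext` out of a constructible sheaf commutes with filtered colimits on Noetherian schemes.
-/

set_option autoImplicit false
set_option linter.style.haveILetI false
set_option backward.isDefEq.respectTransparency.types false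

universe u

open CategoryTheory CategoryTheory.Limits CategoryTheory.Abelian AlgebraicGeometry Opposite

noncomputable section

namespace Groth.Agent.DixBrauer.ExtCompact

open EtFound EtLC12

variable {X : Scheme.{u}}

/-- Čech acyclic with divisible sections on quasi-compact quasi-separated objects. -/
structure Good (G : EtCoh.Ab X) : Prop where
  cech : QcqsAcyclic.IsCechAcyclic G
  divisible : ∀ (V : X.Etale), IsQcqsObj V → ∀ n : ℕ, 0 < n →
    Function.Surjective fun s : G.obj.obj (op V) => n • s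

theorem nsmul_surjective_of_injective (A : AddCommGrpCat.{u + 1}) [Injective A] (n : ℕ) (hn : 0 < n) :
    Function.Surjective fun s : A => n • s := by
  intro a
  let Z := AddCommGrpCat.of (ULift.{u + 1} ℤ)
  let m : Z ⟶ Z := n • 𝟙 Z
  have hm : ∀ z, m z = n • z := fun z => by
    show (n • 𝟙 Z : Z ⟶ Z).hom z = _
    rw [AddCommGrpCat.hom_nsmul, AddMonoidHom.smul_apply]
    rfl
  haveI : Mono m := (AddCommGrpCat.mono_iff_injective _).2 fun x y h => by
    rw [hm, hm] at h
    refine ULift.ext _ _ ?_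
    have h' := congrArg ULift.down h
    exact smul_right_injective ℤ hn.ne' h'
  let f : Z ⟶ A := AddCommGrpCat.ofHom ((zmultiplesHom A a).comp AddEquiv.ulift.toAddMonoidHom)
  refine ⟨Injective.factorThru f m ⟨1⟩, ?_⟩
  have h1 := ConcreteCategory.congr_hom (Injective.comp_factorThru f m) (⟨1⟩ : ULift.{u + 1} ℤ)
  rw [ConcreteCategory.comp_apply, hm, map_nsmul] at h1
  refine h1.trans ?_
  show (1 : ℤ) • a = a
  exact one_zsmul a

theorem injective_eval (P : X.Etaleᵒᵖ ⥤ AddCommGrpCat.{u + 1}) [Injective P] (U : X.Etaleᵒᵖ) :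
    Injective (P.obj U) := by
  haveI : (evaluationLeftAdjoint AddCommGrpCat.{u + 1} U).PreservesMonomorphisms := ⟨fun {A B} f _ => by
    haveI : ∀ t, Mono (((evaluationLeftAdjoint AddCommGrpCat.{u + 1} U).map f).app t) := fun t => by
      show Mono (Sigma.desc fun h : U ⟶ t => f ≫ Sigma.ι (fun _ => B) h)
      have h : (Sigma.desc fun h : U ⟶ t => f ≫ Sigma.ι (fun _ => B) h) = Limits.Sigma.map fun _ => f :=
        Sigma.hom_ext _ _ fun h => by simp
      rw [h]
      haveI : AB4OfSize.{u} AddCommGrpCat.{u + 1} := AB4OfSize_shrink.{u, u + 1} _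
      haveI : HasExactColimitsOfShape (Discrete (U ⟶ t)) AddCommGrpCat.{u + 1} :=
        AB4OfSize.ofShape _
      haveI : Mono (Discrete.natTrans (F := Discrete.functor fun _ : U ⟶ t => A)
          (G := Discrete.functor fun _ : U ⟶ t => B) fun _ => f) :=
        haveI : ∀ j, Mono ((Discrete.natTrans (F := Discrete.functor fun _ : U ⟶ t => A)
          (G := Discrete.functor fun _ : U ⟶ t => B) fun _ => f).app j) := fun _ => inferInstanceAs (Mono f)
        NatTrans.mono_of_mono_app _
      exact colim.map_mono _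
    exact NatTrans.mono_of_mono_app _⟩
  exact Injective.injective_of_adjoint (evaluationAdjunctionRight AddCommGrpCat.{u + 1} U) P

theorem good_injective (I : EtCoh.Ab X) [Injective I] : Good I := by
  refine ⟨QcqsAcyclic.isCechAcyclic_of_injective I, fun V _ n hn => ?_⟩
  haveI : Injective I.obj :=
    Injective.injective_of_adjoint (sheafificationAdjunction X.smallEtaleTopology AddCommGrpCat.{u + 1}) I
  haveI := injective_eval I.obj (op V)
  exact nsmul_surjective_of_injective _ n hn

theorem good_colimit {Λ : Type (u + 1)} [SmallCategory Λ] [IsFiltered Λ] (D : Λ ⥤ EtCoh.Ab X)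
    (h : ∀ j, Good (D.obj j)) : Good (colimit D) := by
  refine ⟨QcqsAcyclic.isCechAcyclic_colimit D fun j => (h j).cech, fun V hV n hn t => ?_⟩
  haveI : PreservesColimitsOfShape Λ (sheafToPresheaf X.smallEtaleTopology AddCommGrpCat.{u + 1} ⋙
      (evaluation X.Etaleᵒᵖ AddCommGrpCat.{u + 1}).obj (op V)) :=
    preservesColimitsOfShape_sections_qcqs_ab _ hV Λ
  let hc := isColimitOfPreserves (sheafToPresheaf X.smallEtaleTopology AddCommGrpCat.{u + 1} ⋙
      (evaluation X.Etaleᵒᵖ AddCommGrpCat.{u + 1}).obj (op V)) (colimit.isColimit D)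
  obtain ⟨i, s, hs⟩ := Concrete.isColimit_exists_rep _ hc t
  obtain ⟨r, hr⟩ := (h i).divisible V hV n hn s
  refine ⟨(colimit.ι D i).hom.app (op V) r, ?_⟩
  exact (map_nsmul ((colimit.ι D i).hom.app (op V)).hom n r).symm.trans ((congrArg _ hr).trans hs)

theorem good_X₃ (S : ShortComplex (EtCoh.Ab X)) (hS : S.ShortExact) (h1 : Good S.X₁) [Injective S.X₂] :
    Good S.X₃ := by
  refine ⟨QcqsAcyclic.isCechAcyclic_X₃ S hS h1.cech (QcqsAcyclic.isCechAcyclic_of_injective _),
    fun V hV n hn t => ?_⟩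
  obtain ⟨s, hs⟩ := QcqsAcyclic.sections_surjective S hS h1.cech hV t
  obtain ⟨r, hr⟩ := (good_injective S.X₂).divisible V hV n hn s
  refine ⟨(S.g.hom.app (op V)).hom r, ?_⟩
  exact (map_nsmul (S.g.hom.app (op V)).hom n r).symm.trans ((congrArg _ hr).trans hs)

/-- No higher `Ext` from `j_!(ℤ/n)` into a good sheaf. -/
theorem subsingleton_ext_extZeroConst (U : X.Etale) [IsAffine U.left] (n : ℕ) (hn : 0 < n) :
    ∀ (q : ℕ) (C : EtCoh.Ab X), Good C →
      Subsingleton (Abelian.Ext.{u + 1} (EtPBC.extZeroConst U (ZMod n)) C (q + 1)) := by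
  intro q
  induction q with
  | zero =>
    intro C hC
    let S := ShortComplex.mk (Injective.ι C) (cokernel.π _) (cokernel.condition (Injective.ι C))
    have hS : S.ShortExact := { exact := ShortComplex.exact_of_g_is_cokernel _ (cokernelIsCokernel _) }
    refine subsingleton_of_forall_eq 0 fun x => ?_
    obtain ⟨z, rfl⟩ := Ext.covariant_sequence_exact₁ _ hS x
      (haveI : Injective S.X₂ := inferInstanceAs (Injective (Injective.under C)); Ext.eq_zero_of_injective _)
      (rfl : 0 + 1 = 1)
    obtain ⟨φ, rfl⟩ := (Ext.mk₀_bijective _ _).2 z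
    let one : ULift.{u + 1} (ZMod n) := ⟨1⟩
    let t := φ.hom.app (op U) (taut U (ZMod n) one)
    have ht : n • t = 0 := by
      have h0 : n • one = 0 := ULift.ext _ _ (by simp [one])
      exact ((map_nsmul (φ.hom.app (op U)).hom n _).symm.trans (congrArg _ ((map_nsmul (taut U (ZMod n)).hom n one).symm.trans
        ((congrArg _ h0).trans (map_zero _))))).trans (map_zero _)
    obtain ⟨s, hs⟩ := QcqsAcyclic.sections_surjective S hS hC.cech (isQcqsObj_of_isAffine U) t
    haveI := hS.mono_f
    obtain ⟨c, hc⟩ := (SiteBase.secExact_iff S U).1 (hS.exact.map_of_mono_of_preservesKernel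
      (sheafToPresheaf X.smallEtaleTopology AddCommGrpCat.{u + 1} ⋙
        (evaluation X.Etaleᵒᵖ AddCommGrpCat.{u + 1}).obj (op U)) inferInstance inferInstance) (n • s)
      ((map_nsmul (S.g.hom.app (op U)).hom n s).trans ((congrArg (n • ·) hs).trans ht))
    obtain ⟨d, hd⟩ := hC.divisible U (isQcqsObj_of_isAffine U) n hn c
    let s' := s - (S.f.hom.app (op U)).hom d
    have hs' : n • s' = 0 := by
      rw [nsmul_sub, ← map_nsmul, sub_eq_zero]
      exact hc.symm.trans (congrArg _ hd).symm
    have hgf : (S.g.hom.app (op U)).hom ((S.f.hom.app (op U)).hom d) = 0 :=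
      congrArg (fun t : S.X₁ ⟶ S.X₃ => (t.hom.app (op U)).hom d) S.zero
    have hgs' : (S.g.hom.app (op U)).hom s' = t := by
      rw [map_sub, hgf, sub_zero]; exact hs
    let L : ZMod n →+ S.X₂.obj.obj (op U) := ZMod.lift n ⟨zmultiplesHom _ s', by
      simpa [natCast_zsmul] using hs'⟩
    obtain ⟨ψ, hψ⟩ := exists_hom_taut (M := ZMod n) (U := U) (F := S.X₂) (AddCommGrpCat.ofHom
      (L.comp (AddEquiv.ulift : ULift.{u + 1} (ZMod n) ≃+ ZMod n).toAddMonoidHom))
    have hφ : ψ ≫ S.g = φ := by
      refine hom_ext_taut _ _ (AddCommGrpCat.ext fun m => ?_)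
      obtain ⟨k, hk⟩ := ZMod.intCast_surjective m.down
      have hm : m = k • one := ULift.ext _ _ (by simp [one, ← hk])
      subst hm
      rw [map_zsmul, map_zsmul]
      refine congrArg (k • ·) ?_
      show (S.g.hom.app (op U)) (ψ.hom.app (op U) (taut U (ZMod n) one)) = t
      refine (congrArg (S.g.hom.app (op U)) (ConcreteCategory.congr_hom hψ one)).trans ?_
      have hL : L 1 = (1 : ℤ) • s' := (congrArg L (Int.cast_one (R := ZMod n)).symm).trans (ZMod.lift_coe n _ 1)
      show (S.g.hom.app (op U)) (L 1) = t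
      rw [hL, one_zsmul]
      exact hgs'
    rw [← hφ, ← Ext.mk₀_comp_mk₀, Ext.comp_assoc_of_second_deg_zero, hS.comp_extClass, Ext.comp_zero]
  | succ q ih =>
    intro C hC
    let S := ShortComplex.mk (Injective.ι C) (cokernel.π _) (cokernel.condition (Injective.ι C))
    have hS : S.ShortExact := { exact := ShortComplex.exact_of_g_is_cokernel _ (cokernelIsCokernel _) }
    haveI : Injective S.X₂ := inferInstanceAs (Injective (Injective.under C))
    refine subsingleton_of_forall_eq 0 fun x => ?_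
    obtain ⟨z, rfl⟩ := Ext.covariant_sequence_exact₁ _ hS x (Ext.eq_zero_of_injective _) (rfl : (q + 1) + 1 = _)
    haveI := ih S.X₃ (good_X₃ S hS hC)
    rw [Subsingleton.elim z 0, Ext.zero_comp]

/-- `Ext` out of a finite sum. -/
theorem subsingleton_ext_biproduct {C : Type*} [Category C] [Abelian C] [HasFiniteBiproducts C] [HasExt C] {b : ℕ} (E : Fin b → C)
    (G : C) (q : ℕ) (h : ∀ i, Subsingleton (Ext (E i) G q)) : Subsingleton (Ext (⨁ E) G q) := by
  refine subsingleton_of_forall_eq 0 fun x => ?_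
  have hs : Ext.mk₀ (∑ i, biproduct.π E i ≫ biproduct.ι E i) = ∑ i, Ext.mk₀ (biproduct.π E i ≫ biproduct.ι E i) :=
    map_sum Ext.addEquiv₀.symm _ _
  have hc : ∀ f : Fin b → Ext (⨁ E) (⨁ E) 0,
      (∑ i, f i).comp x (zero_add q) = ∑ i, (f i).comp x (zero_add q) := fun f =>
    map_sum (AddMonoidHom.mk' (fun z : Ext (⨁ E) (⨁ E) 0 => z.comp x (zero_add q))
      (fun _ _ => Ext.add_comp _ _ _ _)) _ _
  rw [← Ext.mk₀_id_comp x, ← biproduct.total, hs, hc]
  refine Finset.sum_eq_zero fun i _ => ?_
  rw [← Ext.mk₀_comp_mk₀, Ext.comp_assoc _ _ _ (zero_add 0) (zero_add q) (by omega),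
    (h i).elim ((Ext.mk₀ (biproduct.ι E i)).comp x (zero_add q)) 0, Ext.comp_zero]

variable [AlgebraicGeometry.IsNoetherian X] {Λ : Type (u + 1)} [SmallCategory Λ] [IsFiltered Λ]

/-- Vanishing on filtered colimits of injectives. -/
theorem subsingleton_ext_colimit (D : Λ ⥤ EtCoh.Ab X) (hD : ∀ j, Injective (D.obj j)) :
    ∀ (q : ℕ) (F : EtCoh.Ab X), EtPBC.IsConstructible F →
      Subsingleton (Abelian.Ext.{u + 1} F (colimit D) (q + 1)) := by
  have hC : Good (colimit D) := good_colimit D fun j => haveI := hD j; good_injective _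
  intro q
  induction q with
  | zero =>
    intro F hF
    obtain ⟨n, hn, hFn⟩ := exists_killedBy X hF
    haveI : NeZero n := ⟨hn.ne'⟩
    obtain ⟨b, U, hU, π, hπ⟩ := exists_epi_of_constructible X hF hFn
    haveI := hπ
    let S := ShortComplex.mk (kernel.ι π) π (kernel.condition π)
    have hS : S.ShortExact := { exact := ShortComplex.exact_of_f_is_kernel _ (kernelIsKernel π) }
    have hK : EtPBC.IsConstructible S.X₁ := isConstructible_kernel_noeth
      (isConstructible_biproduct _ fun i => haveI := hU i; S0133.result X (U i) (ZMod n)) π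
    refine subsingleton_of_forall_eq 0 fun x => ?_
    have hP : Subsingleton (Abelian.Ext.{u + 1} S.X₂ (colimit D) 1) :=
      subsingleton_ext_biproduct _ _ _ fun i =>
        haveI := hU i; subsingleton_ext_extZeroConst (U i) n hn 0 _ hC
    obtain ⟨z, rfl⟩ := Ext.contravariant_sequence_exact₃ hS _ x (hP.elim _ _) (rfl : 1 + 0 = 1)
    obtain ⟨h, rfl⟩ := (Ext.mk₀_bijective _ _).2 z
    obtain ⟨j, g, rfl⟩ := (isCpt_of_isConstructible hK).exists_stage (colimit.isColimit D) h
    haveI := hS.mono_f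
    haveI := hD j
    rw [← Injective.comp_factorThru g S.f, Category.assoc, ← Ext.mk₀_comp_mk₀,
      ← Ext.comp_assoc _ _ _ (add_zero 1) (zero_add 0) (by omega), hS.extClass_comp, Ext.zero_comp]
  | succ q ih =>
    intro F hF
    obtain ⟨n, hn, hFn⟩ := exists_killedBy X hF
    haveI : NeZero n := ⟨hn.ne'⟩
    obtain ⟨b, U, hU, π, hπ⟩ := exists_epi_of_constructible X hF hFn
    haveI := hπ
    let S := ShortComplex.mk (kernel.ι π) π (kernel.condition π)
    have hS : S.ShortExact := { exact := ShortComplex.exact_of_f_is_kernel _ (kernelIsKernel π) }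
    have hK : EtPBC.IsConstructible S.X₁ := isConstructible_kernel_noeth
      (isConstructible_biproduct _ fun i => haveI := hU i; S0133.result X (U i) (ZMod n)) π
    refine subsingleton_of_forall_eq 0 fun x => ?_
    have hP : Subsingleton (Abelian.Ext.{u + 1} S.X₂ (colimit D) (q + 2)) :=
      subsingleton_ext_biproduct _ _ _ fun i =>
        haveI := hU i; subsingleton_ext_extZeroConst (U i) n hn (q + 1) _ hC
    obtain ⟨z, rfl⟩ := Ext.contravariant_sequence_exact₃ hS _ x (hP.elim _ _) (by omega : 1 + (q + 1) = q + 2)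
    rw [(ih _ hK).elim z 0, Ext.comp_zero]

/-- `Ext` out of a constructible sheaf commutes with filtered colimits. -/
theorem comm {F : EtCoh.Ab X} (hF : EtPBC.IsConstructible F) (q : ℕ) (D : Λ ⥤ EtCoh.Ab X) :
    ExtColimGen.Comm F q D := by
  refine ExtColimGen.comm_all (fun D => ?_) (fun D hD q => subsingleton_ext_colimit D hD q F hF) q D
  have h := isCpt_of_isConstructible hF
  constructor
  · intro x
    obtain ⟨f, rfl⟩ := (Ext.mk₀_bijective _ _).2 x
    obtain ⟨i, g, hg⟩ := h.exists_stage (colimit.isColimit D) f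
    exact ⟨i, Ext.mk₀ g, (Ext.mk₀_comp_mk₀ _ _).trans (congrArg Ext.mk₀ hg)⟩
  · intro i y hy
    obtain ⟨g, rfl⟩ := (Ext.mk₀_bijective _ _).2 y
    rw [Ext.mk₀_comp_mk₀] at hy
    obtain ⟨j, f, hf⟩ := h.exists_eq (colimit.isColimit D) g 0
      ((Ext.mk₀_bijective _ _).1 (hy.trans (Ext.mk₀_zero _ _).symm) |>.trans zero_comp.symm)
    exact ⟨j, f, by rw [Ext.mk₀_comp_mk₀, hf, zero_comp, Ext.mk₀_zero]⟩

open CoproductsFromFiniteFiltered in
/-- `Ext` from a constructible sheaf into a coproduct vanishes with that into the summands. -/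
theorem subsingleton_ext_coprod {F : EtCoh.Ab X} (hF : EtPBC.IsConstructible F) {J : Type (u + 1)}
    (M : J → EtCoh.Ab X) (q : ℕ) (h : ∀ j, Subsingleton (Abelian.Ext.{u + 1} F (M j) q)) :
    Subsingleton (Abelian.Ext.{u + 1} F (∐ M) q) := by
  classical
  have hfin : ∀ S : Finset (Discrete J), Subsingleton (Abelian.Ext.{u + 1} F
      ((liftToFinsetObj (Discrete.functor M)).obj S) q) := fun S => by
    let f : S → EtCoh.Ab X := fun j => M j.1.as
    show Subsingleton (Abelian.Ext.{u + 1} F (∐ f) q)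
    refine subsingleton_of_forall_eq 0 fun x => ?_
    have hid : ∑ j, Groth.Agent.CdLib.CoprodProd.proj f j ≫ Sigma.ι f j = 𝟙 (∐ f) := by
      refine Sigma.hom_ext _ _ fun k => ?_
      rw [Preadditive.comp_sum, Finset.sum_eq_single k]
      · rw [← Category.assoc, Groth.Agent.CdLib.CoprodProd.ι_proj_self, Category.id_comp, Category.comp_id]
      · intro j _ hj
        rw [← Category.assoc, Groth.Agent.CdLib.CoprodProd.ι_proj_ne f (Ne.symm hj), zero_comp]
      · exact fun h => absurd (Finset.mem_univ k) h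
    rw [← Ext.comp_mk₀_id x, ← hid, Ext.mk₀_sum, Ext.comp_sum]
    refine Finset.sum_eq_zero fun j _ => ?_
    rw [← Ext.mk₀_comp_mk₀, ← Ext.comp_assoc_of_second_deg_zero,
      (h j.1.as).elim (x.comp (Ext.mk₀ (Groth.Agent.CdLib.CoprodProd.proj f j)) (add_zero q)) 0, Ext.zero_comp]
  refine subsingleton_of_forall_eq 0 fun x => ?_
  let D := liftToFinsetObj (Discrete.functor M)
  let e : colimit D ≅ ∐ M := IsColimit.coconePointUniqueUpToIso (colimit.isColimit _)
    (isColimitFiniteSubproductsCocone M)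
  obtain ⟨S, y, hy⟩ := (comm hF q D).surj (x.comp (Ext.mk₀ e.inv) (add_zero q))
  rw [(hfin S).elim y 0, Ext.zero_comp] at hy
  have := congrArg (fun z => z.comp (Ext.mk₀ e.hom) (add_zero q)) hy.symm
  simpa [Ext.comp_assoc_of_second_deg_zero, Ext.mk₀_comp_mk₀, Ext.zero_comp] using this

end Groth.Agent.DixBrauer.ExtCompact
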