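import Groth.Agent.DixBrauer.PointRpush
import Groth.Agent.CdField.Basic
import Groth.Agent.CdField.Transfer
import Groth.Agent.EtShriekLib.EtaleTrace
import Groth.Agent.EtMVLib.ExtTools
import Groth.Agent.EtFound.PushExact
import Groth.Agent.EtFound.Presentation

/-!
Vanishing of `Ext` out of finite sheaves on the spectrum of a field, from cohomological dimension.
-/

set_option autoImplicit false
set_option linter.style.haveILetI false
set_option backward.isDefEq.respectTransparency.types false

universe u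

open CategoryTheory CategoryTheory.Limits CategoryTheory.Abelian AlgebraicGeometry Opposite
open scoped ZeroObject

noncomputable section

namespace Groth.Agent.DixBrauer.FieldExt

open Groth.Agent.EtFound Groth.Agent.CdLib

/-- Multiplication by `n` is composition with `n • 𝟙`. -/
theorem mk₀_nsmul_id_comp {C : Type*} [Category C] [Abelian C] [HasExt C] {P M : C} {i : ℕ}
    (x : Ext P M i) (n : ℕ) : (Ext.mk₀ (n • 𝟙 P)).comp x (zero_add i) = n • x := by
  induction n with
  | zero => simp
  | succ n ih => rw [succ_nsmul, succ_nsmul, Ext.mk₀_add, Ext.add_comp, ih, Ext.mk₀_id_comp]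

/-- Multiplication is surjective on `Ext^i` if the kernel and cokernel do not contribute. -/
theorem nsmul_surjective {C : Type*} [Category C] [Abelian C] [HasExt C] {M : C} (n : ℕ) (P : C) (i : ℕ)
    (hK : Subsingleton (Ext P (kernel (n • 𝟙 M)) (i + 1)))
    (hQ : Subsingleton (Ext P (cokernel (n • 𝟙 M)) i)) (z : Ext P M i) : ∃ w : Ext P M i, n • w = z := by
  let f : M ⟶ M := n • 𝟙 M
  let S₁ := ShortComplex.mk (kernel.ι f) (Abelian.factorThruImage f)
    (by rw [← cancel_mono (Abelian.image.ι f), Category.assoc, Abelian.image.fac, kernel.condition,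
      zero_comp])
  have hS₁ : S₁.ShortExact :=
    { exact := ShortComplex.exact_of_f_is_kernel _ (KernelFork.IsLimit.ofι' _ _ fun g hg =>
        ⟨kernel.lift f g (by rw [← Abelian.image.fac f, ← Category.assoc, hg, zero_comp]),
          kernel.lift_ι ..⟩)
      mono_f := inferInstanceAs (Mono (kernel.ι f))
      epi_g := inferInstanceAs (Epi (Abelian.factorThruImage f)) }
  let S₂ := ShortComplex.mk (Abelian.image.ι f) (cokernel.π f) (kernel.condition _)
  have hS₂ : S₂.ShortExact :=
    { exact := ShortComplex.exact_of_f_is_kernel _ (kernelIsKernel _)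
      mono_f := inferInstanceAs (Mono (Abelian.image.ι f))
      epi_g := inferInstanceAs (Epi (cokernel.π f)) }
  obtain ⟨y, hy⟩ := Ext.covariant_sequence_exact₂ P hS₂ (show Ext P S₂.X₂ i from z) (hQ.elim _ _)
  obtain ⟨w, hw⟩ := Ext.covariant_sequence_exact₃ P hS₁ (show Ext P S₁.X₃ i from y) rfl (hK.elim _ _)
  refine ⟨w, ?_⟩
  rw [← Kummer.comp_mk₀_nsmul_id]
  show w.comp (Ext.mk₀ f) _ = z
  rw [← Abelian.image.fac f, ← Ext.mk₀_comp_mk₀, ← Ext.comp_assoc_of_second_deg_zero]
  exact (congrArg (fun t => t.comp (Ext.mk₀ S₂.f) (add_zero i)) hw).trans hy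

/-- `Ext` out of `ℤ/n` from the cohomology of kernel and cokernel of multiplication. -/
theorem subsingleton_ext_const_zmod {X : Scheme.{u}} (A : EtCoh.Ab X) (n q : ℕ) [NeZero n]
    (hK : Subsingleton (EtCoh.H X (kernel (n • 𝟙 A)) (q + 1)))
    (hQ : Subsingleton (EtCoh.H X (cokernel (n • 𝟙 A)) q)) :
    Subsingleton (Abelian.Ext.{u + 1} (EtCoh.const X (ZMod n)) A (q + 1)) := by
  let C := constantSheaf X.smallEtaleTopology AddCommGrpCat.{u + 1}
  haveI : PreservesFiniteLimits C := @comp_preservesFiniteLimits _ _ _ _ _ _ _ _ inferInstance inferInstance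
  haveI : PreservesFiniteColimits C := by
    have : C.IsLeftAdjoint := (EtCore.constAdj X).isLeftAdjoint
    infer_instance
  haveI : C.Additive := Functor.additive_of_preserves_binary_products _
  let Z : AddCommGrpCat.{u + 1} := AddCommGrpCat.of (ULift.{u + 1} ℤ)
  let Q : AddCommGrpCat.{u + 1} := AddCommGrpCat.of (ULift.{u + 1} (ZMod n))
  let g : Z ⟶ Q := AddCommGrpCat.ofHom (((AddEquiv.ulift : ULift.{u + 1} (ZMod n) ≃+ ZMod n).symm.toAddMonoidHom.comp
    (Int.castAddHom (ZMod n))).comp (AddEquiv.ulift : ULift.{u + 1} ℤ ≃+ ℤ).toAddMonoidHom)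
  have hm : ∀ z : ULift.{u + 1} ℤ, (n • 𝟙 Z : Z ⟶ Z) z = n • z := fun z => by
    show (n • 𝟙 Z : Z ⟶ Z).hom z = _
    rw [AddCommGrpCat.hom_nsmul, AddMonoidHom.smul_apply]
    rfl
  have hgv : ∀ z : ULift.{u + 1} ℤ, g z = ULift.up ((z.down : ℤ) : ZMod n) := fun z => rfl
  let S : ShortComplex AddCommGrpCat.{u + 1} := ShortComplex.mk (n • 𝟙 Z) g (by
    refine AddCommGrpCat.ext fun z => ?_
    rw [ConcreteCategory.comp_apply, hm, hgv]
    refine ULift.ext _ _ ?_
    show ((n • z.down : ℤ) : ZMod n) = 0
    simp)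
  have hS : S.ShortExact := ShortComplex.ShortExact.mk'
    ((ShortComplex.ab_exact_iff S).2 fun x hx => by
      have hx' : ((x.down : ℤ) : ZMod n) = 0 := congrArg ULift.down hx
      obtain ⟨c, hc⟩ := (ZMod.intCast_zmod_eq_zero_iff_dvd _ _).1 hx'
      exact ⟨ULift.up c, (hm _).trans (ULift.ext _ _ (by
        show n • c = x.down
        rw [hc, nsmul_eq_mul]))⟩)
    ((AddCommGrpCat.mono_iff_injective _).2 fun x y h => by
      have h1 := ((hm x).symm.trans h).trans (hm y)
      exact ULift.ext _ _ (smul_right_injective ℤ (NeZero.ne n) (congrArg ULift.down h1)))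
    ((AddCommGrpCat.epi_iff_surjective _).2 fun x => by
      obtain ⟨k, hk⟩ := ZMod.intCast_surjective x.down
      exact ⟨ULift.up k, ULift.ext _ _ hk⟩)
  have hE := hS.map_of_exact C
  have hf : C.map S.f = n • 𝟙 (C.obj Z) := by
    show C.map (n • 𝟙 Z) = _
    rw [Functor.map_nsmul, C.map_id]
  refine subsingleton_of_forall_eq 0 fun x => ?_
  have h0 : n • ((Ext.mk₀ (C.map S.g)).comp x (zero_add (q + 1))) = 0 := by
    rw [← mk₀_nsmul_id_comp, ← hf, Ext.mk₀_comp_mk₀_assoc, ← Functor.map_comp, S.zero, Functor.map_zero,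
      Ext.mk₀_zero, Ext.zero_comp]
  have h1 : (Ext.mk₀ (C.map S.g)).comp x (zero_add (q + 1)) = 0 :=
    Kummer.eq_zero_of_nsmul_eq_zero n _ q hK hQ _ h0
  obtain ⟨z, hz⟩ := Ext.contravariant_sequence_exact₃ hE _ x h1 (by omega : 1 + q = q + 1)
  obtain ⟨w, rfl⟩ := nsmul_surjective n _ q hK hQ z
  have key : ∀ t : Abelian.Ext.{u + 1} (S.map C).X₁ A q,
      hE.extClass.comp ((Ext.mk₀ (S.map C).f).comp t (zero_add q)) (by omega : 1 + q = q + 1) = 0 := fun t => by
    rw [← Ext.comp_assoc _ _ _ (add_zero 1) (zero_add q) (by omega), hE.extClass_comp, Ext.zero_comp]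
  refine hz.symm.trans (Eq.trans (congrArg (fun t => hE.extClass.comp t (by omega : 1 + q = q + 1)) ?_) (key w))
  refine (mk₀_nsmul_id_comp w n).symm.trans ?_
  exact congrArg (fun f => (Ext.mk₀ f).comp w (zero_add q)) hf.symm

section split

variable {E : Type u} [Field E] {M : Type u} [Field M] [Algebra E M] [FiniteDimensional E M] [IsGalois E M]
  {j : M →ₐ[E] SeparableClosure E} {ℓ : ℕ} [hℓ : Fact ℓ.Prime]

open Groth.Agent.CdField in
/-- Vanishing for sheaves split by an `ℓ`-extension from that of the constant sheaf. -/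
theorem subsingleton_ext_of_split (A : EtCoh.Ab (Spec (CommRingCat.of E))) (q : ℕ)
    (hq : Subsingleton (Abelian.Ext.{u + 1} (EtCoh.const (Spec (CommRingCat.of E)) (ZMod ℓ)) A q))
    (hM : IsPGroup ℓ (M ≃ₐ[E] M)) :
    ∀ (n : ℕ) (G : EtCoh.Ab (Spec (CommRingCat.of E))), Dix.IsPrimaryTorsion ℓ G →
      Finite ((EtCoh.stalk (SepLimit.σ E)).obj G) → Nat.card ((EtCoh.stalk (SepLimit.σ E)).obj G) = n →
      Split G M j → Subsingleton (Abelian.Ext.{u + 1} G A q) := by
  intro n
  induction n using Nat.strong_induction_on with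
  | _ n ih =>
    intro G hG hfin hn hs
    rcases subsingleton_or_nontrivial ((EtCoh.stalk (SepLimit.σ E)).obj G) with h | h
    · exact subsingleton_of_forall_eq 0 fun x => by
        rw [← Ext.mk₀_id_comp x, (isZero_of_σ G h).eq_of_src (𝟙 G) 0, Ext.mk₀_zero, Ext.zero_comp]
    · obtain ⟨g, p, ho, hg⟩ := hs.exists_section hM hG
      obtain ⟨hmono, z, hz⟩ := mono_constMap g hg p ho
      let T := ShortComplex.mk (constMap g hg) (cokernel.π (constMap g hg)) (cokernel.condition _)
      have hT : T.ShortExact := ShortComplex.ShortExact.mk'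
        (ShortComplex.exact_of_g_is_cokernel _ (cokernelIsCokernel _)) hmono (inferInstanceAs (Epi (cokernel.π _)))
      have hsurj : Function.Surjective ((EtCoh.stalk (SepLimit.σ E)).map (cokernel.π (constMap g hg))) :=
        (AddCommGrpCat.epi_iff_surjective _).1 inferInstance
      have hfin' : Finite ((EtCoh.stalk (SepLimit.σ E)).obj (cokernel (constMap g hg))) := Finite.of_surjective _ hsurj
      have h3 : Subsingleton (Abelian.Ext.{u + 1} T.X₃ A q) := by
        refine ih _ ?_ _ (Supp.isPrimaryTorsion_of_epi ℓ (cokernel.π _) hG) hfin' rfl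
          (hs.of_epi G M j (cokernel.π _))
        rw [← hn]
        haveI := Fintype.ofFinite ((EtCoh.stalk (SepLimit.σ E)).obj G)
        haveI := Fintype.ofFinite ((EtCoh.stalk (SepLimit.σ E)).obj (cokernel (constMap g hg)))
        rw [Nat.card_eq_fintype_card, Nat.card_eq_fintype_card]
        refine Fintype.card_lt_of_surjective_not_injective _ hsurj fun hinj => hz (hinj ?_)
        rw [← ConcreteCategory.comp_apply, ← Functor.map_comp, cokernel.condition, Functor.map_zero, map_zero]
        rfl
      refine subsingleton_of_forall_eq 0 fun x => ?_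
      obtain ⟨y, hy⟩ := Ext.contravariant_sequence_exact₂ hT A (show Abelian.Ext T.X₂ A q from x) (hq.elim _ _)
      rw [← hy, h3.elim y 0, Ext.comp_zero]

end split

/-- A class killed on a finite étale cover of degree `d` is killed by `d`. -/
theorem nsmul_eq_zero_of_pull {X' X : Scheme.{u}} (π : X' ⟶ X) [IsFinite π] [AlgebraicGeometry.Etale π]
    (d : ℕ) (hd : ∀ x : X, π.finrank x = d) (G A : EtCoh.Ab X) (q : ℕ)
    (h : Subsingleton (Abelian.Ext.{u + 1} ((EtCoh.pull π).obj G) ((EtCoh.pull π).obj A) q))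
    (x : Abelian.Ext.{u + 1} G A q) : d • x = 0 := by
  haveI : EtShriek.JCont π := EtFound.jCont π
  haveI := EtFound.push_preservesFiniteColimits π
  haveI := EtFound.push_preservesFiniteLimits π
  haveI : (EtCoh.push π).Additive := (EtCoh.pullPushAdj π).right_adjoint_additive
  haveI := EtFound.pull_preservesFiniteLimits π
  haveI : (EtCoh.pull π).PreservesMonomorphisms := inferInstance
  have hs : Subsingleton (Abelian.Ext.{u + 1} G ((EtCoh.push π).obj ((EtCoh.pull π).obj A)) q) :=
    haveI := h
    (EtMVLib.adjExtMap_bijective (EtCoh.pullPushAdj π) G ((EtCoh.pull π).obj A) q).2.subsingleton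
  rw [← Kummer.comp_mk₀_nsmul_id, ← EtShriekLib.unit_trace π d hd A, ← Ext.mk₀_comp_mk₀,
    ← Ext.comp_assoc_of_second_deg_zero,
    hs.elim (x.comp (Ext.mk₀ ((EtCoh.pullPushAdj π).unit.app A)) (add_zero q)) 0, Ext.zero_comp]

section field

open Groth.Agent.CdField

variable {K : Type u} [Field K]

theorem isFinite_fieldMap (K E : Type u) [Field K] [Field E] [Algebra K E] [FiniteDimensional K E] :
    IsFinite (GalDual.fieldMap K E) := by
  rw [GalDual.fieldMap, IsFinite.SpecMap_iff, CommRingCat.hom_ofHom, RingHom.finite_algebraMap]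
  infer_instance

theorem etale_fieldMap (K E : Type u) [Field K] [Field E] [Algebra K E] [FiniteDimensional K E]
    [Algebra.IsSeparable K E] : AlgebraicGeometry.Etale (GalDual.fieldMap K E) := by
  infer_instance

theorem finrank_fieldMap (K E : Type u) [Field K] [Field E] [Algebra K E] [FiniteDimensional K E]
    (x : ↥(Spec (CommRingCat.of K))) : (GalDual.fieldMap K E).finrank x = Module.finrank K E := by
  show (Spec.map (CommRingCat.ofHom (algebraMap K E))).finrank x = _
  rw [Scheme.Hom.finrank_SpecMap_algebraMap, Module.rankAtStalk_eq_finrank_of_free]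
  rfl

section primary

variable {ℓ : ℕ} [hℓ : Fact ℓ.Prime]

/-- `Ext` out of the pullback to a subfield over which the splitting extension is an `ℓ`-extension. -/
theorem subsingleton_ext_pull (A : EtCoh.Ab (Spec (CommRingCat.of K))) (q : ℕ) (G : EtCoh.Ab (Spec (CommRingCat.of K))) (hG : Dix.IsPrimaryTorsion ℓ G)
    [hfin : Finite ((EtCoh.stalk (SepLimit.σ K)).obj G)]
    (N : Type u) [Field N] [Algebra K N] [FiniteDimensional K N] [Algebra.IsSeparable K N]
    (j : N →ₐ[K] SeparableClosure K)
    (hsurj : Function.Surjective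
      ((Scheme.pointSmallEtale (SepLimit.σ K)).toPresheafFiber (SepLimit.obj (K := K) N) (SepLimit.pt j) G.obj))
    (E : Type u) [Field E] [Algebra K E] [Algebra E N] [IsScalarTower K E N]
    [FiniteDimensional E N] [IsGalois E N] (hP : IsPGroup ℓ (N ≃ₐ[E] N))
    (hE : Subsingleton (Abelian.Ext.{u + 1} (EtCoh.const (Spec (CommRingCat.of E)) (ZMod ℓ))
      ((EtCoh.pull (GalDual.fieldMap K E)).obj A) q)) :
    Subsingleton (Abelian.Ext.{u + 1} ((EtCoh.pull (GalDual.fieldMap K E)).obj G)
      ((EtCoh.pull (GalDual.fieldMap K E)).obj A) q) := by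
  haveI : Finite (G.obj.obj (op (SepLimit.obj (K := K) N))) :=
    @Finite.of_injective _ _ hfin _ (SepLimit.germ_injective G _ (SepLimit.pt j))
  letI : Algebra E (SeparableClosure K) := (j.comp (IsScalarTower.toAlgHom K E N)).toRingHom.toAlgebra
  haveI : IsScalarTower K E (SeparableClosure K) :=
    IsScalarTower.of_algebraMap_eq fun r => ((j.comp (IsScalarTower.toAlgHom K E N)).commutes r).symm
  haveI : Algebra.IsSeparable E (SeparableClosure K) :=
    Algebra.isSeparable_tower_top_of_isSeparable K E (SeparableClosure K)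
  let ι : SeparableClosure K →ₐ[E] SeparableClosure E := IsSepClosed.lift
  let j' : N →ₐ[E] SeparableClosure E :=
    { toRingHom := ι.toRingHom.comp j.toRingHom, commutes' := fun e => ι.commutes e }
  let π := GalDual.fieldMap K E
  haveI := EtFound.pull_preservesFiniteLimits π
  let l : Spec (CommRingCat.of (SeparableClosure E)) ⟶ Spec (CommRingCat.of (SeparableClosure K)) :=
    Spec.map (CommRingCat.ofHom ι.toRingHom)
  have hl : l ≫ SepLimit.σ K = SepLimit.σ E ≫ π := by
    change Spec.map _ ≫ Spec.map _ = Spec.map _ ≫ Spec.map _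
    rw [← Spec.map_comp, ← Spec.map_comp]
    refine congrArg Spec.map (CommRingCat.hom_ext (RingHom.ext fun r => ?_))
    show ι (algebraMap K (SeparableClosure K) r) = algebraMap E (SeparableClosure E) (algebraMap K E r)
    rw [IsScalarTower.algebraMap_apply K E (SeparableClosure K), ι.commutes]
  let V := SepLimit.obj (K := K) N
  let w : SepLimit.obj (K := E) N ⟶ (EtCoh.bc π).obj V :=
    MorphismProperty.Over.homMk
      (pullback.lift (𝟙 (Spec (CommRingCat.of N))) (Spec.map (CommRingCat.ofHom (algebraMap E N))) (by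
        change 𝟙 _ ≫ Spec.map _ = Spec.map _ ≫ Spec.map _
        rw [Category.id_comp, ← Spec.map_comp]
        exact congrArg Spec.map (CommRingCat.hom_ext (IsScalarTower.algebraMap_eq K E N))))
      (pullback.lift_snd _ _ _)
  have hsplit : Split ((EtCoh.pull π).obj G) N j' := by
    intro s
    have ht : @Eq (Spec (CommRingCat.of (SeparableClosure E)) ⟶ V.left)
        (bcFiberEquiv π (SepLimit.σ E) V
          ((Scheme.pointSmallEtale (SepLimit.σ E)).fiber.map w (SepLimit.pt j'))).left
        (l ≫ ((SepLimit.pt j).left : Spec (CommRingCat.of (SeparableClosure K)) ⟶ V.left)) := by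
      show (Spec.map (CommRingCat.ofHom j'.toRingHom) ≫
        pullback.lift (𝟙 (Spec (CommRingCat.of N))) (Spec.map (CommRingCat.ofHom (algebraMap E N))) _) ≫
          pullback.fst _ _ = l ≫ Spec.map (CommRingCat.ofHom j.toRingHom)
      rw [Category.assoc, pullback.lift_fst, Category.comp_id, ← Spec.map_comp]
      rfl
    obtain ⟨a, ha⟩ := exists_germ_pull (SepLimit.σ K) l π (SepLimit.σ E) hl G V (SepLimit.pt j) hsurj _ ht s
    refine ⟨((EtCoh.pull π).obj G).obj.map w.op (((EtCoh.pullPushAdj π).unit.app G).hom.app (op V) a), ?_⟩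
    exact ((Scheme.pointSmallEtale (SepLimit.σ E)).toPresheafFiber_w_apply w _ _ _).trans ha
  haveI : Finite ((EtCoh.stalk (SepLimit.σ E)).obj ((EtCoh.pull π).obj G)) := by
    refine Finite.of_surjective
      (fun a : G.obj.obj (op V) => (Scheme.pointSmallEtale (SepLimit.σ E)).toPresheafFiber _
        ((Scheme.pointSmallEtale (SepLimit.σ E)).fiber.map w (SepLimit.pt j')) ((EtCoh.pull π).obj G).obj
        (((EtCoh.pullPushAdj π).unit.app G).hom.app (op V) a)) fun s => ?_
    refine exists_germ_pull (SepLimit.σ K) l π (SepLimit.σ E) hl G V (SepLimit.pt j) hsurj _ ?_ s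
    show (Spec.map (CommRingCat.ofHom j'.toRingHom) ≫
      pullback.lift (𝟙 (Spec (CommRingCat.of N))) (Spec.map (CommRingCat.ofHom (algebraMap E N))) _) ≫
        pullback.fst _ _ = l ≫ Spec.map (CommRingCat.ofHom j.toRingHom)
    rw [Category.assoc, pullback.lift_fst, Category.comp_id, ← Spec.map_comp]
    rfl
  exact subsingleton_ext_of_split (M := N) (j := j') _ q hE hP _ _ (Supp.isPrimaryTorsion_pull ℓ π hG)
    inferInstance rfl hsplit

/-- `Ext` out of a primary sheaf with finite stalk. -/
theorem subsingleton_ext_primary (A : EtCoh.Ab (Spec (CommRingCat.of K))) (q : ℕ)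
    (h : ∀ (E : Type u) [Field E] [Algebra K E] [FiniteDimensional K E] [Algebra.IsSeparable K E],
      Subsingleton (Abelian.Ext.{u + 1} (EtCoh.const (Spec (CommRingCat.of E)) (ZMod ℓ))
        ((EtCoh.pull (GalDual.fieldMap K E)).obj A) q))
    (G : EtCoh.Ab (Spec (CommRingCat.of K))) (hG : Dix.IsPrimaryTorsion ℓ G)
    (hfin : Finite ((EtCoh.stalk (SepLimit.σ K)).obj G)) :
    Subsingleton (Abelian.Ext.{u + 1} G A q) := by
  classical
  let Pσ := Scheme.pointSmallEtale (SepLimit.σ K)
  haveI := Fintype.ofFinite ((EtCoh.stalk (SepLimit.σ K)).obj G)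
  choose kt hkt using (Supp.isPrimaryTorsion_iff_stalks ℓ G).1 hG _ (SepLimit.σ K)
  let k := Finset.univ.sup kt
  have hexp : ℓ ^ k • 𝟙 G = 0 := eq_zero_of_σ _ fun t => (stalk_map_nsmul G _ t).trans
    (TorsionClass.pow_smul_eq_zero_of_le ℓ (hkt t) (Finset.le_sup (Finset.mem_univ t)))
  choose Et iF iA iD iS jt _ at' hat using fun t : (EtCoh.stalk (SepLimit.σ K)).obj G =>
    SepLimit.exists_descent G ⊤ t (fun γ hγ W z z' a ha hz' => by
      have hγ1 : γ = 1 := AlgEquiv.ext fun x => hγ ⟨x, IntermediateField.mem_top⟩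
      subst hγ1
      have : z' = z := CategoryTheory.Over.OverMorphism.ext (hz'.trans (by
        rw [show CommRingCat.ofHom (1 : SeparableClosure K ≃ₐ[K] SeparableClosure K).toAlgHom.toRingHom =
          𝟙 (CommRingCat.of (SeparableClosure K)) from rfl, Spec.map_id]
        exact Category.id_comp _))
      rw [this, ha])
  let S : Set (SeparableClosure K) :=
    ⋃ t, (haveI := iD t; Set.range fun i => jt t (Module.finBasis K (Et t) i))
  haveI : Finite S := (Set.finite_iUnion fun t => Set.finite_range _).to_subtype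
  let N := FiniteGaloisIntermediateField.adjoin K S
  have hmem : ∀ t x, jt t x ∈ N.toIntermediateField.toSubalgebra := fun t x => by
    haveI := iD t
    rw [← (Module.finBasis K (Et t)).sum_repr x, map_sum]
    refine sum_mem fun i _ => ?_
    rw [map_smul]
    exact Subalgebra.smul_mem _ (FiniteGaloisIntermediateField.subset_adjoin K S
      (Set.mem_iUnion.2 ⟨t, i, rfl⟩)) _
  let j : N →ₐ[K] SeparableClosure K := N.toIntermediateField.val
  have hsurj : Function.Surjective (Pσ.toPresheafFiber (SepLimit.obj (K := K) N) (SepLimit.pt j) G.obj) := by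
    intro t
    haveI := iD t
    haveI := iS t
    let χ : Et t →ₐ[K] N := (jt t).codRestrict _ (hmem t)
    refine ⟨G.obj.map (SepLimit.map χ).op (at' t), ?_⟩
    refine (Pσ.toPresheafFiber_w_apply (SepLimit.map χ) _ G.obj _).trans ?_
    rw [SepLimit.map_pt]
    exact hat t
  haveI : Finite (G.obj.obj (op (SepLimit.obj (K := K) N))) :=
    @Finite.of_injective _ _ hfin _ (SepLimit.germ_injective G _ (SepLimit.pt j))
  haveI : Normal K N := IsGalois.to_normal
  let P : Sylow ℓ (N ≃ₐ[K] N) := default
  let E := IntermediateField.fixedField (P : Subgroup (N ≃ₐ[K] N))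
  haveI : IsGalois E N := inferInstance
  have hP : IsPGroup ℓ (N ≃ₐ[E] N) :=
    P.isPGroup'.of_equiv ((MulEquiv.subgroupCongr
      (IntermediateField.fixingSubgroup_fixedField (P : Subgroup (N ≃ₐ[K] N))).symm).trans
        (IntermediateField.fixingSubgroupEquiv E))
  let π := GalDual.fieldMap K E
  haveI := EtFound.pull_preservesFiniteLimits π
  haveI hs := subsingleton_ext_pull A q G hG N j hsurj E hP (h E)
  refine subsingleton_of_forall_eq 0 fun x => ?_
  haveI : IsFinite π := isFinite_fieldMap K E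
  haveI : AlgebraicGeometry.Etale π := etale_fieldMap K E
  have hd := nsmul_eq_zero_of_pull π (Module.finrank K E) (finrank_fieldMap K E) G A q hs x
  have h1 : ℓ ^ k • x = 0 := by
    rw [← mk₀_nsmul_id_comp, hexp, Abelian.Ext.mk₀_zero, Abelian.Ext.zero_comp]
  have hindex : Module.finrank K E = (P : Subgroup (N ≃ₐ[K] N)).index := by
    rw [IntermediateField.finrank_eq_fixingSubgroup_index, IntermediateField.fixingSubgroup_fixedField]
  refine GalDual.eq_zero_of_coprime_nsmul h1 hd ?_
  rw [hindex]
  exact (hℓ.out.coprime_iff_not_dvd.2 P.not_dvd_index).pow_left k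

end primary

/-- `Ext` out of a sheaf with finite stalk. -/
theorem subsingleton_ext_finite (A : EtCoh.Ab (Spec (CommRingCat.of K))) (q : ℕ)
    (h : ∀ (ℓ : ℕ), ℓ.Prime → ∀ (E : Type u) [Field E] [Algebra K E] [FiniteDimensional K E]
      [Algebra.IsSeparable K E], Subsingleton (Abelian.Ext.{u + 1} (EtCoh.const (Spec (CommRingCat.of E)) (ZMod ℓ))
        ((EtCoh.pull (GalDual.fieldMap K E)).obj A) q))
    (G : EtCoh.Ab (Spec (CommRingCat.of K))) (hfin : Finite ((EtCoh.stalk (SepLimit.σ K)).obj G)) :
    Subsingleton (Abelian.Ext.{u + 1} G A q) := by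
  suffices hsuf : ∀ (n : ℕ), 0 < n → ∀ G : EtCoh.Ab (Spec (CommRingCat.of K)),
      Finite ((EtCoh.stalk (SepLimit.σ K)).obj G) → n • 𝟙 G = 0 → Subsingleton (Abelian.Ext.{u + 1} G A q) by
    haveI := hfin
    refine hsuf (Nat.card ((EtCoh.stalk (SepLimit.σ K)).obj G)) Nat.card_pos G hfin
      (eq_zero_of_σ _ fun t => (stalk_map_nsmul G _ t).trans card_nsmul_eq_zero')
  intro n
  induction n using Nat.strong_induction_on with
  | _ n ih =>
    intro hn G hfin hG
    rcases Nat.eq_or_lt_of_le hn with h1 | h1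
    · have h0 : 𝟙 G = 0 := by
        rw [← one_nsmul (𝟙 G), show (1 : ℕ) = n from h1]
        exact hG
      exact subsingleton_of_forall_eq 0 fun x => by
        rw [← Ext.mk₀_id_comp x, h0, Ext.mk₀_zero, Ext.zero_comp]
    obtain ⟨p, hp, m, rfl⟩ := Nat.exists_prime_and_dvd (n := n) (Nat.ne_of_gt h1)
    haveI := Fact.mk hp
    let f : G ⟶ G := p • 𝟙 G
    let T := ShortComplex.mk (kernel.ι f) (Abelian.factorThruImage f)
      (by rw [← cancel_mono (Abelian.image.ι f), Category.assoc, Abelian.image.fac, kernel.condition, zero_comp])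
    have hT : T.ShortExact :=
      { exact := ShortComplex.exact_of_f_is_kernel _ (KernelFork.IsLimit.ofι' _ _ fun g hg =>
          ⟨kernel.lift f g (by rw [← Abelian.image.fac f, ← Category.assoc, hg, zero_comp]),
            kernel.lift_ι ..⟩)
        mono_f := inferInstanceAs (Mono (kernel.ι f))
        epi_g := inferInstanceAs (Epi (Abelian.factorThruImage f)) }
    haveI := hfin
    have hk : p • 𝟙 T.X₁ = 0 := by
      show p • 𝟙 (kernel f) = 0
      rw [← cancel_mono (kernel.ι f), zero_comp]
      exact (Kummer.nsmul_id_comp _ p).trans ((Kummer.comp_nsmul_id _ p).symm.trans (kernel.condition f))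
    have hi : m • 𝟙 T.X₃ = 0 := by
      show m • 𝟙 (Abelian.image f) = 0
      rw [← cancel_epi (Abelian.factorThruImage f), ← cancel_mono (Abelian.image.ι f), comp_zero, zero_comp,
        Kummer.comp_nsmul_id, Preadditive.nsmul_comp, Abelian.image.fac]
      show m • (p • 𝟙 G) = 0
      rw [← mul_nsmul, hG]
    have hm : 0 < m := Nat.pos_of_ne_zero fun h0 => by simp [h0] at h1
    have h1' : Subsingleton (Abelian.Ext.{u + 1} T.X₁ A q) :=
      subsingleton_ext_primary A q (fun E _ _ _ _ => h p hp E) _ (Kummer.isPrimaryTorsion_of_nsmul_id hk)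
        (Finite.of_injective _ ((AddCommGrpCat.mono_iff_injective ((EtCoh.stalk (SepLimit.σ K)).map T.f)).1
          (haveI := hT.mono_f; inferInstance)))
    have h3' : Subsingleton (Abelian.Ext.{u + 1} T.X₃ A q) :=
      ih m (lt_mul_of_one_lt_left hm hp.one_lt) hm _
        (Finite.of_surjective _ ((AddCommGrpCat.epi_iff_surjective ((EtCoh.stalk (SepLimit.σ K)).map T.g)).1
          (haveI := hT.epi_g; inferInstance))) hi
    refine subsingleton_of_forall_eq 0 fun x => ?_
    obtain ⟨y, hy⟩ := Ext.contravariant_sequence_exact₂ hT A (show Abelian.Ext T.X₂ A q from x) (h1'.elim _ _)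
    rw [← hy, h3'.elim y 0, Ext.comp_zero]

end field

end Groth.Agent.DixBrauer.FieldExt
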