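import Groth.Agent.DixBrauer.CurveExt
import Groth.Agent.DixBrauer.FieldExt
import Groth.Agent.DixBrauer.ExtCompact
import Groth.Agent.EtFound.Strata

/-!
Vanishing of `Ext^r(F, G_m)`, `r ≥ 4`, on a regular curve of residue characteristic zero.
-/

set_option autoImplicit false
set_option linter.style.haveILetI false
set_option backward.isDefEq.respectTransparency.types false

universe u

open CategoryTheory CategoryTheory.Limits CategoryTheory.Abelian AlgebraicGeometry Opposite

noncomputable section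

namespace Groth.Agent.DixBrauer.CurveExtVanish

open CdLib

/-- Over a field of `cd ≤ d`, `Ext` out of finite sheaves vanishes in degrees `≥ d + 2`. -/
theorem subsingleton_ext_field (K : Type u) [Field K] {d : ℕ}
    (hcd : EtCoh.CohDimLE (Spec (CommRingCat.of K)) d)
    (G A : EtCoh.Ab (Spec (CommRingCat.of K)))
    (hfin : Finite ((EtCoh.stalk (CdLib.SepLimit.σ K)).obj G)) (q : ℕ) (hq : d + 1 ≤ q) :
    Subsingleton (Abelian.Ext.{u + 1} G A (q + 1)) := by
  refine FieldExt.subsingleton_ext_finite A (q + 1) (fun ℓ hℓ E _ _ _ _ => ?_) G hfin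
  haveI := Fact.mk hℓ
  haveI : NeZero ℓ := ⟨hℓ.ne_zero⟩
  let B := (EtCoh.pull (GalDual.fieldMap K E)).obj A
  have hE : Dix.CohDimLEAt (Spec (CommRingCat.of E)) ℓ d :=
    CdField.cohDimLEAt_of_isAlgebraic K E (CdField.cohDimLEAt_of_cohDimLE hℓ.pos hcd)
  refine FieldExt.subsingleton_ext_const_zmod B ℓ q ?_ ?_
  · refine hE _ (Kummer.isPrimaryTorsion_of_nsmul_id ?_) _ (by omega)
    rw [← cancel_mono (kernel.ι (ℓ • 𝟙 B)), zero_comp]
    exact (Kummer.nsmul_id_comp _ ℓ).trans ((Kummer.comp_nsmul_id _ ℓ).symm.trans (kernel.condition _))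
  · refine hE _ (Kummer.isPrimaryTorsion_of_nsmul_id ?_) _ (by omega)
    rw [← cancel_epi (cokernel.π (ℓ • 𝟙 B)), comp_zero]
    exact (Kummer.comp_nsmul_id _ ℓ).trans ((Kummer.nsmul_id_comp _ ℓ).symm.trans (cokernel.condition _))

variable (X : Scheme.{u}) [AlgebraicGeometry.IsNoetherian X] [IsIntegral X]
  (hdim : ∀ y : X, ringKrullDim (X.presheaf.stalk y) ≤ 1)
  (hnorm : ∀ y : X, IsIntegrallyClosed (X.presheaf.stalk y))

omit [AlgebraicGeometry.IsNoetherian X] [IsIntegral X] in
theorem finite_stalk_point {F : EtCoh.Ab X} (hF : EtPBC.IsConstructible F) (x : X) :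
    Finite ((EtCoh.stalk (CdLib.SepLimit.σ (X.residueField x))).obj
      ((EtCoh.pull (X.fromSpecResidueField x)).obj F)) :=
  EtFound.finite_stalk_of_isConstructible (EtFound.isConstructible_pull _ hF) _

include hdim hnorm in
/-- `Ext^r(F, G_m) = 0` for `r ≥ 4`. -/
theorem subsingleton_ext_Gm (hchar : ∀ y : X, CharZero (X.residueField y))
    (hgen : EtCoh.CohDimLE (Spec (X.residueField (genericPoint X))) 2)
    (hclosed : ∀ y : X, IsClosed ({y} : Set X) → EtCoh.CohDimLE (Spec (X.residueField y)) 1)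
    (F : EtCoh.Ab X) (hF : EtPBC.IsConstructible F) (r : ℕ) (hr : 4 ≤ r) :
    Subsingleton (Abelian.Ext.{u + 1} F (EtCoh.Gm X) r) := by
  obtain ⟨s, rfl⟩ : ∃ s, r = s + 4 := ⟨r - 4, by omega⟩
  have hd := DivSeq.efact_of_regular (CurveCd.isRegular_stalk X hdim hnorm)
  have hS := DivSeq.shortExact_seq hd (DivSeq.maxFamily_generic (X := X))
  let S := DivSeq.seq hd (DivSeq.maxFamily_generic (X := X))
  have h2 : Subsingleton (Abelian.Ext.{u + 1} F S.X₂ (s + 4)) := by
    let η : PUnit.{u + 2} → X := fun _ => genericPoint X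
    let ι := CdLib.PointPush.ι (genericPoint X)
    haveI : PreservesFiniteLimits (EtCoh.pull ι) := EtFound.pull_preservesFiniteLimits ι
    obtain ⟨e⟩ := CurveExt.nonempty_Jm_iso X
    have h : Subsingleton (Abelian.Ext.{u + 1} F ((EtCoh.push ι).obj (EtCoh.Gm _)) (s + 4)) :=
      Leray.subsingleton_ext_right (EtCoh.pullPushAdj ι) F (s + 4) _
        (subsingleton_ext_field (X.residueField (genericPoint X)) hgen _ _
          (finite_stalk_point X hF _) (s + 3) (by omega))
        (fun a b _ => PointExt.subsingleton_ext_of_isZero_right F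
          (PointRpush.isZero_rpush_Gm X hdim hnorm hchar b) a)
    have hp1 : Sigma.ι (DivSeq.Jm η) PUnit.unit ≫ CoprodProd.proj (DivSeq.Jm η) PUnit.unit = 𝟙 _ :=
      CoprodProd.ι_proj_self _ _
    let p : DivSeq.Jm η PUnit.unit ≅ ∐ DivSeq.Jm η :=
      ⟨Sigma.ι (DivSeq.Jm η) PUnit.unit, CoprodProd.proj (DivSeq.Jm η) PUnit.unit, hp1,
        Sigma.hom_ext _ _ fun i => by
          cases i
          rw [← Category.assoc, hp1, Category.id_comp, Category.comp_id]⟩
    exact ExtVanish.ext_of_iso (e.symm ≪≫ p) F (s + 4) h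
  have h3 : Subsingleton (Abelian.Ext.{u + 1} F S.X₃ (s + 3)) := by
    refine ExtCompact.subsingleton_ext_coprod hF _ (s + 3) fun k => ?_
    obtain ⟨e⟩ := CurveExt.nonempty_ext_push_equiv X k.down.1
      (CurveCd.isClosed_singleton X hdim k.down.2) F
      (EtCoh.const (Spec (X.residueField k.down.1)) ℤ) (s + 3)
    haveI := subsingleton_ext_field (X.residueField k.down.1)
      (hclosed k.down.1 (CurveCd.isClosed_singleton X hdim k.down.2))
      ((EtCoh.pull (X.fromSpecResidueField k.down.1)).obj F)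
      (EtCoh.const (Spec (X.residueField k.down.1)) ℤ) (finite_stalk_point X hF _) (s + 2) (by omega)
    exact e.toEquiv.subsingleton
  refine subsingleton_of_forall_eq 0 fun x => ?_
  obtain ⟨y, hy⟩ := Ext.covariant_sequence_exact₁ F hS x (h2.elim _ _) (rfl : (s + 3) + 1 = s + 4)
  rw [← hy, h3.elim y 0, Ext.zero_comp]

end Groth.Agent.DixBrauer.CurveExtVanish
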