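import Groth.Agent.EtCore73.ConstNormal
import Groth.Agent.EtFound.AbRecollement
import Groth.Agent.EtFound.PushImm
import Groth.Agent.EtFound.NoethConstr
import Groth.Agent.EtFound.Presentation
import Groth.Agent.EtFound.ConstStalk
import Groth.Agent.CdLib.Supp
import Groth.Agent.EtFound.Stalk
import Mathlib.AlgebraicGeometry.IdealSheaf.Subscheme

/-!
Embedding a sheaf, constant on a finite cover over an open, into a constant sheaf and a sheaf on the complement.
-/

set_option autoImplicit false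
set_option linter.style.haveILetI false
set_option backward.isDefEq.respectTransparency.types false

universe u

open CategoryTheory CategoryTheory.Limits AlgebraicGeometry Opposite

noncomputable section

namespace Groth.Agent.DixBrauer.FiniteEmbed

open EtFound CdLib

theorem nsmul_id_map {C D : Type*} [Category C] [Category D] [Preadditive C] [Preadditive D] (F : C ⥤ D)
    [F.Additive] {A : C} {m : ℕ} (h : m • 𝟙 A = 0) : m • 𝟙 (F.obj A) = 0 := by
  rw [← F.map_id, ← Functor.map_nsmul, h, Functor.map_zero]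

theorem nsmul_id_of_iso {C : Type*} [Category C] [Preadditive C] {A B : C} (e : A ≅ B) {m : ℕ}
    (h : m • 𝟙 A = 0) : m • 𝟙 B = 0 := by
  rw [← e.inv_hom_id, ← Preadditive.comp_nsmul, ← Category.id_comp e.hom, ← Preadditive.nsmul_comp, h,
    zero_comp, comp_zero]

/-- A constant sheaf killed by `m` on a nonempty scheme has value killed by `m`. -/
theorem nsmul_eq_zero_of_const {Y : Scheme.{u}} [Nonempty Y] (M₀ : Type) [AddCommGroup M₀] {m : ℕ}
    (h : EtCoh.KilledBy m (EtCoh.const Y M₀)) (x : M₀) : m • x = 0 := by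
  obtain ⟨Ω, _, _, ξ, z, -⟩ := exists_algClosed_point (EtCoh.top Y) (Classical.arbitrary Y)
  let M : AddCommGrpCat.{u + 1} := AddCommGrpCat.of (ULift.{u + 1} M₀)
  let s := ((toSheafify Y.smallEtaleTopology ((Functor.const Y.Etaleᵒᵖ).obj M)).app (op (EtCoh.top Y))).hom
  have hb := toSheafify_const_germ_bijective (ξ := ξ) AddCommGrpCat.{u + 1} M (EtCoh.top Y) z
  have h0 : s (m • ULift.up x) = s 0 := by
    rw [map_nsmul, map_zero]
    exact h _ _
  have h1 := hb.1 (congrArg _ h0)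
  exact congrArg ULift.down h1

variable {U Un : Scheme.{u}}

/-- The map of a sheaf, constant on an open, into the constant sheaf of a normal integral scheme. -/
theorem exists_map_to_const [IsIntegral Un] (hnorm : ∀ y : Un, IsIntegrallyClosed (Un.presheaf.stalk y))
    (W : Un.Opens) [Nonempty (W : Scheme.{u})] (N : EtCoh.Ab Un) (M₀ : Type) [AddCommGroup M₀]
    (e : (EtCoh.pull W.ι).obj N ≅ EtCoh.const (W : Scheme.{u}) M₀) :
    ∃ u : N ⟶ EtCoh.const Un M₀, IsIso ((EtCoh.pull W.ι).map u) := by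
  let j := W.ι
  let C := EtCoh.const Un M₀
  let adj := EtCoh.pullPushAdj j
  haveI hC : IsIso (adj.unit.app C) := EtCore73.isIso_unit_const_open hnorm _ j
  haveI : ∀ G, IsIso (adj.counit.app G) := fun G => counit_isIso j (liftable_of_isOpenImmersion j) G
  have hP : ∀ G, IsIso ((EtCoh.pull j).map (adj.unit.app G)) := fun G =>
    @IsIso.of_isIso_fac_right _ _ _ _ _ _ _ _ inferInstance (IsIso.id _) (adj.left_triangle_components G)
  let f := (EtCoh.push j).map (e.hom ≫ (EtCore.pullConst j M₀).inv)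
  refine ⟨adj.unit.app N ≫ f ≫ inv (adj.unit.app C), ?_⟩
  rw [Functor.map_comp, Functor.map_comp]
  haveI := hP N
  infer_instance

/-- The stalks of the adjoint are injective over the open. -/
theorem injective_stalk_adjoint (π : Un ⟶ U) (V : U.Opens) {F : EtCoh.Ab U} {C : EtCoh.Ab Un}
    (u : (EtCoh.pull π).obj F ⟶ C) [IsIso ((EtCoh.pull (π ⁻¹ᵁ V).ι).map u)] [Surjective π]
    {k : Type u} [Field k] [IsSepClosed k] (ξ : Spec (CommRingCat.of k) ⟶ U)
    (hξ : ξ.base (default : Spec (CommRingCat.of k)) ∈ V) :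
    Function.Injective ((EtCoh.stalk ξ).map ((EtCoh.pullPushAdj π).homEquiv F C u)) := by
  let a := (EtCoh.pullPushAdj π).homEquiv F C u
  obtain ⟨Ω, _, _, z, e, he⟩ := exists_lift_extension π ξ (π.surjective _)
  have hz : Set.range z.base ⊆ Set.range (π ⁻¹ᵁ V).ι.base := by
    rintro _ ⟨w, rfl⟩
    rw [Scheme.Opens.range_ι]
    show π.base (z.base w) ∈ V
    rw [← Scheme.Hom.comp_apply, ← he, Scheme.Hom.comp_apply, Subsingleton.elim (e.base w) default]
    exact hξ
  let z' := IsOpenImmersion.lift (π ⁻¹ᵁ V).ι z hz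
  have hz' : z' ≫ (π ⁻¹ᵁ V).ι = z := IsOpenImmersion.lift_fac _ _ _
  haveI hu : IsIso ((EtCoh.stalk (z' ≫ (π ⁻¹ᵁ V).ι)).map u) :=
    (NatIso.isIso_map_iff (sheafFiberPullIso (A := AddCommGrpCat.{u + 1}) (π ⁻¹ᵁ V).ι z') u).1
      (inferInstanceAs (IsIso ((EtCoh.stalk z').map ((EtCoh.pull (π ⁻¹ᵁ V).ι).map u))))
  rw [hz'] at hu
  have hcomp : (EtCoh.pull π).map a ≫ (EtCoh.pullPushAdj π).counit.app C = u := by
    exact ((EtCoh.pullPushAdj π).homEquiv_counit _ _ a).symm.trans (Equiv.symm_apply_apply _ u)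
  haveI : Mono ((EtCoh.stalk z).map ((EtCoh.pull π).map a)) := by
    haveI : Mono ((EtCoh.stalk z).map ((EtCoh.pull π).map a) ≫
        (EtCoh.stalk z).map ((EtCoh.pullPushAdj π).counit.app C)) := by
      rw [← Functor.map_comp, hcomp]
      infer_instance
    exact mono_of_mono _ ((EtCoh.stalk z).map ((EtCoh.pullPushAdj π).counit.app C))
  let i := sheafFiberPullIso (A := AddCommGrpCat.{u + 1}) π z
  haveI h2 : Mono ((EtCoh.stalk (z ≫ π)).map a) := by
    haveI : Mono ((EtCoh.stalk (z ≫ π)).map a ≫ i.inv.app _) := by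
      rw [show (EtCoh.stalk (z ≫ π)).map a ≫ i.inv.app _ =
        i.inv.app _ ≫ (EtCoh.stalk z).map ((EtCoh.pull π).map a) from i.inv.naturality a]
      infer_instance
    exact mono_of_mono _ (i.inv.app _)
  rw [← he] at h2
  let s := stalkExtIso AddCommGrpCat.{u + 1} ξ e
  haveI : Mono ((EtCoh.stalk ξ).map a ≫ s.hom.app _) := by
    rw [show (EtCoh.stalk ξ).map a ≫ s.hom.app _ = s.hom.app _ ≫ (EtCoh.stalk (e ≫ ξ)).map a from
      s.hom.naturality a]
    infer_instance
  exact (AddCommGrpCat.mono_iff_injective _).1 (mono_of_mono ((EtCoh.stalk ξ).map a) (s.hom.app _))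

/-- The embedding. -/
theorem exists_embedding [IsLocallyNoetherian U] [IsIntegral Un]
    (hnorm : ∀ y : Un, IsIntegrallyClosed (Un.presheaf.stalk y))
    (F : EtCoh.Ab U) (hF : EtPBC.IsConstructible F) (m : ℕ) (hmF : EtCoh.KilledBy m F) (V : U.Opens)
    (hV : Nonempty (V : Scheme.{u})) (hfin : (V : Set U)ᶜ.Finite) (π : Un ⟶ U) [Surjective π]
    (M₀ : Type) [AddCommGroup M₀] [Finite M₀]
    (hconst : Nonempty ((EtCoh.pull (π ⁻¹ᵁ V).ι).obj ((EtCoh.pull π).obj F) ≅
      EtCoh.const (π ⁻¹ᵁ V : Scheme.{u}) M₀)) :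
    (∀ x : M₀, m • x = 0) ∧
      ∃ (Ff : EtCoh.Ab U), EtPBC.IsConstructible Ff ∧ (EtPBC.supp Ff).Finite ∧
        ∃ ι : F ⟶ (EtCoh.push π).obj (EtCoh.const Un M₀) ⊞ Ff, Mono ι := by
  obtain ⟨e⟩ := hconst
  haveI : Nonempty (π ⁻¹ᵁ V : Scheme.{u}) := by
    obtain ⟨⟨v, hv⟩⟩ := hV
    obtain ⟨y, hy⟩ := π.surjective v
    exact ⟨⟨y, show π.base y ∈ V from hy ▸ hv⟩⟩
  haveI : (EtCoh.pull π).Additive := (EtCoh.pullPushAdj π).left_adjoint_additive
  haveI : (EtCoh.pull (π ⁻¹ᵁ V).ι).Additive := (EtCoh.pullPushAdj (π ⁻¹ᵁ V).ι).left_adjoint_additive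
  refine ⟨nsmul_eq_zero_of_const M₀ ((killedBy_iff_nsmul m _).2 (nsmul_id_of_iso e
    (nsmul_id_map _ (nsmul_id_map _ ((killedBy_iff_nsmul m F).1 hmF))))), ?_⟩
  obtain ⟨u, hu⟩ := exists_map_to_const hnorm (π ⁻¹ᵁ V) _ M₀ e
  let a := (EtCoh.pullPushAdj π).homEquiv F _ u
  let Z : TopologicalSpace.Closeds U := ⟨(V : Set U)ᶜ, V.2.isClosed_compl⟩
  let I := Scheme.IdealSheafData.vanishingIdeal Z
  let i := I.subschemeι
  have hi : Set.range i.base = (V : Set U)ᶜ := by
    rw [Scheme.IdealSheafData.range_subschemeι, Scheme.IdealSheafData.coe_support_vanishingIdeal]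
    rfl
  haveI : AlgebraicGeometry.Etale V.ι := inferInstance
  haveI : EtShriek.JCont V.ι := EtFound.jCont V.ι
  obtain ⟨w, hS⟩ := recollement_shortExact i V.ι (by rw [hi, Scheme.Opens.range_ι, compl_compl]) F
  let b := (EtCoh.pullPushAdj i).unit.app F
  haveI : Epi b := hS.epi_g
  refine ⟨(EtCoh.push i).obj ((EtCoh.pull i).obj F), isConstructible_of_epi hF b,
    hfin.subset fun y hy => ?_, biprod.lift a b, ?_⟩
  · have h := Supp.supp_push_subset i _ hy
    rw [hi] at h
    exact V.2.isClosed_compl.closure_subset h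
  · refine (mono_iff_stalks _).2 fun k _ _ ξ => ?_
    have hfac : ∀ {G : EtCoh.Ab U} (p : (EtCoh.push π).obj (EtCoh.const Un M₀) ⊞
        (EtCoh.push i).obj ((EtCoh.pull i).obj F) ⟶ G) (c : F ⟶ G), biprod.lift a b ≫ p = c →
        Function.Injective ((EtCoh.stalk ξ).map c) →
        Function.Injective ((EtCoh.stalk ξ).map (biprod.lift a b)) := fun p c hc hinj x y hxy => hinj (by
      rw [← hc, Functor.map_comp, ConcreteCategory.comp_apply, ConcreteCategory.comp_apply, hxy])
    by_cases h : ξ.base (default : Spec (CommRingCat.of k)) ∈ V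
    · exact hfac biprod.fst a (biprod.lift_fst _ _) (injective_stalk_adjoint π V u ξ h)
    · exact hfac biprod.snd b (biprod.lift_snd _ _) ((ConcreteCategory.isIso_iff_bijective _).1
        (isIso_stalk_unit_closed i F ξ (hi.symm ▸ h))).1

end Groth.Agent.DixBrauer.FiniteEmbed
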