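import Groth.Agent.DixBrauer.CurveCd
import Groth.Agent.VarDim.Basic
import Groth.Prelude.Def_EGA4b

/-!
The punctured spectrum of a normal two-dimensional henselian ring in a finite extension of its fraction field.
-/

set_option autoImplicit false
set_option linter.style.haveILetI false
set_option linter.unusedSectionVars false
set_option backward.isDefEq.respectTransparency.types false

universe u

open CategoryTheory CategoryTheory.Limits AlgebraicGeometry Opposite IsLocalRing

noncomputable section

namespace Groth.Agent.DixBrauer.HLocU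

variable {k : Type u} [Field k] [CharZero k] {R₀ : Type u} [CommRing R₀] [IsDomain R₀] [Algebra k R₀]
  [IsIntegrallyClosed R₀] {K : Type u} [Field K] [Algebra R₀ K] [Algebra (FractionRing R₀) K]
  [IsScalarTower R₀ (FractionRing R₀) K] [FiniteDimensional (FractionRing R₀) K]


section

variable (k)

theorem injective_R₀ : Function.Injective (algebraMap R₀ K) := by
  rw [IsScalarTower.algebraMap_eq R₀ (FractionRing R₀) K]
  exact (algebraMap _ K).injective.comp (IsFractionRing.injective R₀ (FractionRing R₀))

include k in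
theorem charZero_R₀ : CharZero R₀ := charZero_of_injective_algebraMap (algebraMap k R₀).injective

theorem isFractionRing_OK : IsFractionRing ↥(integralClosure R₀ K) K :=
  integralClosure.isFractionRing_of_finite_extension (FractionRing R₀) K

theorem isIntegrallyClosed_OK : IsIntegrallyClosed ↥(integralClosure R₀ K) :=
  integralClosure.isIntegrallyClosedOfFiniteExtension (FractionRing R₀)

include k in
theorem isNoetherianRing_OK (hexc : EGA4.IsExcellent R₀) : IsNoetherianRing ↥(integralClosure R₀ K) := by
  haveI := hexc.1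
  haveI := charZero_R₀ k (R₀ := R₀)
  haveI : CharZero (FractionRing R₀) :=
    charZero_of_injective_algebraMap (IsFractionRing.injective R₀ (FractionRing R₀))
  exact IsIntegralClosure.isNoetherianRing R₀ (FractionRing R₀) K ↥(integralClosure R₀ K)

theorem ringKrullDim_OK (hdim : ringKrullDim R₀ = 2) : ringKrullDim ↥(integralClosure R₀ K) = 2 := by
  haveI : FaithfulSMul R₀ ↥(integralClosure R₀ K) := (faithfulSMul_iff_algebraMap_injective _ _).2 fun a b h =>
    injective_R₀ (K := K) (congrArg Subtype.val h)
  rw [VarDim.ringKrullDim_eq_of_isIntegral (R := R₀) (S := ↥(integralClosure R₀ K)), hdim]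

end

/-- The algebra structure on a stalk. -/
instance stkAlg (x : ↥(Spec (CommRingCat.of ↥(integralClosure R₀ K)))) :
    Algebra ↥(integralClosure R₀ K) ((Spec (CommRingCat.of ↥(integralClosure R₀ K))).presheaf.stalk x) :=
  StructureSheaf.stalkAlgebra ↥(integralClosure R₀ K) x

instance stkLoc (x : ↥(Spec (CommRingCat.of ↥(integralClosure R₀ K)))) :
    @IsLocalization.AtPrime ↥(integralClosure R₀ K) _ ((Spec (CommRingCat.of ↥(integralClosure R₀ K))).presheaf.stalk x) _
      (stkAlg x) (PrimeSpectrum.asIdeal (R := ↥(integralClosure R₀ K)) x) (PrimeSpectrum.isPrime (R := ↥(integralClosure R₀ K)) x) :=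
  StructureSheaf.IsLocalization.to_stalk ↥(integralClosure R₀ K) x

variable (U : (Spec (CommRingCat.of ↥(integralClosure R₀ K))).Opens)
  (hU : ∀ x : ↥(Spec (CommRingCat.of ↥(integralClosure R₀ K))), x ∈ U → ¬ IsClosed ({x} : Set ↥(Spec (CommRingCat.of ↥(integralClosure R₀ K)))))

theorem isNoetherian (hne' : IsNoetherianRing ↥(integralClosure R₀ K)) : AlgebraicGeometry.IsNoetherian (U : Scheme.{u}) := by
  haveI : IsNoetherianRing (CommRingCat.of ↥(integralClosure R₀ K)) := hne'
  haveI : IsLocallyNoetherian (U : Scheme.{u}) := isLocallyNoetherian_of_isOpenImmersion U.ι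
  haveI : CompactSpace (U : Scheme.{u}) :=
    isCompact_iff_compactSpace.1 (TopologicalSpace.NoetherianSpace.isCompact (U : Set ↥(Spec (CommRingCat.of ↥(integralClosure R₀ K)))))
  exact { }

theorem isIntegral (hne : Nonempty ↥(U : Scheme.{u})) : IsIntegral (U : Scheme.{u}) :=
  isIntegral_of_isOpenImmersion U.ι

include hU in
theorem dim_stalk_le (hdim : ringKrullDim R₀ = 2) (y : ↥(U : Scheme.{u})) :
    ringKrullDim ((U : Scheme.{u}).presheaf.stalk y) ≤ 1 := by
  let p : PrimeSpectrum ↥(integralClosure R₀ K) := y.1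
  rw [ringKrullDim_eq_of_ringEquiv (U.stalkIso y).commRingCatIsoToRingEquiv]
  refine le_of_eq_of_le (IsLocalization.AtPrime.ringKrullDim_eq_height p.asIdeal
    ((Spec (CommRingCat.of ↥(integralClosure R₀ K))).presheaf.stalk y.1)) ?_
  have hnm : ¬ p.asIdeal.IsMaximal := fun h => hU y.1 y.2 ((PrimeSpectrum.isClosed_singleton_iff_isMaximal p).2 h)
  obtain ⟨M, hM, hpM⟩ := p.asIdeal.exists_le_maximal p.isPrime.ne_top
  have hlt : p.asIdeal < M := lt_of_le_of_ne hpM fun h => hnm (h ▸ hM)
  haveI := hM.isPrime
  have h1 := Ideal.height_add_one_le_of_lt_of_isPrime hlt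
  have h2 : ((M.height : ℕ∞) : WithBot ℕ∞) ≤ 2 :=
    (Ideal.height_le_ringKrullDim_of_ne_top hM.ne_top).trans (ringKrullDim_OK (K := K) hdim).le
  have h4 : M.height ≤ 2 := WithBot.coe_le_coe.1 h2
  have h3 : p.asIdeal.height + 1 ≤ (1 : ℕ∞) + 1 := h1.trans (h4.trans (by norm_num))
  exact_mod_cast (ENat.add_le_add_iff_right (by simp)).1 h3

theorem normal (y : ↥(U : Scheme.{u})) : IsIntegrallyClosed ((U : Scheme.{u}).presheaf.stalk y) := by
  haveI := isIntegrallyClosed_OK (R₀ := R₀) (K := K)
  let p : PrimeSpectrum ↥(integralClosure R₀ K) := y.1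
  haveI : IsIntegrallyClosed ((Spec (CommRingCat.of ↥(integralClosure R₀ K))).presheaf.stalk y.1) :=
    isIntegrallyClosed_of_isLocalization _ p.asIdeal.primeCompl p.asIdeal.primeCompl_le_nonZeroDivisors
  exact IsIntegrallyClosed.of_equiv (U.stalkIso y).commRingCatIsoToRingEquiv.symm

include k in
theorem charZero_residue (y : ↥(U : Scheme.{u})) : CharZero ((U : Scheme.{u}).residueField y) := by
  let φ : k →+* (Spec (CommRingCat.of ↥(integralClosure R₀ K))).presheaf.stalk y.1 :=
    (algebraMap ↥(integralClosure R₀ K) ((Spec (CommRingCat.of ↥(integralClosure R₀ K))).presheaf.stalk y.1)).comp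
      ((algebraMap R₀ ↥(integralClosure R₀ K)).comp (algebraMap k R₀))
  let ψ : k →+* (U : Scheme.{u}).residueField y :=
    ((U : Scheme.{u}).residue y).hom.comp ((U.stalkIso y).inv.hom.comp φ)
  letI := ψ.toAlgebra
  exact charZero_of_injective_algebraMap (algebraMap k ((U : Scheme.{u}).residueField y)).injective

theorem cohDimLE_generic (hne : Nonempty ↥(U : Scheme.{u})) {d : ℕ}
    (hcdK : EtCoh.CohDimLE (Spec (CommRingCat.of K)) d) [IsIntegral (U : Scheme.{u})] :
    EtCoh.CohDimLE (Spec ((U : Scheme.{u}).residueField (genericPoint (U : Scheme.{u})))) d := by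
  haveI := isFractionRing_OK (R₀ := R₀) (K := K)
  let η := genericPoint (U : Scheme.{u})
  let L : Type u := (U : Scheme.{u}).residueField η
  let p : PrimeSpectrum ↥(integralClosure R₀ K) := η.1
  let φ : (Spec (CommRingCat.of ↥(integralClosure R₀ K))).presheaf.stalk η.1 →+* L := ((U : Scheme.{u}).residue η).hom.comp (U.stalkIso η).inv.hom
  have hφ : Function.Surjective φ := ((U : Scheme.{u}).residue_surjective η).comp
    (U.stalkIso η).commRingCatIsoToRingEquiv.symm.surjective
  have hf : IsField ((U : Scheme.{u}).presheaf.stalk η) := Field.toIsField (U : Scheme.{u}).functionField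
  have hφi : Function.Injective φ := by
    letI := hf.toField
    exact (RingHom.injective ((U : Scheme.{u}).residue η).hom).comp
      (U.stalkIso η).commRingCatIsoToRingEquiv.symm.injective
  let ψ : ↥(integralClosure R₀ K) →+* L := φ.comp (algebraMap ↥(integralClosure R₀ K) ((Spec (CommRingCat.of ↥(integralClosure R₀ K))).presheaf.stalk η.1))
  have hψ : Function.Injective ψ :=
    hφi.comp (IsLocalization.injective _ p.asIdeal.primeCompl_le_nonZeroDivisors)
  letI : Algebra K L := (IsFractionRing.lift (K := K) hψ).toAlgebra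
  haveI : Algebra.IsAlgebraic K L := ⟨fun z => by
    obtain ⟨s, rfl⟩ := hφ z
    obtain ⟨⟨a, b⟩, hab⟩ := IsLocalization.surj p.asIdeal.primeCompl s
    have hb : ψ b ≠ 0 := fun h => b.2 (by
      rw [hψ (h.trans (map_zero ψ).symm)]
      exact Ideal.zero_mem _)
    have : φ s = algebraMap K L (algebraMap ↥(integralClosure R₀ K) K a / algebraMap ↥(integralClosure R₀ K) K b) := by
      rw [map_div₀]
      show _ = IsFractionRing.lift hψ (algebraMap ↥(integralClosure R₀ K) K a) / IsFractionRing.lift hψ (algebraMap ↥(integralClosure R₀ K) K b)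
      rw [IsFractionRing.lift_algebraMap, IsFractionRing.lift_algebraMap, eq_div_iff hb]
      exact (map_mul φ _ _).symm.trans (congrArg φ hab)
    rw [this]
    exact isAlgebraic_algebraMap _⟩
  exact CdField.cohDimLE_of_forall fun ℓ hℓ =>
    CdField.cohDimLEAt_of_isAlgebraic K L (CdField.cohDimLEAt_of_cohDimLE hℓ.pos hcdK)

end Groth.Agent.DixBrauer.HLocU
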