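import Groth.Agent.Hensel.PairBasic
import Mathlib.LinearAlgebra.Matrix.Charpoly.LinearMap
import Mathlib.RingTheory.Adjoin.Polynomial.Basic
import Mathlib.RingTheory.Finiteness.Projective
import Mathlib.RingTheory.Nakayama

/-!
Idempotents of finite algebras over henselian pairs, and maps of finite projective modules which
are bijective on the residue module.
-/

universe u v w

set_option linter.style.haveILetI false

namespace Groth.Agent.DixBrauer

open Polynomial

variable {R : Type u} [CommRing R] (I : Ideal R)

/-- Idempotents of a finite, possibly noncommutative, algebra lift along a henselian pair. -/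
theorem exists_idempotent_lift_algebra [HenselianRing R I] {B : Type u} [Ring B] [Algebra R B]
    [Module.Finite R B] (b : B) (hb : b * b - b ∈ I • (⊤ : Submodule R B)) :
    ∃ e : B, e * e = e ∧ e - b ∈ I • (⊤ : Submodule R B) := by
  have hmul : ∀ {x : B}, x ∈ I • (⊤ : Submodule R B) → ∀ y, x * y ∈ I • (⊤ : Submodule R B) :=
    fun {x} hx y => Submodule.smul_induction_on hx
      (fun r hr z _ => by rw [smul_mul_assoc]; exact Submodule.smul_mem_smul hr trivial)
      (fun p q hp hq => by rw [add_mul]; exact add_mem hp hq)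
  let C := Algebra.adjoin R ({b} : Set B)
  letI : CommRing C := Algebra.adjoinCommRingOfComm R (by simp)
  haveI : Algebra.IsIntegral R C := ⟨fun c =>
    (isIntegral_algHom_iff C.val Subtype.val_injective).mp (IsIntegral.of_finite R _)⟩
  let b' : C := ⟨b, Algebra.subset_adjoin rfl⟩
  haveI : HenselianRing C (I.map (algebraMap R C)) := Hensel.henselianRing_of_isIntegral' I C
  haveI : HenselianRing C (I.map (algebraMap R C)).radical :=
    (Hensel.henselianRing_radical_iff _).mpr inferInstance
  have hrad : b' * b' - b' ∈ (I.map (algebraMap R C)).radical := by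
    obtain ⟨p, hp, -, hcoeff, hp0⟩ :=
      LinearMap.exists_monic_and_natDegree_eq_and_coeff_mem_pow_and_aeval_eq_zero R
        (Algebra.lmul R B (b * b - b)) I (by rintro _ ⟨v, rfl⟩; exact hmul hb v)
    rw [Polynomial.aeval_algHom_apply] at hp0
    have h1 : aeval (b * b - b) p = 0 := by simpa using LinearMap.congr_fun hp0 1
    have h0 : aeval (b' * b' - b') p = 0 := Subtype.val_injective (by
      show C.val (aeval (b' * b' - b') p) = C.val 0
      rw [← aeval_algHom_apply, map_zero, map_sub, map_mul]
      exact h1)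
    rw [aeval_eq_sum_range, Finset.sum_range_succ, hp.coeff_natDegree, one_smul] at h0
    refine ⟨p.natDegree, ?_⟩
    rw [eq_neg_of_add_eq_zero_right h0]
    refine neg_mem (sum_mem fun k hk => ?_)
    rw [Algebra.smul_def]
    refine Ideal.mul_mem_right _ _ (Ideal.mem_map_of_mem _ ?_)
    exact Ideal.pow_le_self (Nat.sub_ne_zero_of_lt (Finset.mem_range.mp hk)) (hcoeff k)
  obtain ⟨e, he, hee⟩ := Hensel.exists_idempotent_lift_of_finite (I.map (algebraMap R C)).radical b'
    (by rwa [Algebra.algebraMap_self, Ideal.map_id])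
  rw [Algebra.algebraMap_self, Ideal.map_id] at hee
  obtain ⟨n, hn⟩ := hee
  have hmap : ∀ x ∈ I.map (algebraMap R C), C.val x ∈ I • (⊤ : Submodule R B) := by
    intro x hx
    refine Submodule.span_induction ?_ (by simp) (fun x y _ _ hx hy => ?_) (fun r x _ hx => ?_) hx
    · rintro _ ⟨r, hr, rfl⟩
      rw [AlgHom.commutes, Algebra.algebraMap_eq_smul_one]
      exact Submodule.smul_mem_smul hr trivial
    · rw [map_add]; exact add_mem hx hy
    · rw [smul_eq_mul, mul_comm, map_mul]; exact hmul hx _
  refine ⟨C.val e, by rw [← map_mul, he.eq], ?_⟩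
  -- the difference of two commuting idempotents is killed by no power
  let J : Submodule R C := (I • (⊤ : Submodule R B)).comap C.val.toLinearMap
  have hJb : b' * b' - b' ∈ J := by
    show C.val (b' * b' - b') ∈ I • (⊤ : Submodule R B)
    rw [map_sub, map_mul]; exact hb
  have hJmul : ∀ {x : C}, x ∈ J → ∀ y, x * y ∈ J := fun {x} hx y => by
    show C.val (x * y) ∈ I • (⊤ : Submodule R B)
    rw [map_mul]; exact hmul hx _
  have h3 : (e - b') ^ 3 - (e - b') ∈ J := by
    have : (e - b') ^ 3 - (e - b') = (b' * b' - b') * (3 * e - b' - 1) := by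
      linear_combination (e + 1 - 3 * b') * he.eq
    rw [this]; exact hJmul hJb _
  have hodd : ∀ j, (e - b') ^ (2 * j + 1) - (e - b') ∈ J := by
    intro j
    induction j with
    | zero => simp
    | succ j ih =>
      have : (e - b') ^ (2 * (j + 1) + 1) - (e - b') =
          ((e - b') ^ (2 * j + 1) - (e - b')) * (e - b') ^ 2 + ((e - b') ^ 3 - (e - b')) := by ring
      rw [this]; exact add_mem (hJmul ih _) h3
  have hpow : (e - b') ^ (2 * n + 1) ∈ I.map (algebraMap R C) := by
    rw [show 2 * n + 1 = (n + 1) + n by ring, pow_add]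
    exact Ideal.mul_mem_left _ _ hn
  have hfin : (e - b') ^ (2 * n + 1) ∈ J := hmap _ hpow
  have := sub_mem hfin (hodd n)
  rw [sub_sub_cancel] at this
  have h4 : C.val (e - b') ∈ I • (⊤ : Submodule R B) := this
  rwa [map_sub] at h4

/-- A map to a finite projective module is bijective if it is bijective onto a quotient by
`I • ⊤`, with `I` in the Jacobson radical. -/
theorem bijective_of_bijective_residual (hI : I ≤ Ideal.jacobson ⊥) {X : Type v} {P : Type w}
    [AddCommGroup X] [Module R X] [Module.Finite R X] [AddCommGroup P] [Module R P]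
    [Module.Finite R P] [Module.Projective R P] {M : Type*} [AddCommGroup M] [Module R M]
    (f : X →ₗ[R] P) (q : P →ₗ[R] M) (hq : ∀ p, q p = 0 → p ∈ I • (⊤ : Submodule R P))
    (hsurj : ∀ p, ∃ x, q (f x) = q p) (hinj : ∀ x, q (f x) = 0 → x ∈ I • (⊤ : Submodule R X)) :
    Function.Bijective f := by
  have hs : Function.Surjective f := by
    rw [← LinearMap.range_eq_top]
    refine eq_top_iff.mpr (Submodule.le_of_le_smul_of_le_jacobson_bot Module.Finite.fg_top hI
      fun p _ => ?_)
    obtain ⟨x, hx⟩ := hsurj p
    exact Submodule.mem_sup.mpr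
      ⟨f x, ⟨x, rfl⟩, p - f x, hq _ (by rw [map_sub, hx, sub_self]), add_sub_cancel _ _⟩
  refine ⟨?_, hs⟩
  obtain ⟨σ, hσ⟩ := Module.projective_lifting_property f LinearMap.id hs
  let pr : X →ₗ[R] LinearMap.ker f := LinearMap.codRestrict _ (LinearMap.id - σ ∘ₗ f) fun x => by
    have := LinearMap.congr_fun hσ (f x)
    simp only [LinearMap.coe_comp, Function.comp_apply, LinearMap.id_coe, id_eq] at this
    simp [LinearMap.mem_ker, this]
  have hpr : ∀ y : LinearMap.ker f, pr y.1 = y := fun y => Subtype.ext (by simp [pr])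
  haveI : Module.Finite R (LinearMap.ker f) :=
    Module.Finite.of_surjective pr fun y => ⟨y.1, hpr y⟩
  have : (⊤ : Submodule R (LinearMap.ker f)) = ⊥ :=
    Submodule.eq_bot_of_le_smul_of_le_jacobson_bot I _ Module.Finite.fg_top (fun y _ => by
      rw [← hpr y]
      refine Submodule.mem_comap.1 ((Submodule.smul_top_le_comap_smul_top I pr) (hinj _ ?_))
      rw [LinearMap.mem_ker.1 y.2, map_zero]) hI
  rw [← LinearMap.ker_eq_bot, eq_bot_iff]
  intro x hx
  have := this.le (Submodule.mem_top (x := (⟨x, hx⟩ : LinearMap.ker f)))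
  simpa using this

end Groth.Agent.DixBrauer
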