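import Groth.Agent.DixBrauer.AssocDeform
import Mathlib.RingTheory.Smooth.Basic
import Mathlib.RingTheory.FinitePresentation
import Mathlib.LinearAlgebra.Determinant
import Mathlib.LinearAlgebra.TensorProduct.Basis
import Mathlib.LinearAlgebra.Matrix.ToLin
import Mathlib.LinearAlgebra.Matrix.StdBasis

/-!
The scheme of associative unital laws on a free module with invertible sandwich determinant is
smooth.
-/

universe u v w

set_option linter.style.haveILetI false

namespace Groth.Agent.DixBrauer

open TensorProduct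

variable {ι : Type u} [Fintype ι] [DecidableEq ι]

section Law

variable {T : Type w} [CommRing T]

/-- The bilinear law with given structure constants. -/
noncomputable def lawBil (c : ι × ι × ι → T) : (ι → T) →ₗ[T] (ι → T) →ₗ[T] (ι → T) :=
  LinearMap.mk₂ T (fun x y k => ∑ i, ∑ j, x i * y j * c (i, j, k))
    (fun x x' y => by ext k; simp [add_mul, Finset.sum_add_distrib])
    (fun r x y => by ext k; simp [Finset.mul_sum, mul_assoc])
    (fun x y y' => by ext k; simp [add_mul, mul_add, Finset.sum_add_distrib])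
    (fun r x y => by ext k; simp [Finset.mul_sum, mul_assoc, mul_left_comm])

theorem lawBil_apply (c : ι × ι × ι → T) (x y : ι → T) (k : ι) :
    lawBil c x y k = ∑ i, ∑ j, x i * y j * c (i, j, k) := rfl

theorem lawBil_single (c : ι × ι × ι → T) (i j : ι) :
    lawBil c (Pi.single i 1) (Pi.single j 1) = fun k => c (i, j, k) := by
  funext k
  simp [lawBil_apply, Pi.single_apply]

theorem lawBil_single_right (c : ι × ι × ι → T) (x : ι → T) (j p : ι) :
    lawBil c x (Pi.single j 1) p = ∑ l, x l * c (l, j, p) := by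
  simp [lawBil_apply, Pi.single_apply]

theorem lawBil_single_left (c : ι × ι × ι → T) (x : ι → T) (i p : ι) :
    lawBil c (Pi.single i 1) x p = ∑ l, x l * c (i, l, p) := by
  simp [lawBil_apply, Pi.single_apply, Finset.sum_comm]

/-- The coordinates of the associator. -/
def assocExpr (c : ι × ι × ι → T) (q : ι × ι × ι × ι) : T :=
  ∑ l, c (q.1, q.2.1, l) * c (l, q.2.2.1, q.2.2.2) -
    ∑ l, c (q.2.1, q.2.2.1, l) * c (q.1, l, q.2.2.2)

theorem associatorMap_single (c : ι × ι × ι → T) (i j k p : ι) :
    associatorMap (lawBil c) (Pi.single i 1) (Pi.single j 1) (Pi.single k 1) p =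
      assocExpr c (i, j, k, p) := by
  rw [associatorMap_apply, Pi.sub_apply, lawBil_single, lawBil_single, lawBil_single_right,
    lawBil_single_left]
  rfl

theorem associatorMap_mem (I : Ideal T) (c : ι × ι × ι → T) (h : ∀ q, assocExpr c q ∈ I)
    (x y z : ι → T) (p : ι) : associatorMap (lawBil c) x y z p ∈ I := by
  let F : (ι → T) →ₗ[T] T := LinearMap.proj p
  have key : associatorMap (lawBil c) x y z p = ∑ i, ∑ j, ∑ k, x i * y j * z k *
      associatorMap (lawBil c) (Pi.single i 1) (Pi.single j 1) (Pi.single k 1) p := by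
    conv_lhs => rw [pi_eq_sum_univ' x, pi_eq_sum_univ' y, pi_eq_sum_univ' z]
    simp only [map_sum, map_smul, LinearMap.sum_apply, LinearMap.smul_apply, Finset.sum_apply,
      Pi.smul_apply, smul_eq_mul, Finset.mul_sum]
    refine (Finset.sum_comm).trans ((Finset.sum_congr rfl fun j _ => Finset.sum_comm).trans
      ((Finset.sum_comm).trans ?_))
    exact Finset.sum_congr rfl fun i _ => Finset.sum_congr rfl fun j _ =>
      Finset.sum_congr rfl fun k _ => by ring
  rw [key]
  refine sum_mem fun i _ => sum_mem fun j _ => sum_mem fun k _ => Ideal.mul_mem_left _ _ ?_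
  rw [associatorMap_single]
  exact h _

theorem mem_smul_top_pi {I : Ideal T} {x : ι → T} : x ∈ I • (⊤ : Submodule T (ι → T)) ↔ ∀ k, x k ∈ I := by
  refine ⟨fun hx k => ?_, fun hx => ?_⟩
  · have := Submodule.smul_top_le_comap_smul_top I (LinearMap.proj (φ := fun _ : ι => T) k) hx
    simpa using this
  · rw [pi_eq_sum_univ' x]
    exact sum_mem fun k _ => Submodule.smul_mem_smul (hx k) trivial

/-- The matrix of the sandwich map. -/
def sandwichMatrix (c : ι × ι × ι → T) : Matrix (ι × ι) (ι × ι) T :=
  fun pq ij => ∑ l, c (ij.1, pq.2, l) * c (l, ij.2, pq.1)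

theorem toMatrix_lawSandwich (c : ι × ι × ι → T) :
    LinearMap.toMatrix ((Pi.basisFun T ι).tensorProduct (Pi.basisFun T ι))
      ((Matrix.stdBasis T ι ι).map Matrix.toLin') (lawSandwich (lawBil c)) = sandwichMatrix c := by
  ext ⟨p, q⟩ ⟨i, j⟩
  have hrep : ∀ (M : Matrix ι ι T), (Matrix.stdBasis T ι ι).repr M (p, q) = M p q := fun M => by
    simp [Matrix.stdBasis, Pi.basis_repr]
  rw [LinearMap.toMatrix_apply, Module.Basis.tensorProduct_apply, Module.Basis.map_repr,
    LinearEquiv.trans_apply, Matrix.toLin'_symm, hrep,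
    LinearMap.toMatrix'_apply, lawSandwich_tmul, Pi.basisFun_apply, Pi.basisFun_apply,
    lawBil_single, lawBil_single_right]
  rfl

theorem bijective_lawSandwich_iff (c : ι × ι × ι → T) :
    Function.Bijective (lawSandwich (lawBil c)) ↔ IsUnit (sandwichMatrix c).det := by
  rw [← toMatrix_lawSandwich]
  refine ⟨fun h => (LinearEquiv.ofBijective _ h).isUnit_det _ _,
    fun h => (LinearEquiv.ofIsUnitDet h).bijective⟩

/-- Associative laws with unit a given basis vector. -/
structure IsLaw (i₀ : ι) (c : ι × ι × ι → T) : Prop where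
  unit_left : ∀ j k, c (i₀, j, k) = if j = k then 1 else 0
  unit_right : ∀ j k, c (j, i₀, k) = if j = k then 1 else 0
  assoc : ∀ q, assocExpr c q = 0

theorem lawBil_unit_left {i₀ : ι} {c : ι × ι × ι → T}
    (h : ∀ j k, c (i₀, j, k) = if j = k then 1 else 0) (v : ι → T) :
    lawBil c (Pi.single i₀ 1) v = v := by
  funext k
  simp [lawBil_single_left, h]

theorem lawBil_unit_right {i₀ : ι} {c : ι × ι × ι → T}
    (h : ∀ j k, c (j, i₀, k) = if j = k then 1 else 0) (v : ι → T) :
    lawBil c v (Pi.single i₀ 1) = v := by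
  funext k
  simp [lawBil_single_right, h]

theorem map_assocExpr {T' : Type*} [CommRing T'] (g : T →+* T') (c : ι × ι × ι → T)
    (q : ι × ι × ι × ι) : g (assocExpr c q) = assocExpr (g ∘ c) q := by
  simp [assocExpr]

theorem map_sandwich_det {T' : Type*} [CommRing T'] (g : T →+* T') (c : ι × ι × ι → T) :
    g (sandwichMatrix c).det = (sandwichMatrix (g ∘ c)).det := by
  rw [RingHom.map_det]
  congr 1
  ext pq ij
  simp [sandwichMatrix]

end Law

section Scheme

variable (R : Type u) [CommRing R] (i₀ : ι)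

/-- The generic structure constants. -/
noncomputable def genC (x : ι × ι × ι) : MvPolynomial (Option (ι × ι × ι)) R := MvPolynomial.X (some x)

/-- The equations of associative unital laws with invertible sandwich determinant. -/
noncomputable def lawRel :
    (ι × ι × ι × ι) ⊕ (ι × ι) ⊕ (ι × ι) ⊕ Unit → MvPolynomial (Option (ι × ι × ι)) R
  | .inl q => assocExpr (genC R) q
  | .inr (.inl (j, k)) => genC R (i₀, j, k) - if j = k then 1 else 0
  | .inr (.inr (.inl (j, k))) => genC R (j, i₀, k) - if j = k then 1 else 0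
  | .inr (.inr (.inr _)) => (sandwichMatrix (genC R)).det * MvPolynomial.X none - 1

/-- The algebra representing laws. -/
abbrev LawAlg : Type u :=
  MvPolynomial (Option (ι × ι × ι)) R ⧸ Ideal.span (Set.range (lawRel R i₀))

variable {R i₀} {T : Type w} [CommRing T] [Algebra R T]

/-- The structure constants of a point. -/
noncomputable def lawPoint (f : LawAlg R i₀ →ₐ[R] T) (x : ι × ι × ι) : T :=
  f (Ideal.Quotient.mk _ (genC R x))

theorem aeval_comp_genC (v : Option (ι × ι × ι) → T) :
    (MvPolynomial.aeval (R := R) v).toRingHom ∘ genC R = v ∘ some := by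
  funext x
  simp [genC]

theorem lawPoint_isLaw (f : LawAlg R i₀ →ₐ[R] T) : IsLaw i₀ (lawPoint f) ∧
    (sandwichMatrix (lawPoint f)).det * f (Ideal.Quotient.mk _ (MvPolynomial.X none)) = 1 := by
  let g : MvPolynomial (Option (ι × ι × ι)) R →+* T := f.toRingHom.comp (Ideal.Quotient.mk _)
  have h0 : ∀ r, g (lawRel R i₀ r) = 0 := fun r => by
    show f (Ideal.Quotient.mk _ (lawRel R i₀ r)) = 0
    rw [Ideal.Quotient.eq_zero_iff_mem.2 (Ideal.subset_span (Set.mem_range_self r)), map_zero]
  have hg : g ∘ genC R = lawPoint f := rfl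
  refine ⟨⟨fun j k => ?_, fun j k => ?_, fun q => ?_⟩, ?_⟩
  · have h := h0 (.inr (.inl (j, k)))
    simp only [lawRel, map_sub, sub_eq_zero, apply_ite g, map_one, map_zero] at h
    exact h
  · have h := h0 (.inr (.inr (.inl (j, k))))
    simp only [lawRel, map_sub, sub_eq_zero, apply_ite g, map_one, map_zero] at h
    exact h
  · have h := h0 (.inl q)
    simp only [lawRel] at h
    rw [map_assocExpr, hg] at h
    exact h
  · have h := h0 (.inr (.inr (.inr ())))
    simp only [lawRel, map_sub, sub_eq_zero, map_mul, map_one] at h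
    rw [map_sandwich_det, hg] at h
    exact h

theorem exists_lawPoint (c : ι × ι × ι → T) (hc : IsLaw i₀ c) (hdet : IsUnit (sandwichMatrix c).det) :
    ∃ f : LawAlg R i₀ →ₐ[R] T, lawPoint f = c := by
  let v : Option (ι × ι × ι) → T := fun o => o.elim ↑hdet.unit⁻¹ c
  have hv : (MvPolynomial.aeval (R := R) v).toRingHom ∘ genC R = c := aeval_comp_genC v
  have hvx : ∀ x, MvPolynomial.aeval (R := R) v (genC R x) = c x := congrFun hv
  have hle : Ideal.span (Set.range (lawRel R i₀)) ≤ RingHom.ker (MvPolynomial.aeval (R := R) v) := by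
    rw [Ideal.span_le]
    rintro _ ⟨r, rfl⟩
    rw [SetLike.mem_coe, RingHom.mem_ker]
    rcases r with q | ⟨j, k⟩ | ⟨j, k⟩ | _
    · simp only [lawRel]
      exact (map_assocExpr (MvPolynomial.aeval (R := R) v).toRingHom _ q).trans (by rw [hv, hc.assoc])
    · simp only [lawRel, map_sub, hvx, hc.unit_left]
      split_ifs <;> simp
    · simp only [lawRel, map_sub, hvx, hc.unit_right]
      split_ifs <;> simp
    · simp only [lawRel, map_sub, map_mul, map_one, MvPolynomial.aeval_X, sub_eq_zero]
      rw [show MvPolynomial.aeval (R := R) v (sandwichMatrix (genC R)).det = (sandwichMatrix c).det from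
        (map_sandwich_det (MvPolynomial.aeval (R := R) v).toRingHom _).trans (by rw [hv])]
      exact hdet.mul_val_inv
  exact ⟨Ideal.Quotient.liftₐ _ (MvPolynomial.aeval v) fun a ha => hle ha, funext hvx⟩

theorem lawAlg_hom_ext {f g : LawAlg R i₀ →ₐ[R] T} (h : lawPoint f = lawPoint g) : f = g := by
  refine Ideal.Quotient.algHom_ext R (MvPolynomial.algHom_ext fun o => ?_)
  rcases o with _ | x
  · have h1 := (lawPoint_isLaw f).2
    have h2 := (lawPoint_isLaw g).2
    rw [h] at h1
    show f (Ideal.Quotient.mk _ (MvPolynomial.X none)) = g (Ideal.Quotient.mk _ (MvPolynomial.X none))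
    exact (IsUnit.of_mul_eq_one _ h1).mul_left_cancel (h1.trans h2.symm)
  · exact congrFun h x

instance formallySmooth_lawAlg : Algebra.FormallySmooth R (LawAlg R i₀) := by
  refine Algebra.FormallySmooth.of_comp_surjective fun B _ _ I hI fbar => ?_
  let π : B →ₐ[R] B ⧸ I := Ideal.Quotient.mkₐ R I
  obtain ⟨⟨hl, hr, ha⟩, hd⟩ := lawPoint_isLaw fbar
  choose s hs using Ideal.Quotient.mk_surjective (I := I)
  let c : ι × ι × ι → B := fun x =>
    if x.1 = i₀ then (if x.2.1 = x.2.2 then 1 else 0)
    else if x.2.1 = i₀ then (if x.1 = x.2.2 then 1 else 0) else s (lawPoint fbar x)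
  have hc : π.toRingHom ∘ c = lawPoint fbar := by
    funext x
    obtain ⟨i, j, k⟩ := x
    simp only [Function.comp_apply, c]
    split_ifs with h1 h2 h2 h3 <;> first
      | (subst h1; rw [hl]; split_ifs <;> simp_all)
      | (subst h2; rw [hr]; split_ifs <;> simp_all)
      | exact hs _
  have hcl : ∀ j k, c (i₀, j, k) = if j = k then 1 else 0 := fun j k => if_pos rfl
  have hcr : ∀ j k, c (j, i₀, k) = if j = k then 1 else 0 := fun j k => by
    by_cases h : j = i₀ <;> simp [c, h]
  have hI' : I * I = ⊥ := by rw [← sq]; exact hI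
  have hdet : IsUnit (sandwichMatrix c).det := by
    obtain ⟨y, hy⟩ := Ideal.Quotient.mk_surjective (fbar (Ideal.Quotient.mk _ (MvPolynomial.X none)))
    have h1 : (sandwichMatrix c).det * y - 1 ∈ I := by
      rw [← Ideal.Quotient.eq, map_mul, hy, map_one]
      rw [← hc, ← map_sandwich_det] at hd
      exact hd
    have h2 : IsUnit ((sandwichMatrix c).det * y) := by
      have hn : IsNilpotent ((sandwichMatrix c).det * y - 1) :=
        ⟨2, by rw [sq]; exact (Submodule.mem_bot B).1 (hI' ▸ Ideal.mul_mem_mul h1 h1)⟩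
      have := hn.isUnit_add_one
      rwa [sub_add_cancel] at this
    exact isUnit_of_mul_isUnit_left h2
  have hassoc : ∀ a b d, associatorMap (lawBil c) a b d ∈ I • (⊤ : Submodule B (ι → B)) :=
    fun a b d => mem_smul_top_pi.2 fun p => associatorMap_mem I c (fun q => by
      rw [← Ideal.Quotient.eq_zero_iff_mem]
      exact (map_assocExpr π.toRingHom c q).trans (by rw [hc, ha])) a b d p
  obtain ⟨ψ, hψI, hψl, hψr, hψ⟩ := exists_assoc_correction I hI' (lawBil c) (Pi.single i₀ 1)
    (lawBil_unit_left hcl) (lawBil_unit_right hcr) (LinearMap.proj i₀) (by simp) hassoc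
    ((bijective_lawSandwich_iff c).2 hdet)
  let c' : ι × ι × ι → B := fun x => c x + ψ (Pi.single x.1 1) (Pi.single x.2.1 1) x.2.2
  have hbil : lawBil c' = lawBil c + ψ := by
    refine (Pi.basisFun B ι).ext fun i => (Pi.basisFun B ι).ext fun j => ?_
    simp only [Pi.basisFun_apply, LinearMap.add_apply, lawBil_single]
    rfl
  have hc' : π.toRingHom ∘ c' = lawPoint fbar := by
    rw [← hc]
    funext x
    show π (c x + _) = π (c x)
    rw [map_add, show π (ψ (Pi.single x.1 1) (Pi.single x.2.1 1) x.2.2) = 0 from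
      Ideal.Quotient.eq_zero_iff_mem.2 (mem_smul_top_pi.1 (hψI _ _) _), add_zero]
  have hlaw : IsLaw i₀ c' := by
    refine ⟨fun j k => ?_, fun j k => ?_, fun q => ?_⟩
    · simp [c', hψl, hcl]
    · simp [c', hψr, hcr]
    · rw [← associatorMap_single c' q.1 q.2.1 q.2.2.1 q.2.2.2, hbil, hψ]
      rfl
  have hdet' : IsUnit (sandwichMatrix c').det := by
    have hsub : (sandwichMatrix c').det - (sandwichMatrix c).det ∈ I := by
      rw [← Ideal.Quotient.eq]
      show π.toRingHom _ = π.toRingHom _
      rw [map_sandwich_det, map_sandwich_det, hc, hc']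
    obtain ⟨z, hz⟩ := hdet
    have hn : IsNilpotent ((sandwichMatrix c').det - (sandwichMatrix c).det) :=
      ⟨2, by rw [sq]; exact (Submodule.mem_bot B).1 (hI' ▸ Ideal.mul_mem_mul hsub hsub)⟩
    have := hn.isUnit_add_right_of_commute (hz ▸ z.isUnit) (Commute.all _ _)
    rwa [sub_add_cancel] at this
  obtain ⟨f, hf⟩ := exists_lawPoint (R := R) c' hlaw hdet'
  refine ⟨f, lawAlg_hom_ext ?_⟩
  rw [← hc', ← hf]
  rfl

instance smooth_lawAlg : Algebra.Smooth R (LawAlg R i₀) where
  finitePresentation :=
    Algebra.FinitePresentation.quotient (Submodule.fg_span (Set.finite_range _))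

end Scheme

end Groth.Agent.DixBrauer
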