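import Groth.Agent.DixBrauer.SepAdjoin
import Groth.Agent.CSALib.SepIdem
import Mathlib.FieldTheory.JacobsonNoether
import Mathlib.LinearAlgebra.Matrix.Unique
import Mathlib.RingTheory.Jacobson.Semiprimary

/-!
Maximal étale subalgebras of absolutely semisimple algebras.
-/

universe u v w

set_option linter.style.haveILetI false

namespace Groth.Agent.DixBrauer

open Polynomial TensorProduct

/-- A subring which is a bimodule retract of a semisimple ring is semisimple. -/
theorem isSemisimpleRing_of_retract {C : Type v} {A : Type w} [Ring C] [Ring A] [IsSemisimpleRing A]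
    (i : C →+* A) (P : A →+ C) (hl : ∀ c a, P (i c * a) = c * P a)
    (hr : ∀ c a, P (a * i c) = P a * c) (hP : ∀ c, P (i c) = c) : IsSemisimpleRing C := by
  rw [IsSemisimpleRing, isSemisimpleModule_iff]
  refine ⟨fun N => ?_⟩
  let M : Submodule A A := Submodule.span A (i '' (N : Set C))
  obtain ⟨M', hM'⟩ := exists_isCompl M
  let q : A →ₗ[A] A := M.projection M' hM'
  have hPM : ∀ x ∈ M, ∀ a, P (a * x) ∈ N := by
    intro x hx
    refine Submodule.span_induction ?_ (fun a => by simp) (fun x y _ _ hx hy a => ?_)
      (fun r x _ hx a => ?_) hx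
    · rintro _ ⟨c, hc, rfl⟩ a
      rw [hr]
      exact N.smul_mem (P a) hc
    · rw [mul_add, map_add]
      exact N.add_mem (hx a) (hy a)
    · rw [smul_eq_mul, ← mul_assoc]
      exact hx _
  have hqN : ∀ c, P (q (i c)) ∈ N := fun c => by
    have := hPM (q (i c)) (Submodule.projection_apply_mem (p := M) (q := M') hM' _) 1
    rwa [one_mul] at this
  let g : C →ₗ[C] N :=
    { toFun := fun c => ⟨P (q (i c)), hqN c⟩
      map_add' := fun x y => Subtype.ext (by simp)
      map_smul' := fun r x => Subtype.ext (by
        show P (q (i (r • x))) = r • P (q (i x))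
        rw [smul_eq_mul, map_mul, ← smul_eq_mul (i r), map_smul, smul_eq_mul, hl, smul_eq_mul]) }
  refine ⟨LinearMap.ker g, LinearMap.isCompl_of_proj fun x => Subtype.ext ?_⟩
  show P (q (i x.1)) = x.1
  rw [Submodule.projection_apply_of_mem_left hM' (Submodule.subset_span ⟨x.1, x.2, rfl⟩), hP]

/-- In a semisimple ring a central element of square zero is zero. -/
theorem eq_zero_of_central_sq {R : Type v} [Ring R] [IsSemisimpleRing R] {x : R}
    (hc : ∀ a, a * x = x * a) (hx : x * x = 0) : x = 0 := by
  obtain ⟨M, hM⟩ := exists_isCompl (Submodule.span R ({x} : Set R))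
  obtain ⟨p, hp, m, hm, h1⟩ := Submodule.mem_sup.1
    (show (1 : R) ∈ Submodule.span R ({x} : Set R) ⊔ M by rw [hM.sup_eq_top]; trivial)
  obtain ⟨a, rfl⟩ := Submodule.mem_span_singleton.1 hp
  have hxm : x = x * m := by
    conv_lhs => rw [← mul_one x, ← h1, mul_add, smul_eq_mul, ← mul_assoc, ← hc a, mul_assoc, hx,
      mul_zero, zero_add]
  have hmem : x ∈ M := by
    rw [hxm]
    exact M.smul_mem x hm
  exact (Submodule.disjoint_def.1 hM.disjoint) x (Submodule.subset_span rfl) hmem

section Centralizer

variable (k : Type u) [Field k] {A : Type v} [Ring A] [Algebra k A]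

/-- Averaging with a tensor: `x ⊗ y` sends `a` to `x * a * y`. -/
noncomputable def sandwich (L : Subalgebra k A) : L ⊗[k] L →ₗ[k] A →ₗ[k] A :=
  TensorProduct.lift <| LinearMap.mk₂ k
    (fun x y => (LinearMap.mulLeft k (x : A)).comp (LinearMap.mulRight k (y : A)))
    (fun x x' y => by ext; simp [add_mul]) (fun r x y => by ext; simp)
    (fun x y y' => by ext; simp [mul_add]) (fun r x y => by ext; simp [mul_smul_comm])

theorem sandwich_tmul (L : Subalgebra k A) (x y : L) (a : A) :
    sandwich k L (x ⊗ₜ y) a = (x : A) * (a * y) := rfl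

variable {k}

theorem exists_retraction_centralizer (L : Subalgebra k A) (hL : CSALib.HasSepIdem k L) :
    ∃ P : A →ₗ[k] Subalgebra.centralizer k (L : Set A),
      (∀ c a, P (c.1 * a) = c * P a) ∧ (∀ c a, P (a * c.1) = P a * c) ∧ ∀ c, P c.1 = c := by
  obtain ⟨e, he1, he2⟩ := hL
  have hleft : ∀ (l : L) w a, sandwich k L ((l ⊗ₜ 1) * w) a = (l : A) * sandwich k L w a := by
    intro l w a
    induction w using TensorProduct.induction_on with
    | zero => simp
    | add p q hp hq => simp only [mul_add, map_add, LinearMap.add_apply, hp, hq]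
    | tmul p q => simp [sandwich_tmul, mul_assoc]
  have hright : ∀ (l : L) w a, sandwich k L (w * (1 ⊗ₜ l)) a = sandwich k L w a * (l : A) := by
    intro l w a
    induction w using TensorProduct.induction_on with
    | zero => simp
    | add p q hp hq => simp only [add_mul, map_add, LinearMap.add_apply, hp, hq]
    | tmul p q => simp [sandwich_tmul, mul_assoc]
  have hmem : ∀ a, sandwich k L e a ∈ Subalgebra.centralizer k (L : Set A) := fun a l hl => by
    rw [← hleft ⟨l, hl⟩, he2, hright ⟨l, hl⟩]
  refine ⟨(sandwich k L e).codRestrict (Subalgebra.centralizer k (L : Set A)).toSubmodule hmem,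
    fun c a => Subtype.ext ?_, fun c a => Subtype.ext ?_, fun c => Subtype.ext ?_⟩
  · have : ∀ w, sandwich k L w (c.1 * a) = c.1 * sandwich k L w a := fun w => by
      induction w using TensorProduct.induction_on with
      | zero => simp
      | add p q hp hq => simp only [map_add, LinearMap.add_apply, mul_add, hp, hq]
      | tmul p q =>
        simp only [sandwich_tmul, ← mul_assoc]
        rw [c.2 p.1 p.2]
    exact this e
  · have : ∀ w, sandwich k L w (a * c.1) = sandwich k L w a * c.1 := fun w => by
      induction w using TensorProduct.induction_on with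
      | zero => simp
      | add p q hp hq => simp only [map_add, LinearMap.add_apply, add_mul, hp, hq]
      | tmul p q =>
        simp only [sandwich_tmul, mul_assoc]
        rw [c.2 q.1 q.2]
    exact this e
  · have : ∀ w, sandwich k L w c.1 = (LinearMap.mul' k L w : L).1 * c.1 := fun w => by
      induction w using TensorProduct.induction_on with
      | zero => simp
      | add p q hp hq => simp only [map_add, LinearMap.add_apply, Subalgebra.coe_add, add_mul, hp, hq]
      | tmul p q =>
        simp only [sandwich_tmul, LinearMap.mul'_apply, Subalgebra.coe_mul, mul_assoc]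
        rw [c.2 q.1 q.2]
    show sandwich k L e c.1 = c.1
    rw [this, he1]
    simp

theorem isSemisimpleRing_of_algebraicClosure
    (hss : IsSemisimpleRing (AlgebraicClosure k ⊗[k] A)) : IsSemisimpleRing A := by
  let Ω := AlgebraicClosure k
  obtain ⟨π, hπ⟩ := LinearMap.exists_leftInverse_of_injective (Algebra.linearMap k Ω)
    (LinearMap.ker_eq_bot.2 (algebraMap k Ω).injective)
  have hπ1 : π 1 = 1 := by simpa using LinearMap.congr_fun hπ 1
  let P : Ω ⊗[k] A →ₗ[k] A := (TensorProduct.lid k A).toLinearMap ∘ₗ π.rTensor A
  refine isSemisimpleRing_of_retract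
    (Algebra.TensorProduct.includeRight : A →ₐ[k] Ω ⊗[k] A).toRingHom P.toAddMonoidHom
    (fun c w => ?_) (fun c w => ?_) (fun c => by simp [P, hπ1])
  · show P ((1 ⊗ₜ c) * w) = c * P w
    induction w using TensorProduct.induction_on with
    | zero => simp
    | add p q hp hq => simp only [mul_add, map_add, hp, hq]
    | tmul p q => simp [P, mul_smul_comm]
  · show P (w * (1 ⊗ₜ c)) = P w * c
    induction w using TensorProduct.induction_on with
    | zero => simp
    | add p q hp hq => simp only [add_mul, map_add, hp, hq]
    | tmul p q => simp [P]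

/-- The centralizer of a subalgebra with a separability idempotent is semisimple with separable
center when the algebra is absolutely semisimple. -/
theorem centralizer_semisimple [FiniteDimensional k A]
    (hss : IsSemisimpleRing (AlgebraicClosure k ⊗[k] A)) (L : Subalgebra k A)
    (hL : CSALib.HasSepIdem k L) :
    IsSemisimpleRing (Subalgebra.centralizer k (L : Set A)) ∧
      Algebra.IsSeparable k (Subalgebra.center k (Subalgebra.centralizer k (L : Set A))) := by
  haveI := isSemisimpleRing_of_algebraicClosure hss
  set C := Subalgebra.centralizer k (L : Set A) with hCdef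
  obtain ⟨P, hl, hr, hP⟩ := exists_retraction_centralizer L hL
  refine ⟨isSemisimpleRing_of_retract C.val.toRingHom P.toAddMonoidHom hl hr hP, ?_⟩
  let Ω := AlgebraicClosure k
  haveI hCΩ : IsSemisimpleRing (Ω ⊗[k] C) := by
    refine isSemisimpleRing_of_retract
      (Algebra.TensorProduct.map (AlgHom.id Ω Ω) C.val).toRingHom (P.baseChange Ω).toAddMonoidHom
      (fun c w => ?_) (fun c w => ?_) (fun c => ?_)
    · show P.baseChange Ω (Algebra.TensorProduct.map (AlgHom.id Ω Ω) C.val c * w) =
        c * P.baseChange Ω w
      induction w using TensorProduct.induction_on with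
      | zero => simp
      | add p q hp hq => simp only [mul_add, map_add, hp, hq]
      | tmul p q =>
        induction c using TensorProduct.induction_on with
        | zero => simp
        | add r s hr' hs' => simp only [map_add, add_mul, hr', hs']
        | tmul r s => simp [hl]
    · show P.baseChange Ω (w * Algebra.TensorProduct.map (AlgHom.id Ω Ω) C.val c) =
        P.baseChange Ω w * c
      induction w using TensorProduct.induction_on with
      | zero => simp
      | add p q hp hq => simp only [add_mul, map_add, hp, hq]
      | tmul p q =>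
        induction c using TensorProduct.induction_on with
        | zero => simp
        | add r s hr' hs' => simp only [map_add, mul_add, hr', hs']
        | tmul r s => simp [hr]
    · show P.baseChange Ω (Algebra.TensorProduct.map (AlgHom.id Ω Ω) C.val c) = c
      induction c using TensorProduct.induction_on with
      | zero => simp
      | add r s hr' hs' => simp only [map_add, hr', hs']
      | tmul r s => simp [hP]
  refine ⟨fun z => separable_minpoly_of_sq (IsIntegral.of_finite k z) fun h hh => ?_⟩
  let j : Ω ⊗[k] Subalgebra.center k C →ₐ[Ω] Ω ⊗[k] C :=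
    Algebra.TensorProduct.map (AlgHom.id Ω Ω) (Subalgebra.center k C).val
  have hj : Function.Injective j := Module.Flat.lTensor_preserves_injective_linearMap
    (Subalgebra.center k C).val.toLinearMap Subtype.val_injective
  have hcentral : ∀ t a, a * j t = j t * a := fun t a => by
    induction t using TensorProduct.induction_on with
    | zero => simp
    | add p q hp hq => simp only [map_add, mul_add, add_mul, hp, hq]
    | tmul p q =>
      induction a using TensorProduct.induction_on with
      | zero => simp
      | add r s hr' hs' => simp only [mul_add, add_mul, hr', hs']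
      | tmul r s => simp [j, mul_comm p r, Subalgebra.mem_center_iff.1 q.2 s]
  refine hj ((eq_zero_of_central_sq (hcentral _) ?_).trans (map_zero j).symm)
  rw [← map_mul, ← sq, hh, map_zero]

end Centralizer

section Noncommutative

variable {k : Type u} [Field k]

/-- A noncommutative division algebra over a separable central field has a separable noncentral
element. -/
theorem exists_separable_noncentral_of_center_field (D : Type v) [DivisionRing D] [Algebra k D]
    [FiniteDimensional k D] (Z : Type w) [Field Z] [Algebra k Z] [Algebra.IsSeparable k Z]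
    (ι : Z →ₐ[k] D) (hι : ∀ c x, ι c * x = x * ι c)
    (hsurj : ∀ x ∈ Subalgebra.center k D, x ∈ Set.range ι) (hnc : ∃ a b : D, a * b ≠ b * a) :
    ∃ x : D, (minpoly k x).Separable ∧ ∃ a, a * x ≠ x * a := by
  letI : Algebra Z D := ι.toRingHom.toAlgebra' hι
  haveI : IsScalarTower k Z D := IsScalarTower.of_algebraMap_eq fun r => (ι.commutes r).symm
  haveI : Algebra.IsCentral Z D := ⟨fun x hx => by
    obtain ⟨c, rfl⟩ := hsurj x (Subalgebra.mem_center_iff.2 fun b => Subalgebra.mem_center_iff.1 hx b)
    exact ⟨c, rfl⟩⟩
  haveI : Module.Finite Z D := Module.Finite.of_restrictScalars_finite k Z D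
  obtain ⟨x, hx, hsep⟩ := JacobsonNoether.exists_separable_and_not_isCentral' (L := Z) (D := D) (by
    intro htop
    obtain ⟨a, b, hab⟩ := hnc
    obtain ⟨c, rfl⟩ := Algebra.mem_bot.1 (show a ∈ (⊥ : Subalgebra Z D) by rw [htop]; trivial)
    exact hab (Algebra.commutes c b))
  refine ⟨x, ?_, ?_⟩
  · have hintZ : IsIntegral Z x := IsIntegral.of_finite Z x
    haveI : Fact (Irreducible (minpoly Z x)) := ⟨minpoly.irreducible hintZ⟩
    let K := AdjoinRoot (minpoly Z x)
    haveI : Module.Finite Z K := (minpoly.monic hintZ).finite_adjoinRoot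
    haveI : Algebra.Etale Z K := AzumayaX.etale_adjoinRoot (minpoly.monic hintZ) hsep
    haveI := isSeparable_of_etale Z K
    haveI : Algebra.IsSeparable k K := Algebra.IsSeparable.trans k Z K
    let f := (CSALib.adjoinRootHom Z x).restrictScalars k
    have hf : f (AdjoinRoot.root (minpoly Z x)) = x := CSALib.adjoinRootHom_root Z x
    exact Polynomial.Separable.of_dvd
      (Algebra.IsSeparable.isSeparable k (AdjoinRoot.root (minpoly Z x)))
      (minpoly.dvd k x ((congrArg (fun y => aeval y (minpoly k (AdjoinRoot.root (minpoly Z x)))) hf.symm).trans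
        ((aeval_algHom_apply f _ _).trans (by rw [minpoly.aeval, map_zero]))))
  · by_contra! hc
    obtain ⟨c, rfl⟩ := hsurj x (Subalgebra.mem_center_iff.2 hc)
    exact hx ⟨c, rfl⟩

/-- A noncommutative division algebra with separable center has a separable noncentral element. -/
theorem exists_separable_noncentral_division (D : Type v) [DivisionRing D] [Algebra k D]
    [FiniteDimensional k D] [Algebra.IsSeparable k (Subalgebra.center k D)]
    (hnc : ∃ a b : D, a * b ≠ b * a) :
    ∃ x : D, (minpoly k x).Separable ∧ ∃ a, a * x ≠ x * a := by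
  have hF : IsField (Subalgebra.center k D) := IsSimpleRing.isField_center D
  letI : Field (Subalgebra.center k D) := hF.toField
  exact exists_separable_noncentral_of_center_field D (Subalgebra.center k D)
    (Subalgebra.center k D).val (fun c x => (Subalgebra.mem_center_iff.1 c.2 x).symm)
    (fun x hx => ⟨⟨x, hx⟩, rfl⟩) hnc

/-- One by one matrices over an algebra. -/
noncomputable def matrixFinOneEquiv (k : Type u) [Field k] (D : Type v) [Ring D] [Algebra k D] :
    Matrix (Fin 1) (Fin 1) D ≃ₐ[k] D :=
  AlgEquiv.ofBijective
    { toFun := fun M => M 0 0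
      map_one' := Matrix.one_apply_eq 0
      map_mul' := fun M N => by simp [Matrix.mul_apply]
      map_zero' := rfl
      map_add' := fun M N => rfl
      commutes' := fun r => by simp [Matrix.algebraMap_matrix_apply] }
    ⟨fun M N h => by ext i j; fin_cases i; fin_cases j; exact h, fun x => ⟨fun _ _ => x, rfl⟩⟩

theorem exists_separable_noncentral_matrix (D : Type v) [DivisionRing D] [Algebra k D]
    [FiniteDimensional k D] (d : ℕ) [NeZero d]
    [Algebra.IsSeparable k (Subalgebra.center k (Matrix (Fin d) (Fin d) D))]
    (hnc : ∃ a b : Matrix (Fin d) (Fin d) D, a * b ≠ b * a) :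
    ∃ x : Matrix (Fin d) (Fin d) D, (minpoly k x).Separable ∧ ∃ a, a * x ≠ x * a := by
  rcases Nat.lt_or_ge 1 d with hd | hd
  · let i0 : Fin d := ⟨0, by omega⟩
    let i1 : Fin d := ⟨1, hd⟩
    set e₀ : Matrix (Fin d) (Fin d) D := Matrix.single i0 i0 1 with he₀
    refine ⟨e₀, ?_, Matrix.single i0 i1 1, ?_⟩
    · have hsep : (X * (X - C (1 : k))).Separable :=
        (separable_X.mul separable_X_sub_C ⟨1, -1, by simp⟩)
      have hidem : e₀ * e₀ = e₀ := by simp [he₀, Matrix.single_mul_single_same]
      exact hsep.of_dvd (minpoly.dvd k e₀ (by simp [mul_sub, hidem]))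
    · intro h
      have hne : i1 ≠ i0 := by simp [i0, i1, Fin.ext_iff]
      have := congrFun (congrFun h i0) i1
      rw [Matrix.single_mul_single_same, Matrix.single_mul_single_of_ne _ _ _ _ hne] at this
      simp [hne.symm] at this
  · obtain rfl : d = 1 := le_antisymm hd (NeZero.one_le)
    let g : Matrix (Fin 1) (Fin 1) D ≃ₐ[k] D := matrixFinOneEquiv k D
    haveI : Algebra.IsSeparable k (Subalgebra.center k D) := by
      refine ⟨fun z => ?_⟩
      have hy : g.symm z.1 ∈ Subalgebra.center k (Matrix (Fin 1) (Fin 1) D) :=
        Subalgebra.mem_center_iff.2 fun a => g.injective (by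
          simp [Subalgebra.mem_center_iff.1 z.2 (g a)])
      have h1 := minpoly.algHom_eq (Subalgebra.center k (Matrix (Fin 1) (Fin 1) D)).val
        Subtype.val_injective ⟨g.symm z.1, hy⟩
      have h2 := minpoly.algHom_eq (Subalgebra.center k D).val Subtype.val_injective z
      have h3 := minpoly.algEquiv_eq g.symm z.1
      have hs : (minpoly k (⟨g.symm z.1, hy⟩ :
          Subalgebra.center k (Matrix (Fin 1) (Fin 1) D))).Separable :=
        Algebra.IsSeparable.isSeparable k _
      show (minpoly k z).Separable
      rw [← h1] at hs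
      rw [← h2]
      exact h3 ▸ hs
    obtain ⟨a, b, hab⟩ := hnc
    obtain ⟨x, hx, c, hc⟩ := exists_separable_noncentral_division (k := k) D
      ⟨g a, g b, fun h => hab (g.injective (by simpa using h))⟩
    refine ⟨g.symm x, by rwa [minpoly.algEquiv_eq], g.symm c, fun h => hc ?_⟩
    simpa using congrArg g h

/-- A noncommutative semisimple algebra with separable center has a separable noncentral element. -/
theorem exists_separable_noncentral (C : Type v) [Ring C] [Algebra k C] [FiniteDimensional k C]
    [IsSemisimpleRing C] [Algebra.IsSeparable k (Subalgebra.center k C)]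
    (hnc : ∃ a b : C, a * b ≠ b * a) :
    ∃ x : C, (minpoly k x).Separable ∧ ∃ a, a * x ≠ x * a := by
  classical
  obtain ⟨n, D, d, _, _, hfin, hd, ⟨f⟩⟩ :=
    IsSemisimpleRing.exists_algEquiv_pi_matrix_divisionRing_finite k C
  obtain ⟨a, b, hab⟩ := hnc
  obtain ⟨i, hi⟩ : ∃ i, f a i * f b i ≠ f b i * f a i := by
    by_contra! h
    exact hab (f.injective (funext fun i => by simpa using h i))
  haveI := CSALib.isSeparable_center_factor f i
  obtain ⟨x, hx, c, hc⟩ := exists_separable_noncentral_matrix (k := k) (D i) (d i) ⟨_, _, hi⟩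
  refine ⟨f.symm (Pi.single i x), ?_, f.symm (Pi.single i c), fun h => hc ?_⟩
  · rw [minpoly.algEquiv_eq]
    let p : k[X] := if X ∣ minpoly k x then minpoly k x else X * minpoly k x
    have hp : p.Separable := by
      simp only [p]
      split_ifs with hX
      · exact hx
      · exact separable_X.mul hx ((irreducible_X.coprime_iff_not_dvd).2 hX)
    have hX : X ∣ p := by
      simp only [p]
      split_ifs with hX
      · exact hX
      · exact dvd_mul_right X _
    have hm : minpoly k x ∣ p := by
      simp only [p]
      split_ifs with hX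
      · exact dvd_rfl
      · exact dvd_mul_left _ X
    refine Polynomial.Separable.of_dvd hp (minpoly.dvd k _ (funext fun j => ?_))
    show Pi.evalAlgHom k (fun i => Matrix (Fin (d i)) (Fin (d i)) (D i)) j
      (aeval (Pi.single i x) p) = _
    rw [← aeval_algHom_apply, Pi.evalAlgHom_apply, Pi.zero_apply]
    rcases eq_or_ne j i with rfl | hj
    · rw [Pi.single_eq_same]
      exact aeval_eq_zero_of_dvd_aeval_eq_zero hm (minpoly.aeval k x)
    · rw [Pi.single_eq_of_ne hj]
      exact aeval_eq_zero_of_dvd_aeval_eq_zero hX (by simp)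
  · have h2 := congrFun (congrArg f h) i
    simpa using h2

end Noncommutative

/-- Maximal étale subalgebras of an absolutely semisimple algebra are their own centralizers. -/
theorem centralizer_eq_self_of_maximal {k : Type u} [Field k] {A : Type v} [Ring A] [Algebra k A]
    [FiniteDimensional k A] (hss : IsSemisimpleRing (AlgebraicClosure k ⊗[k] A))
    (L : Subalgebra k A) (hcomm : ∀ x ∈ L, ∀ y ∈ L, x * y = y * x)
    (hsep : Algebra.IsSeparable k L)
    (hmax : ∀ L' : Subalgebra k A, (∀ x ∈ L', ∀ y ∈ L', x * y = y * x) →
      Algebra.IsSeparable k L' → L ≤ L' → L' = L) :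
    Subalgebra.centralizer k (L : Set A) = L := by
  classical
  letI : CommRing L :=
    { (inferInstance : Ring L) with
      mul_comm := fun x y => Subtype.ext (hcomm x x.2 y y.2) }
  haveI : Algebra.Etale k L := etale_of_isSeparable k L
  have hLe : CSALib.HasSepIdem k L :=
    ⟨Algebra.FormallyUnramified.elem k L,
      by
        have h1 : LinearMap.mul' k L = (Algebra.TensorProduct.lmul' k (S := L)).toLinearMap := by
          ext; simp
        rw [h1]; exact Algebra.FormallyUnramified.lmul_elem,
      fun a => by rw [mul_comm (Algebra.FormallyUnramified.elem k L),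
        Algebra.FormallyUnramified.one_tmul_mul_elem]⟩
  obtain ⟨hC, hCc⟩ := centralizer_semisimple hss L hLe
  set C := Subalgebra.centralizer k (L : Set A) with hCdef
  have hLC : L ≤ C := fun x hx y hy => hcomm y hy x hx
  -- separable elements commuting with `L` lie in `L`
  have key : ∀ x ∈ C, (minpoly k x).Separable → x ∈ L := by
    intro x hxC hx
    letI : CommRing (Algebra.adjoin k ({x} : Set A)) :=
      Algebra.adjoinCommRingOfComm k (by simp)
    haveI : Algebra.IsSeparable k (Algebra.adjoin k ({x} : Set A)) :=
      isSeparable_adjoin_of_separable hx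
    haveI := etale_of_isSeparable k (Algebra.adjoin k ({x} : Set A))
    have hXC : Algebra.adjoin k ({x} : Set A) ≤ C := Algebra.adjoin_le (by simpa using hxC)
    let φ : L ⊗[k] Algebra.adjoin k ({x} : Set A) →ₐ[k] A :=
      Algebra.TensorProduct.lift L.val (Algebra.adjoin k ({x} : Set A)).val
        fun a b => hXC b.2 a a.2
    haveI : Algebra.Etale L (L ⊗[k] Algebra.adjoin k ({x} : Set A)) := inferInstance
    haveI : Algebra.Etale k (L ⊗[k] Algebra.adjoin k ({x} : Set A)) := Algebra.Etale.comp k L _
    haveI := isSeparable_of_etale k (L ⊗[k] Algebra.adjoin k ({x} : Set A))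
    have h1 : φ.range = L := hmax φ.range
      (by rintro _ ⟨a, rfl⟩ _ ⟨b, rfl⟩; rw [← map_mul, mul_comm, map_mul])
      (isSeparable_of_surjective φ.rangeRestrict φ.rangeRestrict_surjective)
      (fun a ha => ⟨⟨a, ha⟩ ⊗ₜ 1, (Algebra.TensorProduct.lift_tmul _ _ _ _ _).trans (mul_one a)⟩)
    rw [← h1]
    exact ⟨1 ⊗ₜ ⟨x, Algebra.subset_adjoin rfl⟩,
      (Algebra.TensorProduct.lift_tmul _ _ _ _ _).trans (one_mul x)⟩
  by_cases hCcomm : ∀ a b : C, a * b = b * a
  · refine hmax C (fun a ha b hb => congrArg Subtype.val (hCcomm ⟨a, ha⟩ ⟨b, hb⟩)) ?_ hLC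
    refine ⟨fun c => ?_⟩
    let c' : Subalgebra.center k C := ⟨c, Subalgebra.mem_center_iff.2 fun b => hCcomm b c⟩
    have h1 := minpoly.algHom_eq (Subalgebra.center k C).val Subtype.val_injective c'
    show (minpoly k c).Separable
    exact h1 ▸ (Algebra.IsSeparable.isSeparable k c')
  · simp only [not_forall] at hCcomm
    obtain ⟨x, hx, a, ha⟩ := exists_separable_noncentral (k := k) C hCcomm
    have hxL : x.1 ∈ L := key x.1 x.2 (by
      rwa [show (x.1 : A) = C.val x from rfl, minpoly.algHom_eq C.val Subtype.val_injective])
    exact absurd (Subtype.ext (a.2 x.1 hxL).symm) ha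

end Groth.Agent.DixBrauer
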