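import Mathlib.RingTheory.Norm.Defs
import Mathlib.RingTheory.Flat.Rank
import Mathlib.RingTheory.Spectrum.Prime.FreeLocus
import Mathlib.RingTheory.TensorProduct.IsBaseChangeFree
import Mathlib.RingTheory.Flat.Stability
import Mathlib.Algebra.Category.Ring.Constructions
import Mathlib.RingTheory.RingHom.Finite
import Mathlib.RingTheory.RingHom.Flat

/-!
Norms of units along finite free ring maps and their compatibility with base change.
-/

universe u

set_option linter.style.haveILetI false

open CategoryTheory

namespace Groth.Agent.DixBrauer.NormAlg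

variable {A B : Type u} [CommRing A] [CommRing B]

/-- The norm of units along a ring map. -/
noncomputable def normU (φ : A →+* B) : Bˣ →* Aˣ :=
  letI := φ.toAlgebra
  Units.map (Algebra.norm A)

/-- A ring map making the target a free module. -/
def IsFree (φ : A →+* B) : Prop :=
  letI := φ.toAlgebra
  Module.Free A B

theorem normU_algebraMap [Algebra A B] (u : Bˣ) :
    (normU (algebraMap A B) u : A) = Algebra.norm A (u : B) := by
  have : (algebraMap A B).toAlgebra = ‹Algebra A B› := Algebra.algebra_ext _ _ fun r => rfl
  unfold normU
  rw [this]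
  rfl

theorem isFree_algebraMap [Algebra A B] : IsFree (algebraMap A B) ↔ Module.Free A B := by
  have : (algebraMap A B).toAlgebra = ‹Algebra A B› := Algebra.algebra_ext _ _ fun r => rfl
  unfold IsFree
  rw [this]

theorem norm_of_isBaseChange {R S R' S' : Type u} [CommRing R] [CommRing S] [CommRing R'] [CommRing S']
    [Algebra R S] [Algebra R R'] [Algebra R S'] [Algebra R' S'] [Algebra S S']
    [IsScalarTower R R' S'] [IsScalarTower R S S'] [h : Algebra.IsPushout R R' S S']
    [Module.Free R S] [Module.Finite R S] (s : S) :
    Algebra.norm R' (algebraMap S S' s) = algebraMap R R' (Algebra.norm R s) := by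
  classical
  let b := Module.Free.chooseBasis R S
  let b' := h.out.basis b
  rw [Algebra.norm_eq_matrix_det b', Algebra.norm_eq_matrix_det b, RingHom.map_det]
  congr 1
  refine Matrix.ext fun i j => ?_
  rw [RingHom.mapMatrix_apply, Matrix.map_apply, Algebra.leftMulMatrix_eq_repr_mul,
    Algebra.leftMulMatrix_eq_repr_mul, IsBaseChange.basis_apply]
  show b'.repr (algebraMap S S' s * algebraMap S S' (b j)) i = _
  rw [← map_mul]
  exact IsBaseChange.basis_repr_comp_apply b h.out (s * b j) i

section Square

variable {A' B' : Type u} [CommRing A'] [CommRing B'] {φ : A →+* B} {a : A →+* A'}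
  {b : B →+* B'} {φ' : A' →+* B'}
  (sq : IsPushout (CommRingCat.ofHom φ) (CommRingCat.ofHom a) (CommRingCat.ofHom b) (CommRingCat.ofHom φ'))
  (hfin : φ.Finite) (hfree : IsFree φ)

include sq hfree in
theorem isFree_of_square : IsFree φ' := by
  have hc : b.comp φ = φ'.comp a := congrArg CommRingCat.Hom.hom sq.w
  algebraize [φ, a, b, φ', φ'.comp a]
  haveI : IsScalarTower A B B' := IsScalarTower.of_algebraMap_eq' hc.symm
  haveI : Algebra.IsPushout A A' B B' := CommRingCat.isPushout_iff_isPushout.1 sq.flip
  haveI : Module.Free A B := hfree
  exact isFree_algebraMap.2 ((Algebra.IsPushout.out (R := A) (S := A') (R' := B) (S' := B')).free)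

include sq hfin hfree in
theorem normU_square (u : Bˣ) :
    normU φ' (Units.map b.toMonoidHom u) = Units.map a.toMonoidHom (normU φ u) := by
  have hc : b.comp φ = φ'.comp a := congrArg CommRingCat.Hom.hom sq.w
  algebraize [φ, a, b, φ', φ'.comp a]
  haveI : IsScalarTower A B B' := IsScalarTower.of_algebraMap_eq' hc.symm
  haveI : Algebra.IsPushout A A' B B' := CommRingCat.isPushout_iff_isPushout.1 sq.flip
  haveI : Module.Free A B := hfree
  haveI : Module.Finite A B := hfin
  refine Units.ext ?_
  show (normU (algebraMap A' B') (Units.map b.toMonoidHom u) : A') = algebraMap A A' (normU (algebraMap A B) u)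
  rw [normU_algebraMap, normU_algebraMap]
  exact norm_of_isBaseChange (u : B)

end Square

/-- Finite flat maps of finite presentation are free near each prime. -/
theorem exists_isFree_away [Algebra A B] [Module.Finite A B] [Module.FinitePresentation A B]
    [Module.Flat A B] (p : PrimeSpectrum A) : ∃ r : A, r ∉ p.asIdeal ∧
      ∀ (A' B' : Type u) [CommRing A'] [CommRing B'] [Algebra A A'] [IsLocalization.Away r A']
        [Algebra A' B'] [Algebra A B'] [Algebra B B'] [IsScalarTower A A' B'] [IsScalarTower A B B']
        [Algebra.IsPushout A A' B B'], Module.Free A' B' := by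
  have hp : p ∈ Module.freeLocus A B := by rw [Module.freeLocus_eq_univ]; trivial
  haveI : Module.Free _ _ := hp
  obtain ⟨r, hr, hr', _⟩ := Module.FinitePresentation.exists_free_localizedModule_powers
    p.asIdeal.primeCompl (LocalizedModule.mkLinearMap p.asIdeal.primeCompl B)
    (Localization.AtPrime p.asIdeal)
  refine ⟨r, hr, fun A' B' _ _ _ _ _ _ _ _ _ hpo => ?_⟩
  haveI : IsLocalizedModule (Submonoid.powers r) (IsScalarTower.toAlgHom A B B').toLinearMap :=
    (isLocalizedModule_iff_isBaseChange (Submonoid.powers r) A' _).2 hpo.out
  have hloc := (isLocalizedModule_iff_isBaseChange (Submonoid.powers r) (Localization.Away r)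
    (LocalizedModule.mkLinearMap (Submonoid.powers r) B)).1 inferInstance
  let e := IsLocalization.algEquiv (Submonoid.powers r) (Localization.Away r) A'
  letI : Algebra (Localization.Away r) A' := e.toAlgHom.toRingHom.toAlgebra
  haveI : IsScalarTower A (Localization.Away r) A' :=
    IsScalarTower.of_algebraMap_eq fun x => (e.commutes x).symm
  letI : Algebra (Localization.Away r) B' :=
    ((algebraMap A' B').comp (algebraMap (Localization.Away r) A')).toAlgebra
  haveI : IsScalarTower (Localization.Away r) A' B' := IsScalarTower.of_algebraMap_eq' rfl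
  haveI : IsScalarTower A (Localization.Away r) B' := IsScalarTower.of_algebraMap_eq fun x => by
    rw [IsScalarTower.algebraMap_apply A A' B', IsScalarTower.algebraMap_apply A (Localization.Away r) A']
    rfl
  let l := IsLocalizedModule.linearEquiv (Submonoid.powers r)
    (LocalizedModule.mkLinearMap (Submonoid.powers r) B) (IsScalarTower.toAlgHom A B B').toLinearMap
  haveI : Module.Free (Localization.Away r) B' :=
    Module.Free.of_equiv (LinearEquiv.extendScalarsOfIsLocalization (Submonoid.powers r)
      (Localization.Away r) l)
  exact Module.Free.of_basis ((Module.Free.chooseBasis (Localization.Away r) B').mapCoeffs e.toRingEquiv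
    fun c x => (IsScalarTower.algebraMap_smul A' c x))

end Groth.Agent.DixBrauer.NormAlg
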