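import Groth.Agent.DixBrauer.PointRpush
import Groth.Agent.EtLimCore.StrictHens
import Groth.Agent.DualLib.LocCoh
import Groth.Agent.EtFound.PushImm

/-!
`Ext` from sheaves supported on closed points of a curve into sheaves supported away from them.
-/

set_option autoImplicit false
set_option linter.style.haveILetI false
set_option backward.isDefEq.respectTransparency.types false

universe u

open CategoryTheory CategoryTheory.Limits CategoryTheory.Abelian AlgebraicGeometry Opposite

noncomputable section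

namespace Groth.Agent.DixBrauer.PointExt

open CdLib

variable {X : Scheme.{u}}

/-- `Ext` into a zero object vanishes. -/
theorem subsingleton_ext_of_isZero_right (P : EtCoh.Ab X) {G : EtCoh.Ab X} (hG : IsZero G) (q : ℕ) :
    Subsingleton (Abelian.Ext.{u + 1} P G q) :=
  subsingleton_of_forall_eq 0 fun x => by
    rw [← Ext.comp_mk₀_id x, hG.eq_of_src (𝟙 G) 0, Ext.mk₀_zero, Ext.comp_zero]

/-- `Ext` out of a zero object vanishes. -/
theorem subsingleton_ext_of_isZero_left {P : EtCoh.Ab X} (hP : IsZero P) (G : EtCoh.Ab X) (q : ℕ) :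
    Subsingleton (Abelian.Ext.{u + 1} P G q) :=
  subsingleton_of_forall_eq 0 fun x => by
    rw [← Ext.mk₀_id_comp x, hP.eq_of_src (𝟙 P) 0, Ext.mk₀_zero, Ext.zero_comp]

/-- A pullback missing the support is zero. -/
theorem isZero_pull_of_disjoint {Y : Scheme.{u}} (f : Y ⟶ X) (G : EtCoh.Ab X)
    (h : ∀ p : Y, f.base p ∉ EtPBC.supp G) : IsZero ((EtCoh.pull f).obj G) :=
  Supp.isZero_of_supp_eq_empty _ (Set.eq_empty_of_forall_notMem fun p hp =>
    h p (Supp.supp_pull_subset f G hp))

variable (j : X.Opens)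

/-- The support of a sheaf that restricts to zero on an open misses it. -/
theorem notMem_supp_of_isZero_pull {F : EtCoh.Ab X} (h : IsZero ((EtCoh.pull j.ι).obj F)) {y : X}
    (hy : y ∈ j) : y ∉ EtPBC.supp F := fun hy' => by
  have hs := S3491.not_subsingleton_stalk F y hy'
  have hr : Set.range (EtaleStrictHens.ξ y).base ⊆ Set.range j.ι.base := by
    rintro _ ⟨w, rfl⟩
    rw [Scheme.Opens.range_ι]
    have h0 : (EtaleStrictHens.ξ y).base w = y := by
      rw [EtaleStrictHens.ξ]
      exact Set.mem_singleton_iff.1 ((X.range_fromSpecResidueField y).le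
        ⟨_, (Scheme.Hom.comp_apply _ (X.fromSpecResidueField y) w).symm⟩)
    rw [h0]
    exact hy
  let z := IsOpenImmersion.lift j.ι (EtaleStrictHens.ξ y) hr
  have hz : z ≫ j.ι = EtaleStrictHens.ξ y := IsOpenImmersion.lift_fac _ _ _
  rw [← hz] at hs
  exact hs (AddCommGrpCat.subsingleton_of_isZero (((EtCoh.stalk z).map_isZero h).of_iso
    ((EtFound.stalkPullIso j.ι z).app F).symm))

variable [AlgebraicGeometry.IsNoetherian X]

/-- Stalks of direct images from an open at a point outside vanish if the generalisations in the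
open avoid the support. -/
theorem isZero_stalk_Rpush (N : EtCoh.Ab X) {y : X} (hy : ∀ x : X, x ⤳ y → x ∈ j → x ∉ EtPBC.supp N)
    (n : ℕ) : IsZero ((EtCoh.stalk (EtaleStrictHens.ξ y)).obj
      ((EtCoh.Rpush j.ι n).obj ((EtCoh.pull j.ι).obj N))) := by
  let ξ := EtaleStrictHens.ξ y
  haveI : CompactSpace (j : Scheme.{u}) :=
    isCompact_iff_compactSpace.mp (TopologicalSpace.NoetherianSpace.isCompact (j : Set X))
  haveI : QuasiCompact j.ι := quasiCompact_of_compactSpace _
  obtain ⟨e⟩ := EtLimCore.nonempty_stalk_Rpush_iso j.ι ξ (L := EtLimCore.locCone ξ)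
    (EtaleStrictHens.toX ξ) (fun i => EtLimCore.locCone_hom ξ i) (EtLimCore.isLimitLocCone ξ) n
  refine IsZero.of_iso ?_ (e.app ((EtCoh.pull j.ι).obj N))
  refine (EtCoh.HF _ n).map_isZero (isZero_pull_of_disjoint _ _ fun p hp => ?_)
  have hmem := Supp.supp_pull_subset j.ι N hp
  change j.ι.base ((pullback.fst j.ι (EtaleStrictHens.toX ξ)).base p) ∈ EtPBC.supp N at hmem
  have h1 : j.ι.base ((pullback.fst j.ι (EtaleStrictHens.toX ξ)).base p) =
      (EtaleStrictHens.toX ξ).base ((pullback.snd j.ι (EtaleStrictHens.toX ξ)).base p) := by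
    rw [← Scheme.Hom.comp_apply, ← Scheme.Hom.comp_apply, pullback.condition]
  refine hy _ ?_ ?_ hmem
  · rw [h1]
    have h2 : ∀ w, (EtaleStrictHens.toX ξ).base w ⤳ y := fun w => by
      have h3 := congrArg (fun f : Spec (EtBase.etaleLocalRing ξ) ⟶ X => f.base w) (EtaleStrictHens.α_spec y)
      exact h3 ▸ (Scheme.Hom.comp_apply (Spec.map (EtaleStrictHens.α y)) (X.fromSpecStalk y) w) ▸
        X.range_fromSpecStalk.le ⟨_, rfl⟩
    exact h2 _
  · exact (Scheme.Opens.range_ι j).le ⟨_, rfl⟩

/-- A sheaf whose support, near the complement of an open, lies away from its generalisations in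
the open and from the complement is the derived direct image of its restriction. -/
theorem isIso_unit_and_isZero_Rpush (N : EtCoh.Ab X) (h₁ : ∀ y : X, y ∉ j → y ∉ EtPBC.supp N)
    (h₂ : ∀ x y : X, y ∉ j → x ⤳ y → x ∈ j → x ∉ EtPBC.supp N) :
    IsIso ((EtCoh.pullPushAdj j.ι).unit.app N) ∧
      ∀ b, IsZero ((EtCoh.Rpush j.ι (b + 1)).obj ((EtCoh.pull j.ι).obj N)) := by
  let f := j.ι
  let P := EtCoh.pull f
  let R := EtCoh.push f
  haveI : R.IsRightAdjoint := (EtCoh.pullPushAdj f).isRightAdjoint
  haveI : PreservesFiniteLimits R := inferInstance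
  haveI : PreservesFiniteLimits P := EtFound.pull_preservesFiniteLimits f
  haveI : P.IsLeftAdjoint := (EtCoh.pullPushAdj f).isLeftAdjoint
  haveI : PreservesFiniteColimits P := inferInstance
  haveI : IsIso (EtCoh.pullPushAdj f).counit := by
    haveI : ∀ G, IsIso ((EtCoh.pullPushAdj f).counit.app G) := fun G =>
      EtFound.counit_isIso f (EtFound.liftable_of_isOpenImmersion f) G
    exact NatIso.isIso_of_isIso_app _
  have hR : ∀ b, IsZero ((EtCoh.Rpush f (b + 1)).obj (P.obj N)) := fun b => by
    refine Supp.isZero_of_supp_eq_empty _ (Set.eq_empty_of_forall_notMem fun y hy => ?_)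
    by_cases hyj : y ∈ j
    · refine notMem_supp_of_isZero_pull j ?_ hyj hy
      exact (DualLib.isZero_rightDerived_id (P.obj N) b).of_iso
        (((SiteBase.rightDerivedCompIso R P (b + 1)).symm ≪≫
          SiteBase.rightDerivedCongr (asIso (EtCoh.pullPushAdj f).counit) (b + 1)).app (P.obj N))
    · exact S3491.not_subsingleton_stalk _ y hy (AddCommGrpCat.subsingleton_of_isZero
        (isZero_stalk_Rpush j N (fun x hx hxj => h₂ x y hyj hx hxj) (b + 1)))
  refine ⟨?_, hR⟩
  let a := (EtCoh.pullPushAdj f).unit.app N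
  haveI hPa : IsIso (P.map a) :=
    @IsIso.of_isIso_fac_right _ _ _ _ _ _ _ _ inferInstance (IsIso.id _)
      ((EtCoh.pullPushAdj f).left_triangle_components N)
  haveI : IsIso (R.toRightDerivedZero) := inferInstance
  have hk : ∀ y, y ∉ EtPBC.supp (kernel a) := fun y hy => by
    by_cases hyj : y ∈ j
    · exact notMem_supp_of_isZero_pull j
        ((isZero_kernel_of_mono (P.map a)).of_iso (PreservesKernel.iso P a)) hyj hy
    · exact h₁ y hyj (Supp.supp_mono (kernel.ι a) hy)
  have hc : ∀ y, y ∉ EtPBC.supp (cokernel a) := fun y hy => by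
    by_cases hyj : y ∈ j
    · exact notMem_supp_of_isZero_pull j
        ((isZero_cokernel_of_epi (P.map a)).of_iso (PreservesCokernel.iso P a)) hyj hy
    · refine S3491.not_subsingleton_stalk _ y (Supp.supp_epi (cokernel.π a) hy)
        (AddCommGrpCat.subsingleton_of_isZero ?_)
      exact (isZero_stalk_Rpush j N (fun x hx hxj => h₂ x y hyj hx hxj) 0).of_iso
        ((EtCoh.stalk _).mapIso ((asIso R.toRightDerivedZero).app (P.obj N)))
  haveI : Mono a := Preadditive.mono_of_isZero_kernel _
    (Supp.isZero_of_supp_eq_empty _ (Set.eq_empty_of_forall_notMem hk))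
  haveI : Epi a := Preadditive.epi_of_isZero_cokernel _
    (Supp.isZero_of_supp_eq_empty _ (Set.eq_empty_of_forall_notMem hc))
  exact isIso_of_mono_of_epi a

/-- No `Ext` between a sheaf supported off an open and a sheaf that is pushed forward from it. -/
theorem subsingleton_ext (F N : EtCoh.Ab X) (hF : ∀ x ∈ j, x ∉ EtPBC.supp F)
    (h₁ : ∀ y : X, y ∉ j → y ∉ EtPBC.supp N)
    (h₂ : ∀ x y : X, y ∉ j → x ⤳ y → x ∈ j → x ∉ EtPBC.supp N) (q : ℕ) :
    Subsingleton (Abelian.Ext.{u + 1} F N q) := by
  obtain ⟨hu, hR⟩ := isIso_unit_and_isZero_Rpush j N h₁ h₂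
  haveI : PreservesFiniteLimits (EtCoh.pull j.ι) := EtFound.pull_preservesFiniteLimits j.ι
  refine ExtVanish.ext_of_iso (asIso ((EtCoh.pullPushAdj j.ι).unit.app N)).symm F q ?_
  refine Leray.subsingleton_ext_right (EtCoh.pullPushAdj j.ι) F q _ ?_
    (fun a b _ => subsingleton_ext_of_isZero_right F (hR b) a)
  refine subsingleton_ext_of_isZero_left (isZero_pull_of_disjoint _ _ fun p => hF _ ?_) _ q
  exact (Scheme.Opens.range_ι j).le ⟨_, rfl⟩

end Groth.Agent.DixBrauer.PointExt
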