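import Groth.Agent.DixBrauer.CurveCd
import Groth.Agent.DixBrauer.PointPush
import Groth.Agent.DixBrauer.Kummer
import Groth.Agent.S3491
import Groth.Agent.EtBCA.PullId

/-!
Higher direct images of `G_m` from the generic point of a regular curve of residue characteristic zero.
-/

set_option autoImplicit false
set_option linter.style.haveILetI false
set_option backward.isDefEq.respectTransparency.types false

universe u

open CategoryTheory CategoryTheory.Limits CategoryTheory.Abelian AlgebraicGeometry Opposite IsLocalRing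

noncomputable section

namespace Groth.Agent.DixBrauer.PointRpush

open CdLib

/-- Torsion classes of degree `≥ 1` die if the kernels of the multiplications have no cohomology. -/
theorem eq_zero_of_torsion {C : Type*} [Category C] [Abelian C] [HasExt C] {P G : C} (q : ℕ)
    (hepi : ∀ p : ℕ, p.Prime → Epi (p • 𝟙 G))
    (hker : ∀ p : ℕ, p.Prime → ∀ N : C, p • 𝟙 N = 0 → Subsingleton (Ext P N (q + 1)))
    (ξ : Ext P G (q + 1)) (hfin : IsOfFinAddOrder ξ) : ξ = 0 := by
  have key : ∀ (p : ℕ), p.Prime → ∀ z : Ext P G (q + 1), p • z = 0 → z = 0 := by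
    intro p hp z hz
    haveI := hepi p hp
    refine Kummer.eq_zero_of_nsmul_eq_zero p _ q ?_ ?_ z hz
    · refine hker p hp _ ?_
      rw [← cancel_mono (kernel.ι (p • 𝟙 G)), zero_comp]
      exact (Kummer.nsmul_id_comp _ p).trans ((Kummer.comp_nsmul_id _ p).symm.trans (kernel.condition _))
    · exact subsingleton_of_forall_eq 0 fun x => by
        rw [← Ext.comp_mk₀_id x, (isZero_cokernel_of_epi (p • 𝟙 G)).eq_of_src (𝟙 _) 0, Ext.mk₀_zero,
          Ext.comp_zero]
  by_contra hne
  have hn1 : addOrderOf ξ ≠ 1 := mt AddMonoid.addOrderOf_eq_one_iff.1 hne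
  obtain ⟨p, hp, m, hm⟩ := Nat.exists_prime_and_dvd hn1
  have h0 : p • (m • ξ) = 0 := by rw [← mul_nsmul', ← hm]; exact addOrderOf_nsmul_eq_zero ξ
  have hm0 : 0 < m := by
    rcases Nat.eq_zero_or_pos m with rfl | h
    · rw [mul_zero] at hm; exact absurd hm hfin.addOrderOf_pos.ne'
    · exact h
  have := addOrderOf_le_of_nsmul_eq_zero hm0 (key p hp _ h0)
  have := hp.two_le
  nlinarith

/-- Multiplication stays epi under a left adjoint. -/
theorem epi_nsmul_map {C D : Type*} [Category C] [Category D] [Abelian C] [Abelian D] (F : C ⥤ D)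
    [F.IsLeftAdjoint] [F.Additive] {A : C} (n : ℕ) [Epi (n • 𝟙 A)] : Epi (n • 𝟙 (F.obj A)) := by
  have h : F.map (n • 𝟙 A) = n • 𝟙 (F.obj A) := by rw [Functor.map_nsmul, F.map_id]
  rw [← h]
  infer_instance

/-- Cohomology in degrees `≥ 2` of a pulled back multiplicative group over a field of `cd ≤ 1`. -/
theorem subsingleton_H_pull_Gm {K : Type u} [Field K] [CharZero K] (L : Type u) [Field L]
    (π : Spec (CommRingCat.of L) ⟶ Spec (CommRingCat.of K))
    (hcd : ∀ ℓ : ℕ, ℓ.Prime → Dix.CohDimLEAt (Spec (CommRingCat.of L)) ℓ 1) (q : ℕ) :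
    Subsingleton (EtCoh.H (Spec (CommRingCat.of L))
      ((EtCoh.pull π).obj (EtCoh.Gm (Spec (CommRingCat.of K)))) (q + 2)) := by
  refine subsingleton_of_forall_eq 0 fun ξ => eq_zero_of_torsion (q + 1) (fun p hp => ?_)
    (fun p hp N hN => hcd p hp N (Kummer.isPrimaryTorsion_of_nsmul_id hN) _ (by omega)) ξ
    (TorsionCoh.isOfFinAddOrder_field L _ (q + 1) ξ)
  have hu : IsUnit (p : Γ(Spec (CommRingCat.of K), ⊤)) := by
    have h : IsUnit ((p : ℕ) : K) := isUnit_iff_ne_zero.2 (Nat.cast_ne_zero.2 hp.ne_zero)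
    have h' := h.map (Scheme.ΓSpecIso (CommRingCat.of K)).inv.hom
    rwa [map_natCast] at h'
  have he : Epi (EtCoh.powMap (Spec (CommRingCat.of K)) p) := S0108.result _ p hu
  haveI : (EtCoh.pull π).IsLeftAdjoint := (EtCoh.pullPushAdj π).isLeftAdjoint
  haveI : (EtCoh.pull π).Additive := (EtCoh.pullPushAdj π).left_adjoint_additive
  exact @epi_nsmul_map _ _ _ _ _ _ (EtCoh.pull π) _ _ _ p he

variable (X : Scheme.{u}) [AlgebraicGeometry.IsNoetherian X] [IsIntegral X]
  (hdim : ∀ y : X, ringKrullDim (X.presheaf.stalk y) ≤ 1)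
  (hnorm : ∀ y : X, IsIntegrallyClosed (X.presheaf.stalk y))

include hdim hnorm in
/-- The fields of the branches at a closed point have `cd ≤ 1`. -/
theorem cohDimLEAt_branch (hchar : ∀ y : X, CharZero (X.residueField y)) {y : X}
    (φ : Branch.Br (CdLib.PointPush.ι (genericPoint X)) (EtaleStrictHens.ξ y)) (hne : genericPoint X ≠ y)
    (ℓ : ℕ) [Fact ℓ.Prime] : Dix.CohDimLEAt (Spec (CommRingCat.of (Branch.L φ))) ℓ 1 := by
  have hxy : genericPoint X ⤳ y := BranchPrime.specializes φ
  let A : Type u := X.presheaf.stalk y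
  let R : Type u := EtBase.etaleLocalRing (EtaleStrictHens.ξ y)
  haveI : HenselianLocalRing R := Hensel.IsStrictHenselization.henselian A
  have hsc := Hensel.IsStrictHenselization.isSepClosure (R := A) (S := R)
  haveI : IsSepClosed (ResidueField R) := hsc.sep_closed
  have hy1 : DimFormula.codim y = 1 := by
    have h1 := DimFormula.codim_mono_add hxy
    have h2 : DimFormula.cd (genericPoint X) y ≠ 0 := fun h => hne ((DimFormula.cd_eq_zero_iff hxy).1 h)
    have h3 := CurveCd.codim_le X hdim y
    omega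
  have hker : RingHom.ker (Cyc.specMap y (genericPoint X) hxy) = ⊥ := by
    refine (RingHom.injective_iff_ker_eq_bot _).1 ?_
    intro a b hab
    refine IsFractionRing.injective A X.functionField ?_
    have hf : IsField (X.presheaf.stalk (genericPoint X)) := Field.toIsField X.functionField
    letI := hf.toField
    exact (RingHom.injective (X.residue (genericPoint X)).hom) hab
  have hnf : ¬ IsField A := fun h => by
    have := ringKrullDim_eq_zero_of_isField h
    rw [DimFormula.ringKrullDim_stalk, hy1] at this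
    exact one_ne_zero (α := WithBot ℕ∞) this
  haveI := CurveCd.isDVR_stalk X hdim hnorm y hnf
  haveI : IsNoetherianRing A := inferInstance
  have hlike := Hensel.isHenzLike_of_isStrictHenselization A R
  haveI := hlike.isNoetherianRing_iff.mp inferInstance
  obtain ⟨hR, hdvr⟩ := (S9262.dvr_iff R).2 ⟨hlike.isRegularLocalRing_iff.1
    ((S9262.dvr_iff A).1 ⟨inferInstance, inferInstance⟩).1, hlike.ringKrullDim_eq ▸
      ((S9262.dvr_iff A).1 ⟨inferInstance, inferInstance⟩).2⟩
  haveI := hR
  haveI := hdvr
  have hP := BranchPrime.mem_minimalPrimes φ hxy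
  rw [hker, Ideal.map_bot] at hP
  haveI hPp : (BranchPrime.P φ).IsPrime := hP.1.1
  have hPbot : BranchPrime.P φ = ⊥ := le_antisymm (hP.2 ⟨Ideal.isPrime_bot, le_rfl⟩ bot_le) bot_le
  haveI : CharZero (ResidueField R) := by
    letI : Algebra (ResidueField A) (ResidueField R) := (ResidueField.map (algebraMap A R)).toAlgebra
    haveI : CharZero (ResidueField A) := hchar y
    exact charZero_of_injective_algebraMap (algebraMap (ResidueField A) (ResidueField R)).injective
  have hS := CurveCd.isStrictField_fractionRing R (BranchPrime.P φ) hPbot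
  have hcd := StrictDVR.cohDimLEAt_one _ hS ℓ
  let e : Spec (CommRingCat.of (Branch.L φ)) ≅ Spec (CommRingCat.of (FractionRing (R ⧸ BranchPrime.P φ))) :=
    Scheme.Spec.mapIso (BranchPrime.fracEquiv φ).toCommRingCatIso.op
  intro G hG q hq
  haveI := EtFound.pull_preservesFiniteLimits e.inv
  have h := TorsionClass.subsingleton_H_pull_of_iso e (𝟙 _) G q
    (hcd _ (Supp.isPrimaryTorsion_pull ℓ _ hG) q hq)
  exact ExtVanish.ext_of_iso ((EtBCA.pullIdIso _).app G) _ q h

include hdim hnorm in
/-- `R^{b+1} j_* G_m = 0` for the generic point. -/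
theorem isZero_rpush_Gm (hchar : ∀ y : X, CharZero (X.residueField y)) (b : ℕ) :
    IsZero ((EtCoh.Rpush (CdLib.PointPush.ι (genericPoint X)) (b + 1)).obj
      (EtCoh.Gm (Spec (X.residueField (genericPoint X))))) := by
  rcases b with _ | b
  · exact DixBrauer.PointPush.isZero_rpush_one_Gm (k := X.residueField (genericPoint X)) _
  haveI : QuasiCompact (CdLib.PointPush.ι (genericPoint X)) := quasiCompact_of_compactSpace _
  refine Supp.isZero_of_supp_eq_empty _ (Set.eq_empty_of_forall_notMem fun y hy => ?_)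
  refine S3491.not_subsingleton_stalk _ y hy ?_
  refine StalkVanish.subsingleton_stalk_Rpush (K := X.residueField (genericPoint X)) (b + 1) _ fun φ => ?_
  by_cases hne : genericPoint X = y
  · subst hne
    exact @SepAcyclic.subsingleton_H_integral (Branch.L φ) _ (BranchPrime.isSepClosed_L_self φ) _
      (𝟙 (Spec (CommRingCat.of (Branch.L φ)))) (MorphismProperty.id_mem @IsIntegralHom _) (b + 1) _
  · haveI : CharZero (X.residueField (genericPoint X)) := hchar _
    exact subsingleton_H_pull_Gm (K := X.residueField (genericPoint X)) (Branch.L φ) (Branch.π φ)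
      (fun ℓ hℓ => haveI := Fact.mk hℓ; cohDimLEAt_branch X hdim hnorm hchar φ hne ℓ) b

end Groth.Agent.DixBrauer.PointRpush
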