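import Groth.Agent.AzumayaX.SepAdjoin
import Mathlib.RingTheory.Etale.Field
import Mathlib.RingTheory.Unramified.Field
import Mathlib.FieldTheory.IsAlgClosed.AlgebraicClosure
import Mathlib.FieldTheory.Perfect

/-!
Separable elements of finite dimensional algebras and commutative algebras all of whose elements
are separable.
-/

universe u v w

set_option linter.style.haveILetI false

namespace Groth.Agent.DixBrauer

open Polynomial TensorProduct

variable {k : Type u} [Field k] {B : Type v} [Ring B] [Algebra k B]

/-- If no polynomial in `1 ⊗ z` over the algebraic closure squares to zero without being zero,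
then `z` is separable. -/
theorem separable_minpoly_of_sq {z : B} (hint : IsIntegral k z)
    (H : ∀ h : (AlgebraicClosure k)[X],
      aeval ((1 : AlgebraicClosure k) ⊗ₜ[k] z) h ^ 2 = 0 →
        aeval ((1 : AlgebraicClosure k) ⊗ₜ[k] z) h = 0) :
    (minpoly k z).Separable := by
  classical
  set Ω := AlgebraicClosure k
  set z' : Ω ⊗[k] B := 1 ⊗ₜ z
  set m := minpoly k z
  by_contra hsep
  obtain ⟨α, hα⟩ : ∃ α : Ω, (X - C α) ^ 2 ∣ m.map (algebraMap k Ω) := by
    by_contra! hc
    refine hsep ((Polynomial.separable_map (algebraMap k Ω)).1 ?_)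
    refine PerfectField.separable_iff_squarefree.2 fun q hq => ?_
    by_contra hu
    obtain ⟨α, hα⟩ := IsAlgClosed.exists_root q (fun hd => hu (Polynomial.isUnit_iff_degree_eq_zero.2 hd))
    exact hc α (by
      rw [sq]
      exact (mul_dvd_mul (dvd_iff_isRoot.2 hα) (dvd_iff_isRoot.2 hα)).trans hq)
  obtain ⟨g, hg⟩ := hα
  have hm0 : aeval z' (m.map (algebraMap k Ω)) = 0 := by
    have : z' = Algebra.TensorProduct.includeRight (R := k) (A := Ω) z := rfl
    rw [aeval_map_algebraMap, this, aeval_algHom_apply, minpoly.aeval, map_zero]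
  set h := (X - C α) * g with hh
  have hh0 : aeval z' h = 0 := by
    refine H h ?_
    rw [← map_pow, show h ^ 2 = m.map (algebraMap k Ω) * g by rw [hg, hh]; ring, map_mul, hm0,
      zero_mul]
  have hmne : m.map (algebraMap k Ω) ≠ 0 :=
    (Polynomial.map_ne_zero_iff (algebraMap k Ω).injective).2 (minpoly.ne_zero hint)
  have hg0 : g ≠ 0 := fun h0 => hmne (by rw [hg, h0, mul_zero])
  have hne : h ≠ 0 := mul_ne_zero (X_sub_C_ne_zero α) hg0
  have hdeg : h.natDegree < m.natDegree := by
    have e1 : m.natDegree = (m.map (algebraMap k Ω)).natDegree := (natDegree_map _).symm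
    rw [e1, hg, hh, natDegree_mul (X_sub_C_ne_zero α) hg0,
      natDegree_mul (pow_ne_zero 2 (X_sub_C_ne_zero α)) hg0, natDegree_pow, natDegree_X_sub_C]
    omega
  -- powers below the degree stay independent
  have hli : LinearIndependent k fun i : Fin m.natDegree => z ^ (i : ℕ) := linearIndependent_pow z
  have hliΩ : Function.Injective
      ((Fintype.linearCombination k fun i : Fin m.natDegree => z ^ (i : ℕ)).baseChange Ω) := by
    have hinj : Function.Injective
        (Fintype.linearCombination k fun i : Fin m.natDegree => z ^ (i : ℕ)) := by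
      rw [Fintype.linearIndependent_iff] at hli
      rw [injective_iff_map_eq_zero]
      intro c hc
      funext i
      exact hli c (by simpa [Fintype.linearCombination_apply] using hc) i
    exact Module.Flat.lTensor_preserves_injective_linearMap _ hinj
  let w : Ω ⊗[k] (Fin m.natDegree → k) := ∑ i : Fin m.natDegree, h.coeff (i : ℕ) ⊗ₜ[k] (Pi.single i 1 : Fin m.natDegree → k)
  have hw : (Fintype.linearCombination k fun i : Fin m.natDegree => z ^ (i : ℕ)).baseChange Ω w =
      aeval z' h := by
    rw [aeval_eq_sum_range' hdeg, map_sum, ← Fin.sum_univ_eq_sum_range]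
    refine Finset.sum_congr rfl fun i _ => ?_
    simp [z', Algebra.TensorProduct.tmul_pow, TensorProduct.smul_tmul']
  have hw0 : w = 0 := hliΩ (by rw [hw, hh0, map_zero])
  refine hne (Polynomial.ext fun i => ?_)
  rcases lt_or_ge i m.natDegree with hi | hi
  · have := congrArg (TensorProduct.piScalarRight k Ω Ω (Fin m.natDegree)) hw0
    have h2 := congrFun this ⟨i, hi⟩
    simpa [w, Pi.single_apply] using h2
  · rw [coeff_zero]
    exact coeff_eq_zero_of_natDegree_lt (lt_of_lt_of_le hdeg hi)

/-- Elements of finite étale algebras over a field are separable. -/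
theorem isSeparable_of_etale (k : Type u) [Field k] (E : Type v) [CommRing E] [Algebra k E]
    [Algebra.Etale k E] [Module.Finite k E] : Algebra.IsSeparable k E := by
  refine ⟨fun z => separable_minpoly_of_sq (IsIntegral.of_finite k z) fun h hh => ?_⟩
  haveI := Algebra.FormallyUnramified.isReduced_of_field (AlgebraicClosure k)
    (AlgebraicClosure k ⊗[k] E)
  exact IsReduced.eq_zero _ ⟨2, hh⟩

theorem isSeparable_of_surjective {E : Type w} [Ring E] [Algebra k E] {E' : Type v} [Ring E']
    [Algebra k E'] (f : E →ₐ[k] E') (hf : Function.Surjective f) [Algebra.IsSeparable k E] :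
    Algebra.IsSeparable k E' := ⟨fun y => by
  obtain ⟨x, rfl⟩ := hf y
  exact Polynomial.Separable.of_dvd (Algebra.IsSeparable.isSeparable k x)
    (minpoly.dvd k (f x) (by rw [aeval_algHom_apply, minpoly.aeval, map_zero]))⟩

/-- A commutative finite algebra with separable elements is étale. -/
theorem etale_of_isSeparable (k : Type u) [Field k] (E : Type v) [CommRing E] [Algebra k E]
    [Module.Finite k E] [Algebra.IsSeparable k E] : Algebra.Etale k E := by
  haveI : IsArtinianRing E := isArtinian_of_tower k inferInstance
  haveI : IsReduced E := ⟨fun x hx => by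
    rcases subsingleton_or_nontrivial E with hE | hE
    · exact Subsingleton.elim _ _
    obtain ⟨n, hn⟩ := hx
    have hs : (minpoly k x).Separable := Algebra.IsSeparable.isSeparable k x
    have hdvd : minpoly k x ∣ X ^ n := minpoly.dvd k x (by simp [hn])
    have hd1 : minpoly k x ∣ X := (hs.squarefree.dvd_pow_iff_dvd (fun h0 => by
        simp [h0] at hn)).1 hdvd
    simpa using aeval_eq_zero_of_dvd_aeval_eq_zero hd1 (minpoly.aeval k x)⟩
  haveI : ∀ m : MaximalSpectrum E, Algebra.FormallyEtale k (E ⧸ m.asIdeal) := fun m => by
    letI := Ideal.Quotient.field m.asIdeal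
    haveI := isSeparable_of_surjective (Ideal.Quotient.mkₐ k m.asIdeal)
      Ideal.Quotient.mk_surjective
    exact Algebra.FormallyEtale.of_isSeparable k _
  haveI : Algebra.FormallyEtale k (Π m : MaximalSpectrum E, E ⧸ m.asIdeal) :=
    (Algebra.FormallyEtale.pi_iff (R := k) fun m : MaximalSpectrum E => E ⧸ m.asIdeal).2 this
  refine ⟨?_, Algebra.FinitePresentation.of_finiteType.mp inferInstance⟩
  refine Algebra.FormallyEtale.of_equiv
    (A := Π m : MaximalSpectrum E, E ⧸ m.asIdeal) ?_
  exact ((IsArtinianRing.equivPi E).restrictScalars k).symm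

/-- The algebra generated by a separable element consists of separable elements. -/
theorem isSeparable_adjoin_of_separable {b : B} (hb : (minpoly k b).Separable) :
    Algebra.IsSeparable k (Algebra.adjoin k ({b} : Set B)) := by
  rcases em (IsIntegral k b) with hint | hint
  · haveI : Module.Finite k (AdjoinRoot (minpoly k b)) := (minpoly.monic hint).finite_adjoinRoot
    haveI : Algebra.Etale k (AdjoinRoot (minpoly k b)) :=
      AzumayaX.etale_adjoinRoot (minpoly.monic hint) hb
    haveI := isSeparable_of_etale k (AdjoinRoot (minpoly k b))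
    let u := CSALib.adjoinRootHom k b
    have hr : u.range = Algebra.adjoin k ({b} : Set B) := by
      rw [← Algebra.map_top, ← AdjoinRoot.adjoinRoot_eq_top, AlgHom.map_adjoin, Set.image_singleton,
        CSALib.adjoinRootHom_root k b]
    rw [← hr]
    exact isSeparable_of_surjective u.rangeRestrict u.rangeRestrict_surjective
  · rw [minpoly.eq_zero hint] at hb
    exact absurd hb not_separable_zero

end Groth.Agent.DixBrauer
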