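import Groth.Agent.CSALib.Index
import Groth.Agent.S7721
import Mathlib.FieldTheory.SeparableClosure
import Mathlib.FieldTheory.IntermediateField.Adjoin.Basic

/-!
Triviality of Brauer groups over a separable algebraic extension and splitting by it.
-/

universe u

set_option linter.style.haveILetI false

namespace Groth.Agent.DixBrauer

open TensorProduct

variable (K F : Type u) [Field K] [Field F] [Algebra K F]

theorem split_of_trivial_brauer [Algebra.IsSeparable K F]
    (h : ∀ (F' : Type u) [Field F'] [Algebra F F'] [FiniteDimensional F F'] [Algebra.IsSeparable F F']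
      (D : Type u) [DivisionRing D] [Algebra F' D] [Algebra.IsCentral F' D] [FiniteDimensional F' D],
      Module.finrank F' D = 1)
    (E : Type u) [Field E] [Algebra K E] [FiniteDimensional K E] [Algebra.IsSeparable K E]
    (D : Type u) [DivisionRing D] [Algebra E D] [Algebra.IsCentral E D] [FiniteDimensional E D]
    (M : Type u) [Field M] [Algebra K M] [Algebra E M] [Algebra F M] [IsScalarTower K E M]
    [IsScalarTower K F M] :
    ∃ n : ℕ, Nonempty ((M ⊗[E] D) ≃ₐ[M] Matrix (Fin n) (Fin n) M) := by
  classical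
  let b := Module.finBasis K E
  have hsep : ∀ i, IsSeparable F (algebraMap E M (b i)) := fun i => by
    refine IsSeparable.tower_top (F := K) F ?_
    unfold IsSeparable
    rw [minpoly.algebraMap_eq (algebraMap E M).injective]
    exact Algebra.IsSeparable.isSeparable K (b i)
  let F' : IntermediateField F M := IntermediateField.adjoin F (Set.range fun i => algebraMap E M (b i))
  haveI : FiniteDimensional F F' := IntermediateField.finiteDimensional_adjoin fun x hx => by
    obtain ⟨i, rfl⟩ := hx
    exact (hsep i).isIntegral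
  haveI : Algebra.IsSeparable F F' :=
    (IntermediateField.isSeparable_adjoin_iff_isSeparable F M).2 fun x hx => by
      obtain ⟨i, rfl⟩ := hx
      exact hsep i
  have hEF : ∀ e : E, algebraMap E M e ∈ F' := fun e => by
    rw [← b.sum_repr e, map_sum]
    refine sum_mem fun i _ => ?_
    rw [Algebra.smul_def, map_mul, ← IsScalarTower.algebraMap_apply K E M,
      IsScalarTower.algebraMap_apply K F M]
    exact mul_mem (IntermediateField.algebraMap_mem F' _) (IntermediateField.subset_adjoin F _ ⟨i, rfl⟩)
  letI : Algebra E F' := ((algebraMap E M).codRestrict F'.toSubfield hEF).toAlgebra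
  haveI : IsScalarTower E F' M := IsScalarTower.of_algebraMap_eq fun _ => rfl
  haveI : Algebra.IsCentral F' (F' ⊗[E] D) := CSALib.isCentral_baseChange E D F'
  haveI : IsSimpleRing (F' ⊗[E] D) := CSALib.isSimpleRing_baseChange E D F'
  obtain ⟨n, hn, D', _, _, _, _, ⟨e⟩⟩ := CSALib.exists_division F' (F' ⊗[E] D)
  have h1 : Module.finrank F' D' = 1 := h F' D'
  have hbij : Function.Bijective (algebraMap F' D') :=
    ⟨(algebraMap F' D').injective, fun x => by
      obtain ⟨c, hc⟩ := (finrank_eq_one_iff_of_nonzero' (1 : D') one_ne_zero).1 h1 x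
      exact ⟨c, by rw [← hc, Algebra.algebraMap_eq_smul_one]⟩⟩
  have hs : CSALib.Similar F' (F' ⊗[E] D) F' := CSALib.similar_of_algEquiv_matrix hn.out
    (e.trans (AlgEquiv.ofBijective (Algebra.ofId F' D') hbij).symm.mapMatrix)
  have hM : CSALib.Similar M (M ⊗[E] D) M := CSALib.Similar.splitMono (K := F') M hs
  haveI : Algebra.IsCentral M (M ⊗[E] D) := CSALib.isCentral_baseChange E D M
  haveI : IsSimpleRing (M ⊗[E] D) := CSALib.isSimpleRing_baseChange E D M
  obtain ⟨n, -, hn⟩ := CSALib.similar_field_iff.1 hM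
  exact ⟨n, hn⟩

theorem trivial_brauer_of_split [Algebra.IsSeparable K F]
    (h : ∀ (E : Type u) [Field E] [Algebra K E] [FiniteDimensional K E] [Algebra.IsSeparable K E]
      (D : Type u) [DivisionRing D] [Algebra E D] [Algebra.IsCentral E D] [FiniteDimensional E D]
      (M : Type u) [Field M] [Algebra K M] [Algebra E M] [Algebra F M] [IsScalarTower K E M]
      [IsScalarTower K F M],
      ∃ n : ℕ, Nonempty ((M ⊗[E] D) ≃ₐ[M] Matrix (Fin n) (Fin n) M))
    (F' : Type u) [Field F'] [Algebra F F'] [FiniteDimensional F F'] [Algebra.IsSeparable F F']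
    (D : Type u) [DivisionRing D] [Algebra F' D] [Algebra.IsCentral F' D] [FiniteDimensional F' D] :
    Module.finrank F' D = 1 := by
  classical
  letI : Algebra K F' := ((algebraMap F F').comp (algebraMap K F)).toAlgebra
  haveI : IsScalarTower K F F' := IsScalarTower.of_algebraMap_eq fun _ => rfl
  haveI : Algebra.IsSeparable K F' := Algebra.IsSeparable.trans K F F'
  let b := Module.finBasis F' D
  let S : Set F' := Set.range (fun x : Fin _ × Fin _ × Fin _ => b.repr (b x.1 * b x.2.1) x.2.2) ∪
    Set.range (fun i => b.repr 1 i)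
  let E : IntermediateField K F' := IntermediateField.adjoin K S
  haveI : FiniteDimensional K E := by
    have : Finite S := ((Set.finite_range _).union (Set.finite_range _)).to_subtype
    exact IntermediateField.finiteDimensional_adjoin fun x _ => Algebra.IsIntegral.isIntegral x
  haveI : Algebra.IsSeparable K E := Algebra.isSeparable_tower_bot_of_isSeparable K E F'
  haveI : Algebra.IsAlgebraic K F' := inferInstance
  haveI : Algebra.IsAlgebraic E F' := Algebra.IsAlgebraic.tower_top (K := K) E
  let P : Submodule E D := Submodule.span E (Set.range b)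
  have hcoef : ∀ v : D, (∀ i, b.repr v i ∈ E) → v ∈ P := fun v hv => by
    rw [← b.sum_repr v]
    refine sum_mem fun i _ => ?_
    rw [show b.repr v i • b i = (⟨b.repr v i, hv i⟩ : E) • b i from
      (algebraMap_smul F' (⟨b.repr v i, hv i⟩ : E) (b i))]
    exact P.smul_mem _ (Submodule.subset_span ⟨i, rfl⟩)
  have hone : (1 : D) ∈ P := hcoef 1 fun i =>
    IntermediateField.subset_adjoin K S (Or.inr ⟨i, rfl⟩)
  have hmul : ∀ x y, x ∈ P → y ∈ P → x * y ∈ P := by
    intro x y hx hy
    refine Submodule.span_induction₂ (p := fun x y _ _ => x * y ∈ P) ?_ (by simp) (by simp)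
      (fun _ _ _ _ _ _ h₁ h₂ => by rw [add_mul]; exact add_mem h₁ h₂)
      (fun _ _ _ _ _ _ h₁ h₂ => by rw [mul_add]; exact add_mem h₁ h₂)
      (fun r _ _ _ _ h₁ => by rw [smul_mul_assoc]; exact P.smul_mem r h₁)
      (fun r _ _ _ _ h₁ => by rw [mul_smul_comm]; exact P.smul_mem r h₁) hx hy
    rintro _ _ ⟨i, rfl⟩ ⟨j, rfl⟩
    exact hcoef _ fun p => IntermediateField.subset_adjoin K S (Or.inl ⟨(i, j, p), rfl⟩)
  let D₀ : Subalgebra E D := P.toSubalgebra hone hmul
  have hli : LinearIndependent E b := b.linearIndependent.restrict_scalars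
    (fun p q h => Subtype.ext (by simpa [Algebra.smul_def] using h))
  let bP : Module.Basis _ E D₀ := Module.Basis.span hli
  haveI : Module.Finite E D₀ := Module.Finite.of_basis bP
  let Φ : F' ⊗[E] D₀ →ₐ[F'] D :=
    Algebra.TensorProduct.lift (Algebra.ofId F' D) D₀.val fun a x => Algebra.commutes a (x : D)
  have hsurj : Function.Surjective Φ := fun v => by
    refine ⟨∑ i, b.repr v i ⊗ₜ ⟨b i, Submodule.subset_span ⟨i, rfl⟩⟩, ?_⟩
    conv_rhs => rw [← b.sum_repr v]
    rw [map_sum]
    refine Finset.sum_congr rfl fun i _ => ?_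
    exact (Algebra.TensorProduct.lift_tmul _ _ _ _ _).trans (Algebra.smul_def _ _).symm
  have hrank : Module.finrank F' (F' ⊗[E] D₀) = Module.finrank F' D := by
    rw [Module.finrank_baseChange, Module.finrank_eq_card_basis bP, Fintype.card_fin]
  let e : F' ⊗[E] D₀ ≃ₐ[F'] D := AlgEquiv.ofBijective Φ
    ⟨(LinearMap.injective_iff_surjective_of_finrank_eq_finrank (f := Φ.toLinearMap) hrank).2 hsurj,
      hsurj⟩
  obtain ⟨hc, hs⟩ := (S7721.result E F' D₀).2
    ⟨Algebra.IsCentral.of_algEquiv F' D _ e.symm,
      IsSimpleRing.of_ringEquiv e.symm.toRingEquiv inferInstance⟩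
  obtain ⟨m, hm, D₁, _, _, _, _, ⟨f⟩⟩ := CSALib.exists_division E D₀
  haveI : IsScalarTower K E F' := inferInstance
  obtain ⟨n, ⟨g⟩⟩ := h E D₁ F'
  have hn : n ≠ 0 := by
    rintro rfl
    haveI := CSALib.isSimpleRing_baseChange E D₁ F'
    have : Subsingleton (F' ⊗[E] D₁) := g.injective.subsingleton
    exact not_subsingleton (F' ⊗[E] D₁) this
  have h2 : CSALib.Similar F' D F' :=
    ((CSALib.similar_of_algEquiv e.symm).trans
      ((CSALib.similar_of_algEquiv_matrix hm.out f).baseChange F')).trans
      (CSALib.similar_of_algEquiv_matrix hn g)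
  obtain ⟨d⟩ := CSALib.similar_division_unique h2
  rw [d.toLinearEquiv.finrank_eq, Module.finrank_self]

end Groth.Agent.DixBrauer
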