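import Groth.Agent.DixBrauer.BrauerNorm
import Groth.Agent.CdField.C1Fields
import Groth.Agent.Hensel.IntegralStrict
import Mathlib.RingTheory.DedekindDomain.IntegralClosure
import Mathlib.RingTheory.DiscreteValuationRing.TFAE

/-!
Cohomological dimension of the fraction field of a strictly henselian discrete valuation ring of residue
characteristic zero.
-/

set_option autoImplicit false
set_option linter.style.haveILetI false
set_option linter.unusedSectionVars false
set_option backward.isDefEq.respectTransparency.types false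

universe u

open CategoryTheory CategoryTheory.Limits AlgebraicGeometry Opposite IsLocalRing Polynomial

noncomputable section

namespace Groth.Agent.DixBrauer.StrictDVR

/-- The fields which are fraction fields of strictly henselian discrete valuation rings of residue
characteristic zero. -/
def IsStrictField (E : Type u) [Field E] : Prop :=
  ∃ (R : Type u) (_ : CommRing R) (_ : IsDomain R) (_ : IsDiscreteValuationRing R) (_ : HenselianLocalRing R)
    (_ : IsSepClosed (ResidueField R)) (_ : CharZero (ResidueField R)) (_ : Algebra R E), IsFractionRing R E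

section ext

variable (R : Type u) [CommRing R] [IsDomain R] [IsDiscreteValuationRing R] [HenselianLocalRing R]
  [IsSepClosed (ResidueField R)] [CharZero (ResidueField R)]
  (K L : Type u) [Field K] [Algebra R K] [IsFractionRing R K]
  [Field L] [Algebra K L] [Algebra R L] [IsScalarTower R K L] [FiniteDimensional K L]

include R K

theorem injective_algebraMap : Function.Injective (algebraMap R L) := by
  rw [IsScalarTower.algebraMap_eq R K L]
  exact (algebraMap K L).injective.comp (IsFractionRing.injective R K)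

theorem charZero : CharZero K :=
  have : CharZero R := ⟨fun a b h => Nat.cast_injective (R := ResidueField R) (by
    rw [← map_natCast (residue R), h, map_natCast])⟩
  charZero_of_injective_algebraMap (IsFractionRing.injective R K)

theorem isSeparable : Algebra.IsSeparable K L :=
  haveI := charZero R K
  inferInstance

theorem exists_closure : ∃ (_ : IsLocalRing (integralClosure R L)) (_ : IsDiscreteValuationRing (integralClosure R L))
    (_ : HenselianLocalRing (integralClosure R L)) (_ : IsLocalHom (algebraMap R (integralClosure R L))),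
      Function.Surjective (ResidueField.map (algebraMap R (integralClosure R L))) ∧
        IsSepClosed (ResidueField (integralClosure R L)) ∧ CharZero (ResidueField (integralClosure R L)) ∧
          IsFractionRing (integralClosure R L) L := by
  haveI := isSeparable R K L
  let S := integralClosure R L
  haveI : IsFractionRing S L := IsIntegralClosure.isFractionRing_of_finite_extension R K L S
  haveI : IsLocalRing S := Hensel.isLocalRing_of_isIntegral_domain R S
  haveI : IsDedekindDomain S := integralClosure.isDedekindDomain R K L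
  haveI hloc : IsLocalHom (algebraMap R S) := Hensel.isLocalHom_of_isIntegral_local R S
  have hnf : ¬ IsField S := by
    intro hS
    apply IsDiscreteValuationRing.not_isField R
    exact isField_of_isIntegral_of_isField
      (fun a b h => injective_algebraMap R K L (congrArg (fun x : S => (x : L)) h)) hS
  haveI : IsDiscreteValuationRing S :=
    ((IsDiscreteValuationRing.TFAE S hnf).out 2 0).mp ‹IsDedekindDomain S›
  haveI : HenselianLocalRing S := Hensel.henselianLocalRing_of_isIntegral_local R S
  obtain ⟨hsc, hpi⟩ := Hensel.residueField_of_isIntegral R S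
  letI algk : Algebra (ResidueField R) (ResidueField S) := (ResidueField.map (algebraMap R S)).toAlgebra
  haveI : IsPurelyInseparable (ResidueField R) (ResidueField S) := hpi
  haveI : CharZero (ResidueField S) :=
    charZero_of_injective_algebraMap (algebraMap (ResidueField R) (ResidueField S)).injective
  exact ⟨inferInstance, inferInstance, inferInstance, inferInstance,
    IsPurelyInseparable.surjective_algebraMap_of_isSeparable (ResidueField R) (ResidueField S),
    hsc, inferInstance, inferInstance⟩

/-- Units of the valuation ring are norms. -/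
theorem exists_norm_unit (a : R) (ha : IsUnit a) : ∃ y : L, Algebra.norm K y = algebraMap R K a := by
  let n := Module.finrank K L
  have hn : 0 < n := Module.finrank_pos
  haveI : NeZero (n : ResidueField R) := ⟨by exact_mod_cast hn.ne'⟩
  have ha0 : residue R a ≠ 0 := residue_ne_zero_iff_isUnit _ |>.2 ha
  obtain ⟨c, hc⟩ := IsSepClosed.exists_root (X ^ n - C (residue R a))
    (by rw [degree_X_pow_sub_C hn]; exact_mod_cast hn.ne') (separable_X_pow_sub_C _ (NeZero.ne _) ha0)
  obtain ⟨b₀, rfl⟩ := residue_surjective c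
  simp only [IsRoot.def, eval_sub, eval_pow, eval_X, eval_C, sub_eq_zero] at hc
  have h1 : (X ^ n - C a : R[X]).eval b₀ ∈ maximalIdeal R := by
    rw [← residue_eq_zero_iff]
    simp [hc]
  have h2 : IsUnit ((X ^ n - C a : R[X]).derivative.eval b₀) := by
    have hb : residue R b₀ ≠ 0 := fun h => ha0 (by rw [← hc, h, zero_pow hn.ne'])
    rw [← residue_ne_zero_iff_isUnit]
    simp [derivative_X_pow, hb, NeZero.ne (n : ResidueField R)]
  obtain ⟨b, hb, -⟩ := HenselianLocalRing.is_henselian (X ^ n - C a) (monic_X_pow_sub_C a hn.ne') b₀ h1 h2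
  refine ⟨algebraMap R L b, ?_⟩
  rw [IsScalarTower.algebraMap_apply R K L, Algebra.norm_algebraMap, ← map_pow]
  simp only [IsRoot.def, eval_sub, eval_pow, eval_X, eval_C, sub_eq_zero] at hb
  rw [show Module.finrank K L = n from rfl, hb]

/-- A uniformizer is a norm. -/
theorem exists_norm_irreducible (ϖ : R) (hϖ : Irreducible ϖ) :
    ∃ y : L, Algebra.norm K y = algebraMap R K ϖ := by
  classical
  haveI := isSeparable R K L
  obtain ⟨_, _, _, _, hres, -, -, _⟩ := exists_closure R K L
  let S := integralClosure R L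
  haveI : Module.Finite R S := IsIntegralClosure.finite R K L S
  obtain ⟨π, hπ⟩ := IsDiscreteValuationRing.exists_irreducible S
  have hϖ0 : algebraMap R S ϖ ≠ 0 := fun h =>
    hϖ.ne_zero (injective_algebraMap R K L (by
      rw [map_zero]
      exact congrArg (fun x : S => (x : L)) h))
  obtain ⟨e, u, hu⟩ := IsDiscreteValuationRing.eq_unit_mul_pow_irreducible hϖ0 hπ
  -- the powers of `π` below `e` span
  let T : Set S := Set.range fun i : Fin e => π ^ (i : ℕ)
  have hdiv : ∀ (j : ℕ) (x : S), x ∈ Submodule.span R T ⊔ (Ideal.span {π ^ e}).restrictScalars R ∨ j < e ∧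
      ∃ y ∈ Submodule.span R T, ∃ z, x = y + π ^ j * z := by
    intro j
    induction j with
    | zero =>
      intro x
      rcases Nat.eq_zero_or_pos e with h | h
      · exact Or.inl (Submodule.mem_sup_right (by simp [h]))
      · exact Or.inr ⟨h, 0, zero_mem _, x, by simp⟩
    | succ j ih =>
      intro x
      rcases ih x with h | ⟨hj, y, hy, z, rfl⟩
      · exact Or.inl h
      obtain ⟨c, hc⟩ := hres (residue S z)
      obtain ⟨c, rfl⟩ := residue_surjective c
      have hm : z - algebraMap R S c ∈ maximalIdeal S := by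
        rw [← residue_eq_zero_iff, map_sub, ← hc, sub_eq_zero]
        rfl
      rw [hπ.maximalIdeal_eq, Ideal.mem_span_singleton] at hm
      obtain ⟨w, hw⟩ := hm
      have hy' : y + c • π ^ j ∈ Submodule.span R T :=
        add_mem hy (Submodule.smul_mem _ _ (Submodule.subset_span ⟨⟨j, hj⟩, rfl⟩))
      have hx : y + π ^ j * z = (y + c • π ^ j) + π ^ (j + 1) * w := by
        rw [Algebra.smul_def, eq_add_of_sub_eq hw]
        ring
      by_cases hj' : j + 1 < e
      · exact Or.inr ⟨hj', _, hy', w, hx⟩
      · refine Or.inl (hx ▸ add_mem (Submodule.mem_sup_left hy') (Submodule.mem_sup_right ?_))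
        rw [Submodule.restrictScalars_mem, show j + 1 = e by omega]
        exact Ideal.mul_mem_right _ _ (Ideal.mem_span_singleton_self _)
  have htop : (⊤ : Submodule R S) ≤ Submodule.span R T := by
    refine Submodule.le_of_le_smul_of_le_jacobson_bot Module.Finite.fg_top (maximalIdeal_le_jacobson _) ?_
    intro x _
    rcases hdiv e x with h | ⟨h, -⟩
    · obtain ⟨y, hy, z, hz, rfl⟩ := Submodule.mem_sup.1 h
      refine add_mem (Submodule.mem_sup_left hy) (Submodule.mem_sup_right ?_)
      rw [Submodule.restrictScalars_mem, Ideal.mem_span_singleton] at hz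
      obtain ⟨w, rfl⟩ := hz
      have : π ^ e * w = ϖ • ((↑u⁻¹ : S) * w) := by
        rw [Algebra.smul_def, hu]
        calc π ^ e * w = (↑u * ↑u⁻¹ : S) * (π ^ e * w) := by rw [Units.mul_inv, one_mul]
          _ = _ := by ring
      rw [this]
      exact Submodule.smul_mem_smul (hϖ.maximalIdeal_eq ▸ Ideal.mem_span_singleton_self ϖ) trivial
    · exact absurd h (lt_irrefl e)
  have hle : Module.finrank K L ≤ e := by
    have hT : Submodule.span K (Set.range fun i : Fin e => ((π ^ (i : ℕ) : S) : L)) = ⊤ := by
      refine eq_top_iff.2 fun x _ => ?_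
      obtain ⟨⟨s, d⟩, hs⟩ := IsIntegral.exists_multiple_integral_of_isLocalization
        (R := R) (nonZeroDivisors R) x (Algebra.IsIntegral.isIntegral (R := K) x)
      have h1 : ((⟨_, hs⟩ : S) : L) ∈ Submodule.span K (Set.range fun i : Fin e => ((π ^ (i : ℕ) : S) : L)) := by
        have h2 := Submodule.mem_map_of_mem (f := (S.val.toLinearMap : S →ₗ[R] L))
          (htop (x := (⟨_, hs⟩ : S)) trivial)
        rw [Submodule.map_span, ← Set.range_comp] at h2
        exact Submodule.span_le_restrictScalars R K _ h2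
      have hs0 : algebraMap R K s ≠ 0 := fun h =>
        nonZeroDivisors.ne_zero d (IsFractionRing.injective R K (h.trans (map_zero _).symm))
      have h3 := Submodule.smul_mem _ (algebraMap R K s)⁻¹ h1
      rwa [show ((⟨_, hs⟩ : S) : L) = algebraMap R K s • x from (IsScalarTower.algebraMap_smul K s x).symm,
        smul_smul, inv_mul_cancel₀ hs0, one_smul] at h3
    have := finrank_range_le_card (R := K) (fun i : Fin e => ((π ^ (i : ℕ) : S) : L))
    rwa [Set.finrank, hT, finrank_top, Fintype.card_fin] at this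
  -- the norm of `π`
  have hint : IsIntegral R (Algebra.norm K (π : L)) := Algebra.isIntegral_norm K π.2
  obtain ⟨a, ha⟩ := IsIntegrallyClosed.isIntegral_iff.1 hint
  have hintu : IsIntegral R (Algebra.norm K ((u : S) : L)) := Algebra.isIntegral_norm K (u : S).2
  obtain ⟨b, hb⟩ := IsIntegrallyClosed.isIntegral_iff.1 hintu
  have hintu' : IsIntegral R (Algebra.norm K (((u⁻¹ : Sˣ) : S) : L)) := Algebra.isIntegral_norm K ((u⁻¹ : Sˣ) : S).2
  obtain ⟨b', hb'⟩ := IsIntegrallyClosed.isIntegral_iff.1 hintu'
  have hbu : IsUnit b := IsUnit.of_mul_eq_one b' (IsFractionRing.injective R K (by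
    rw [map_mul, hb, hb', ← map_mul, ← Subalgebra.coe_mul, Units.mul_inv, Subalgebra.coe_one, map_one, map_one]))
  have hkey : ϖ ^ Module.finrank K L = b * a ^ e := IsFractionRing.injective R K (by
    rw [map_pow, map_mul, map_pow, ha, hb, ← map_pow, ← map_pow, ← map_mul]
    rw [show ((u : S) : L) * ((π : L)) ^ e = algebraMap R L ϖ from (congrArg (fun x : S => (x : L)) hu).symm]
    rw [IsScalarTower.algebraMap_apply R K L, Algebra.norm_algebraMap, map_pow])
  have ha0 : a ≠ 0 := by
    rintro rfl
    have h0 : (π : L) = 0 := Algebra.norm_eq_zero_iff.1 (by rw [← ha, map_zero])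
    exact hπ.ne_zero (Subtype.ext h0)
  have hn : 0 < Module.finrank K L := Module.finrank_pos
  obtain ⟨v, w, hw⟩ := IsDiscreteValuationRing.eq_unit_mul_pow_irreducible ha0 hϖ
  have hval : Module.finrank K L = v * e := by
    obtain ⟨bu, rfl⟩ := hbu
    rw [hw, mul_pow, ← mul_assoc, ← pow_mul] at hkey
    exact IsDiscreteValuationRing.unit_mul_pow_congr_pow hϖ hϖ 1 (bu * w ^ e) _ _
      (by simpa using hkey)
  have hv : v = 1 := by
    rcases Nat.lt_or_ge v 2 with h | h
    · interval_cases v
      · omega
      · rfl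
    · nlinarith
  subst hv
  obtain ⟨z, hz⟩ := exists_norm_unit R K L ((w⁻¹ : Rˣ) : R) (Units.isUnit _)
  refine ⟨z * (π : L), ?_⟩
  rw [map_mul, hz, ← ha, ← map_mul, hw, pow_one, Units.inv_mul_cancel_left]

/-- Norms are surjective. -/
theorem exists_norm_eq (x : K) (hx : x ≠ 0) : ∃ y : L, Algebra.norm K y = x := by
  obtain ⟨ϖ, hϖ⟩ := IsDiscreteValuationRing.exists_irreducible R
  obtain ⟨p, hp⟩ := exists_norm_irreducible R K L ϖ hϖ
  obtain ⟨a, b, hb, rfl⟩ := IsFractionRing.div_surjective R x
  have key : ∀ c : R, c ≠ 0 → ∃ y : L, Algebra.norm K y = algebraMap R K c := fun c hc => by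
    obtain ⟨i, w, rfl⟩ := IsDiscreteValuationRing.eq_unit_mul_pow_irreducible hc hϖ
    obtain ⟨z, hz⟩ := exists_norm_unit R K L (w : R) w.isUnit
    exact ⟨z * p ^ i, by rw [map_mul, map_mul, map_pow, hz, hp, map_pow]⟩
  have ha : a ≠ 0 := fun h => hx (by rw [h, map_zero, zero_div])
  obtain ⟨y₁, h₁⟩ := key a ha
  obtain ⟨y₂, h₂⟩ := key b (nonZeroDivisors.ne_zero hb)
  refine ⟨y₁ / y₂, eq_div_of_mul_eq (fun h => nonZeroDivisors.ne_zero hb
    (IsFractionRing.injective R K (h.trans (map_zero _).symm))) ?_⟩
  have hy₂ : y₂ ≠ 0 := fun h => nonZeroDivisors.ne_zero hb (IsFractionRing.injective R K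
    (by rw [← h₂, h, Algebra.norm_zero, map_zero]))
  rw [← h₂, ← map_mul, div_mul_cancel₀ _ hy₂, h₁]

end ext

/-- The class of fields. -/
def normClass : BrauerNorm.NormClass.{u} where
  mem E := IsStrictField E
  ext E F := fun ⟨R, _, _, _, _, _, _, _, _⟩ => by
    letI : Algebra R F := ((algebraMap E F).comp (algebraMap R E)).toAlgebra
    haveI : IsScalarTower R E F := IsScalarTower.of_algebraMap_eq' rfl
    obtain ⟨_, h2, h3, _, -, h5, h6, h7⟩ := exists_closure R E F
    exact ⟨integralClosure R F, inferInstance, inferInstance, h2, h3, h5, h6, inferInstance, h7⟩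
  norm E F := fun ⟨R, _, _, _, _, _, _, _, _⟩ => by
    letI : Algebra R F := ((algebraMap E F).comp (algebraMap R E)).toAlgebra
    haveI : IsScalarTower R E F := IsScalarTower.of_algebraMap_eq' rfl
    exact exists_norm_eq R E F

end Groth.Agent.DixBrauer.StrictDVR

namespace Groth.Agent.DixBrauer.StrictDVR

theorem exists_primitiveRoot (E : Type u) [Field E] (hE : IsStrictField E) (ℓ : ℕ) [hℓ : Fact ℓ.Prime] :
    (ℓ : E) ≠ 0 ∧ ∃ ζ : E, IsPrimitiveRoot ζ ℓ := by
  obtain ⟨R, _, _, _, _, _, _, _, _⟩ := hE
  haveI : CharZero E := charZero R E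
  refine ⟨Nat.cast_ne_zero.2 hℓ.out.ne_zero, ?_⟩
  haveI : NeZero (ℓ : ResidueField R) := ⟨Nat.cast_ne_zero.2 hℓ.out.ne_zero⟩
  haveI : NeZero (ℓ : E) := ⟨Nat.cast_ne_zero.2 hℓ.out.ne_zero⟩
  obtain ⟨c, hc⟩ := IsSepClosed.exists_root (cyclotomic ℓ (ResidueField R))
    (degree_cyclotomic_pos ℓ _ hℓ.out.pos).ne' (separable_cyclotomic ℓ _)
  obtain ⟨b₀, rfl⟩ := residue_surjective c
  have hsep := separable_cyclotomic ℓ (ResidueField R)
  have hd : (cyclotomic ℓ (ResidueField R)).derivative.eval (residue R b₀) ≠ 0 :=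
    hsep.eval₂_derivative_ne_zero (RingHom.id _) hc
  rw [← map_cyclotomic ℓ (residue R)] at hc hd
  rw [derivative_map, Polynomial.eval_map, eval₂_at_apply] at hd
  rw [IsRoot, Polynomial.eval_map, eval₂_at_apply] at hc
  obtain ⟨b, hb, -⟩ := HenselianLocalRing.is_henselian (cyclotomic ℓ R) (cyclotomic.monic ℓ R) b₀
    ((residue_eq_zero_iff _).1 hc) (residue_ne_zero_iff_isUnit _ |>.1 hd)
  refine ⟨algebraMap R E b, isRoot_cyclotomic_iff.1 ?_⟩
  rw [← map_cyclotomic ℓ (algebraMap R E), IsRoot, Polynomial.eval_map, eval₂_at_apply, hb.eq_zero, map_zero]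

open Groth.Agent.CdLib in
theorem subsingleton_H2_const (E : Type u) [Field E] (hE : IsStrictField E) (ℓ : ℕ) [hℓ : Fact ℓ.Prime] :
    Subsingleton (EtCoh.H (Spec (CommRingCat.of E)) (EtCoh.const (Spec (CommRingCat.of E)) (ZMod ℓ)) 2) := by
  let X := Spec (CommRingCat.of E)
  let e : Γ(X, ⊤) ≅ CommRingCat.of E := Scheme.ΓSpecIso (CommRingCat.of E)
  obtain ⟨h, z, hz⟩ := exists_primitiveRoot E hE ℓ
  have hu : IsUnit (ℓ : Γ(X, ⊤)) := by
    have := (IsUnit.mk0 (ℓ : E) h).map e.inv.hom
    rwa [map_natCast] at this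
  haveI : NeZero ℓ := ⟨hℓ.out.ne_zero⟩
  have hroot : aeval z (cyclotomic ℓ ℤ) = 0 := by
    have := hz.isRoot_cyclotomic hℓ.out.pos
    rwa [← map_cyclotomic_int, IsRoot, Polynomial.eval_map] at this
  have hζ' : aeval (e.inv z) (cyclotomic ℓ ℤ) = 0 := by
    rw [show (e.inv z : Γ(X, ⊤)) = e.inv.hom.toIntAlgHom z from rfl, aeval_algHom_apply, hroot, map_zero]
  obtain ⟨i⟩ := EtLC12.MuConst.nonempty_mu_iso_const (X := X) (n := ℓ) hu (e.inv z) hζ'
  refine ExtVanish.ext_of_iso i _ 2 ?_
  haveI : Epi (EtCoh.powMap X ℓ) := S0108.result X ℓ hu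
  let T := ShortComplex.mk (EtCoh.muι X ℓ) (EtCoh.powMap X ℓ) (kernel.condition _)
  have hT : T.ShortExact := ShortComplex.ShortExact.mk'
    (ShortComplex.exact_of_f_is_kernel _ (kernelIsKernel _)) (inferInstanceAs (Mono (kernel.ι _))) this
  exact ExtVanish.ext₁ hT _ 1 (DixBrauer.FieldH1.subsingleton_H1_Gm E)
    (BrauerNorm.subsingleton_H2_Gm normClass E hE)

/-- `cd_ℓ ≤ 1`. -/
theorem cohDimLEAt_one (K : Type u) [Field K] (hK : IsStrictField K) (ℓ : ℕ) [Fact ℓ.Prime] :
    Dix.CohDimLEAt (Spec (CommRingCat.of K)) ℓ 1 :=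
  CdField.cohDimLEAt_one fun E _ _ _ _ => subsingleton_H2_const E (normClass.ext K E hK) ℓ

end Groth.Agent.DixBrauer.StrictDVR
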