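import Groth.Agent.TriCat.AcyclicObj
import Groth.Agent.DixBrauer.Kummer
import Mathlib.Algebra.Homology.DerivedCategory.Ext.EnoughInjectives
import Mathlib.Algebra.Homology.DerivedCategory.Ext.ExactSequences
import Mathlib.CategoryTheory.Abelian.Injective.Ext
import Mathlib.GroupTheory.OrderOfElement

/-!
Torsion in `Ext` groups: dimension shifting and direct images.
-/

universe w v v' u u'

set_option linter.style.haveILetI false

open CategoryTheory CategoryTheory.Limits CategoryTheory.Abelian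

namespace Groth.Agent.DixBrauer.TorsionAbstract

variable {A : Type u} [Category.{v} A] [Abelian A] [EnoughInjectives A] [HasExt.{w} A]

/-- Epimorphisms are surjective up to torsion on morphisms out of `Z`. -/
def TorsEpi (Z : A) : Prop :=
  ∀ {F G : A} (g : F ⟶ G) [Epi g] (φ : Ext.{w} Z G 0),
    ∃ N : ℕ, 0 < N ∧ ∃ ψ : Ext.{w} Z F 0, ψ.comp (Ext.mk₀ g) (add_zero 0) = N • φ

omit [EnoughInjectives A] in
theorem nsmul_comp {X Y W : A} {a b c : ℕ} (N : ℕ) (x : Ext.{w} X Y a) (y : Ext.{w} Y W b)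
    (h : a + b = c) : (N • x).comp y h = N • x.comp y h := by
  induction N with
  | zero => simp
  | succ N ih => rw [succ_nsmul, succ_nsmul, Ext.add_comp, ih]

omit [EnoughInjectives A] in
theorem comp_nsmul {X Y W : A} {a b c : ℕ} (N : ℕ) (x : Ext.{w} X Y a) (y : Ext.{w} Y W b)
    (h : a + b = c) : x.comp (N • y) h = N • x.comp y h := by
  induction N with
  | zero => simp
  | succ N ih => rw [succ_nsmul, succ_nsmul, Ext.comp_add, ih]

omit [EnoughInjectives A] in
theorem torsEpi_of_iso {Z Z' : A} (e : Z ≅ Z') (h : TorsEpi.{w} Z) : TorsEpi.{w} Z' := by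
  intro F G g _ φ
  obtain ⟨N, hN, ψ, hψ⟩ := h g ((Ext.mk₀ e.hom).comp φ (zero_add 0))
  refine ⟨N, hN, (Ext.mk₀ e.inv).comp ψ (zero_add 0), ?_⟩
  rw [Ext.comp_assoc_of_second_deg_zero, hψ, comp_nsmul, ← Ext.comp_assoc_of_second_deg_zero,
    Ext.mk₀_comp_mk₀, e.inv_hom_id, Ext.mk₀_id_comp]

/-- Positive degree cohomology is torsion. -/
theorem isOfFinAddOrder_ext {Z : A} (hZ : TorsEpi.{w} Z) :
    ∀ (q : ℕ) (G : A) (x : Ext.{w} Z G (q + 1)), IsOfFinAddOrder x := by
  intro q
  induction q with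
  | zero =>
    intro G x
    let Q := Classical.arbitrary (InjectivePresentation G)
    have hS := Q.shortExact_shortComplex
    haveI : Injective Q.shortComplex.X₂ := Q.injective
    haveI := hS.epi_g
    obtain ⟨y, rfl⟩ := Ext.covariant_sequence_exact₁ Z hS x (Ext.eq_zero_of_injective _) rfl
    obtain ⟨N, hN, ψ, hψ⟩ := hZ Q.shortComplex.g y
    refine isOfFinAddOrder_iff_nsmul_eq_zero.2 ⟨N, hN, ?_⟩
    rw [← nsmul_comp, ← hψ, Ext.comp_assoc_of_second_deg_zero, hS.comp_extClass, Ext.comp_zero]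
  | succ q ih =>
    intro G x
    let Q := Classical.arbitrary (InjectivePresentation G)
    have hS := Q.shortExact_shortComplex
    haveI : Injective Q.shortComplex.X₂ := Q.injective
    obtain ⟨y, rfl⟩ := Ext.covariant_sequence_exact₁ Z hS x (Ext.eq_zero_of_injective _) rfl
    obtain ⟨N, hN, h0⟩ := isOfFinAddOrder_iff_nsmul_eq_zero.1 (ih _ y)
    refine isOfFinAddOrder_iff_nsmul_eq_zero.2 ⟨N, hN, ?_⟩
    rw [← nsmul_comp, h0, Ext.zero_comp]

variable {B : Type u'} [Category.{v'} B] [Abelian B] [HasExt.{w} B]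
  {L : B ⥤ A} {R : A ⥤ B} [R.Additive] [PreservesFiniteLimits L]

omit [EnoughInjectives A] [PreservesFiniteLimits L] [HasExt.{w} A] [HasExt.{w} B] in
theorem homEquiv_symm_nsmul (adj : L ⊣ R) {Z : B} {X : A} (N : ℕ) (f : Z ⟶ R.obj X) :
    (adj.homEquiv Z X).symm (N • f) = N • (adj.homEquiv Z X).symm f := by
  haveI : L.Additive := adj.left_adjoint_additive
  simp only [Adjunction.homEquiv_counit, Functor.map_nsmul, Preadditive.nsmul_comp]

/-- Cohomology of a direct image is torsion in positive degrees, provided that the cohomology of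
the first derived direct images is torsion. -/
theorem isOfFinAddOrder_ext_right (adj : L ⊣ R) {Z : B} (hZ : TorsEpi.{w} (L.obj Z))
    (hR : ∀ (G : A) (a : ℕ) (x : Ext.{w} Z ((R.rightDerived 1).obj G) a), IsOfFinAddOrder x) :
    ∀ (q : ℕ) (G : A) (x : Ext.{w} Z (R.obj G) (q + 1)), IsOfFinAddOrder x := by
  haveI : R.IsRightAdjoint := adj.isRightAdjoint
  haveI : PreservesFiniteLimits R := inferInstance
  intro q
  induction q using Nat.strong_induction_on with
  | _ q ih =>
    intro G
    let Q := Classical.arbitrary (InjectivePresentation G)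
    have hS := Q.shortExact_shortComplex
    let S := Q.shortComplex
    have : Injective S.X₂ := Q.injective
    have : L.PreservesMonomorphisms := inferInstance
    have : Injective (R.obj S.X₂) := Injective.injective_of_adjoint adj _
    let := HasDerivedCategory.standard A
    let := HasDerivedCategory.standard B
    obtain ⟨δ, w₁, w₂, w₃, e₁, e₂, e₃⟩ := TriCat.exists_rightDerived_ses R hS 0
    have : Epi δ := e₃.epi_f ((R.isZero_rightDerived_obj_injective_succ 0 S.X₂).eq_of_tgt _ _)
    let d : R.obj S.X₃ ⟶ (R.rightDerived 1).obj S.X₁ :=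
      R.rightDerivedZeroIsoSelf.inv.app S.X₃ ≫ δ
    have hd : R.map S.g ≫ d = 0 := by
      rw [← Category.assoc, R.rightDerivedZeroIsoSelf.inv.naturality, Category.assoc, w₂, comp_zero]
    have hex : (ShortComplex.mk (R.map S.g) d hd).Exact := by
      let e : ShortComplex.mk ((R.rightDerived 0).map S.g) δ w₂ ≅ ShortComplex.mk (R.map S.g) d hd :=
        ShortComplex.isoMk (R.rightDerivedZeroIsoSelf.app S.X₂)
          (R.rightDerivedZeroIsoSelf.app S.X₃) (Iso.refl _)
          (R.rightDerivedZeroIsoSelf.hom.naturality S.g).symm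
          (((R.rightDerivedZeroIsoSelf.hom_inv_id_app_assoc _ _)).trans (Category.comp_id δ).symm)
      exact ShortComplex.exact_of_iso e e₂
    let t : R.obj S.X₂ ⟶ kernel d := kernel.lift d (R.map S.g) hd
    have : Epi t := (ShortComplex.exact_iff_epi_kernel_lift _).1 hex
    have wf : R.map S.f ≫ t = 0 := by
      rw [← cancel_mono (kernel.ι d), Category.assoc, kernel.lift_ι, ← R.map_comp, S.zero,
        R.map_zero, zero_comp]
    have hR' : (S.map R).Exact ∧ Mono (R.map S.f) := by
      have tf := (Functor.preservesFiniteLimits_tfae R).out 3 0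
      exact tf.1 (show PreservesFiniteLimits R from inferInstance) S hS
    let S₁ : ShortComplex B := ShortComplex.mk (R.map S.f) t wf
    have hS₁ : S₁.ShortExact := by
      have hm : Mono S₁.f := hR'.2
      refine ShortComplex.ShortExact.mk' ?_ hm ‹Epi t›
      let φ : S₁ ⟶ S.map R :=
        { τ₁ := 𝟙 _, τ₂ := 𝟙 _, τ₃ := kernel.ι d
          comm₁₂ := (Category.id_comp _).trans (Category.comp_id _).symm
          comm₂₃ := (Category.id_comp _).trans (kernel.lift_ι _ _ _).symm }
      have : Mono φ.τ₃ := inferInstanceAs (Mono (kernel.ι d))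
      have : IsIso φ.τ₂ := inferInstanceAs (IsIso (𝟙 _))
      have : Epi φ.τ₁ := inferInstanceAs (Epi (𝟙 _))
      exact (ShortComplex.exact_iff_of_epi_of_isIso_of_mono φ).2 hR'.1
    let S₂ : ShortComplex B := ShortComplex.mk (kernel.ι d) d (kernel.condition d)
    have hS₂ : S₂.ShortExact := by
      have : Epi d := epi_comp _ _
      exact ShortComplex.ShortExact.mk' (ShortComplex.exact_of_f_is_kernel _ (kernelIsKernel d))
        (inferInstanceAs (Mono (kernel.ι d))) this
    intro x
    have : Injective S₁.X₂ := ‹Injective (R.obj S.X₂)›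
    obtain ⟨y, rfl⟩ := Ext.covariant_sequence_exact₁ Z hS₁ x (Ext.eq_zero_of_injective _) rfl
    cases q with
    | zero =>
      obtain ⟨z, rfl⟩ := (Ext.mk₀_bijective _ _).2 y
      have := hS.epi_g
      let χ : L.obj Z ⟶ S.X₃ := (adj.homEquiv Z S.X₃).symm (z ≫ kernel.ι d)
      obtain ⟨N, hN, ψ, hψ⟩ := hZ S.g (Ext.mk₀ χ)
      obtain ⟨φ, rfl⟩ := (Ext.mk₀_bijective _ _).2 ψ
      have hN' : Ext.mk₀ (N • χ) = N • Ext.mk₀ χ := map_nsmul Ext.addEquiv₀.symm N χ
      rw [Ext.mk₀_comp_mk₀, ← hN'] at hψ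
      have hφ' : φ ≫ S.g = N • χ := (Ext.mk₀_bijective _ _).1 hψ
      have hz : N • z = adj.homEquiv Z S.X₂ φ ≫ t := by
        rw [← cancel_mono (kernel.ι d), Category.assoc, kernel.lift_ι,
          ← adj.homEquiv_naturality_right, hφ', ← homEquiv_symm_nsmul adj N,
          Equiv.apply_symm_apply, Preadditive.nsmul_comp]
      refine isOfFinAddOrder_iff_nsmul_eq_zero.2 ⟨N, hN, ?_⟩
      rw [← nsmul_comp]
      have hN'' : Ext.mk₀ (N • z) = N • Ext.mk₀ z := map_nsmul Ext.addEquiv₀.symm N z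
      rw [← hN'', hz, ← Ext.mk₀_comp_mk₀, Ext.comp_assoc_of_second_deg_zero]
      exact (congrArg (fun v => (Ext.mk₀ _).comp v _) hS₁.comp_extClass).trans
        (Ext.comp_zero _ _ _ _ _)
    | succ p =>
      obtain ⟨N, hN, h0⟩ := isOfFinAddOrder_iff_nsmul_eq_zero.1
        (ih p (by omega) S.X₃ (y.comp (Ext.mk₀ S₂.f) (add_zero _)))
      rw [← nsmul_comp] at h0
      obtain ⟨z, hz⟩ := Ext.covariant_sequence_exact₁ Z hS₂ _ h0 (rfl : p + 1 = p + 1)
      obtain ⟨M, hM, h1⟩ := isOfFinAddOrder_iff_nsmul_eq_zero.1 (hR _ _ z)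
      refine isOfFinAddOrder_iff_nsmul_eq_zero.2 ⟨M * N, Nat.mul_pos hM hN, ?_⟩
      rw [mul_nsmul', ← nsmul_comp, ← nsmul_comp, ← hz, ← nsmul_comp, h1, Ext.zero_comp,
        Ext.zero_comp]

end Groth.Agent.DixBrauer.TorsionAbstract
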