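import Groth.Agent.DixBrauer.GalCover
import Groth.Agent.DixBrauer.TorsionAbstract
import Groth.Agent.EtLC12.QcqsAcyclic
import Groth.Prelude.Def_EtCore
import Mathlib.CategoryTheory.Functor.OfSequence

/-!
Torsion in étale cohomology: cohomology of fields, higher direct images from a point and cohomology
of torsion sheaves on quasi-compact quasi-separated schemes.
-/

universe u

set_option linter.style.haveILetI false
set_option backward.isDefEq.respectTransparency.types false

open CategoryTheory CategoryTheory.Limits CategoryTheory.Abelian AlgebraicGeometry Opposite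

namespace Groth.Agent.DixBrauer.TorsionCoh

/-- The constant sheaf `ℤ`. -/
noncomputable abbrev Zsh (X : Scheme.{u}) : EtCoh.Ab X :=
  (constantSheaf X.smallEtaleTopology AddCommGrpCat.{u + 1}).obj (AddCommGrpCat.of (ULift ℤ))

theorem torsEpi_field (k : Type u) [Field k] :
    TorsionAbstract.TorsEpi.{u + 1} (Zsh (Spec (CommRingCat.of k))) := by
  intro F G g _ φ
  let X := Spec (CommRingCat.of k)
  let hT := EtFound.topIsTerminal X
  haveI : CompactSpace (EtCoh.top X).left := inferInstanceAs (CompactSpace X)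
  obtain ⟨N, hN, a, ha⟩ := GalCover.exists_lift_nsmul g (EtCoh.top X) (Sheaf.H.equiv₀ G hT φ)
  refine ⟨N, hN, (Sheaf.H.equiv₀ F hT).symm a, ?_⟩
  refine (Sheaf.H.equiv₀_symm_naturality hT g a).trans ?_
  rw [AddEquiv.symm_apply_eq, map_nsmul]
  exact ha

/-- Cohomology of fields is torsion in positive degrees. -/
theorem isOfFinAddOrder_field (k : Type u) [Field k] (F : EtCoh.Ab (Spec (CommRingCat.of k)))
    (q : ℕ) (x : EtCoh.H (Spec (CommRingCat.of k)) F (q + 1)) : IsOfFinAddOrder x :=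
  TorsionAbstract.isOfFinAddOrder_ext (torsEpi_field k) q F x

variable {X : Scheme.{u}}

/-- The tower `T →×1 T →×2 T → ⋯`. -/
noncomputable abbrev tower (T : EtCoh.Ab X) : ℕ ⥤ EtCoh.Ab X :=
  Functor.ofSequence (X := fun _ => T) fun n => (n + 1) • 𝟙 T

theorem tower_map (T : EtCoh.Ab X) (n N : ℕ) :
    (tower T).map (homOfLE (Nat.le_add_right n N)) = (n + 1).ascFactorial N • 𝟙 T := by
  induction N with
  | zero =>
    rw [Nat.ascFactorial_zero, one_smul]
    exact (tower T).map_id n
  | succ N ih =>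
    rw [show homOfLE (Nat.le_add_right n (N + 1)) =
      homOfLE (Nat.le_add_right n N) ≫ homOfLE (Nat.le_add_right (n + N) 1) from Subsingleton.elim _ _,
      Functor.map_comp, ih, Functor.ofSequence_map_homOfLE_succ]
    show ((n + 1).ascFactorial N • 𝟙 T : T ⟶ T) ≫ ((n + N + 1) • 𝟙 T : T ⟶ T) =
      ((n + 1).ascFactorial (N + 1) • 𝟙 T : T ⟶ T)
    rw [Kummer.nsmul_id_comp, ← mul_nsmul', Nat.ascFactorial_succ,
      show n + 1 + N = n + N + 1 by omega, mul_comm]

theorem app_nsmul {F G : EtCoh.Ab X} (φ : F ⟶ G) (N : ℕ) (U : X.Etale) (s : EtCoh.sect F U) :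
    (((N • φ : F ⟶ G)).hom.app (op U)).hom s = N • (φ.hom.app (op U)).hom s := by
  let Ev : (F ⟶ G) →+ EtCoh.sect G U :=
    AddMonoidHom.mk' (fun ψ => (ψ.hom.app (op U)).hom s) (fun _ _ => rfl)
  exact map_nsmul Ev N φ

theorem isZero_colimit_tower {T : EtCoh.Ab X} (hT : EtCoh.IsTorsion T)
    (c : Cocone (tower T)) (hc : IsColimit c) : IsZero c.pt := by
  rw [IsZero.iff_id_eq_zero]
  refine hc.hom_ext fun n => ?_
  rw [Category.comp_id, comp_zero]
  refine Sheaf.hom_ext (NatTrans.ext (funext fun U => AddCommGrpCat.hom_ext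
    (AddMonoidHom.ext fun s => GalCover.ext_of_local c.pt U.unop _ _ fun x => ?_)))
  obtain ⟨V, g, ⟨v, hv⟩, hs⟩ := hT U.unop s x
  obtain ⟨N, hN, hN0⟩ := isOfFinAddOrder_iff_nsmul_eq_zero.1 hs
  refine ⟨V, g, v, hv, ?_⟩
  obtain ⟨m, hm⟩ : N ∣ (n + 1).ascFactorial N :=
    (Nat.dvd_factorial hN le_rfl).trans (Nat.factorial_dvd_ascFactorial _ _)
  refine (GalCover.rs_nat (c.ι.app n) g s).trans ?_
  rw [← c.w (homOfLE (Nat.le_add_right n N)), tower_map, hm]
  refine Eq.trans ?_ (map_zero (GalCover.rs c.pt g)).symm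
  show ((c.ι.app (n + N)).hom.app (op V)).hom ((((N * m) • 𝟙 T : T ⟶ T).hom.app (op V)).hom _) = 0
  rw [app_nsmul, mul_comm, mul_nsmul']
  show ((c.ι.app (n + N)).hom.app (op V)).hom (m • (N • GalCover.rs T g s)) = 0
  rw [show N • GalCover.rs T g s = 0 from hN0, smul_zero]
  exact map_zero _

/-- Cohomology of torsion sheaves on quasi-compact quasi-separated schemes is torsion. -/
theorem isOfFinAddOrder_of_isTorsion [CompactSpace X] [QuasiSeparatedSpace X] {T : EtCoh.Ab X}
    (hT : EtCoh.IsTorsion T) (q : ℕ) (x : EtCoh.H X T q) : IsOfFinAddOrder x := by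
  haveI : IsFiltered (AsSmall.{u + 1} ℕ) := IsFiltered.of_equivalence AsSmall.equiv
  haveI := EtLC12.QcqsAcyclic.preservesColimitsOfShape_HF X q (AsSmall.{u + 1} ℕ)
  haveI : PreservesColimitsOfShape ℕ (EtCoh.HF X q) :=
    preservesColimitsOfShape_of_equiv (AsSmall.equiv : ℕ ≌ AsSmall.{u + 1} ℕ).symm _
  haveI : HasColimitsOfShape ℕ (EtCoh.Ab X) :=
    hasColimitsOfShape_of_equivalence (AsSmall.equiv : ℕ ≌ AsSmall.{u + 1} ℕ).symm
  have hz := isZero_colimit_tower hT _ (colimit.isColimit (tower T))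
  haveI : PreservesFilteredColimitsOfSize.{0, 0} (forget AddCommGrpCat.{u + 1}) :=
    preservesFilteredColimitsOfSize_of_univLE.{u + 1, u + 1, 0, 0} _
  haveI : PreservesColimitsOfShape ℕ (forget AddCommGrpCat.{u + 1}) :=
    PreservesFilteredColimitsOfSize.preserves_filtered_colimits ℕ
  let hc := isColimitOfPreserves (EtCoh.HF X q) (colimit.isColimit (tower T))
  have h0 : ((EtCoh.HF X q).map (colimit.ι (tower T) 0)).hom x =
      ((EtCoh.HF X q).map (colimit.ι (tower T) 0)).hom 0 := by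
    rw [hz.eq_of_tgt (colimit.ι (tower T) 0) 0]
    haveI : (EtCoh.HF X q).Additive := by unfold EtCoh.HF; infer_instance
    rw [Functor.map_zero, map_zero]
    rfl
  obtain ⟨j, a, b, hab⟩ := Concrete.isColimit_exists_of_rep_eq _ hc _ _ h0
  refine isOfFinAddOrder_iff_nsmul_eq_zero.2
    ⟨(0 + 1).ascFactorial j, Nat.ascFactorial_pos _ _, ?_⟩
  rw [← Kummer.comp_mk₀_nsmul_id]
  have key : ∀ (i m : ℕ) (_ : 0 + i = m) (f : 0 ⟶ m),
      (tower T).map f = ((0 + 1).ascFactorial i • 𝟙 T : T ⟶ T) := by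
    rintro i m rfl f
    rw [Subsingleton.elim f (homOfLE (Nat.le_add_right 0 i))]
    exact tower_map T 0 i
  rw [← key j j (Nat.zero_add j) b]
  exact hab.trans (map_zero ((EtCoh.HF X q).map ((tower T).map b)).hom)

section Point

variable {Y : Scheme.{u}} {k : Type u} [Field k] (f : Spec (CommRingCat.of k) ⟶ Y)

theorem torsEpi_pull :
    TorsionAbstract.TorsEpi.{u + 1} ((EtCoh.pull f).obj (Zsh Y)) :=
  TorsionAbstract.torsEpi_of_iso (EtCore.pullConst f ℤ).symm (torsEpi_field k)

theorem isTorsion_of_iso {F G : EtCoh.Ab Y} (e : F ≅ G) (h : EtCoh.IsTorsion F) : EtCoh.IsTorsion G := by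
  intro U s x
  obtain ⟨V, g, hv, hs⟩ := h U ((e.inv.hom.app (op U)).hom s) x
  refine ⟨V, g, hv, ?_⟩
  have := (e.hom.hom.app (op V)).hom.isOfFinAddOrder hs
  change IsOfFinAddOrder ((e.hom.hom.app (op V)).hom (GalCover.rs F g _)) at this
  rwa [GalCover.rs_nat e.inv g s, ← ConcreteCategory.comp_apply, ← NatTrans.comp_app,
    ← ObjectProperty.FullSubcategory.comp_hom, e.inv_hom_id] at this

theorem compactSpace_bc [QuasiSeparatedSpace Y] (V : Y.Etale) [IsAffine V.left] :
    CompactSpace ((EtCoh.bc f).obj V).left := by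
  let h : V.left ⟶ Y := V.hom
  haveI : QuasiCompact h := inferInstance
  haveI : QuasiCompact (pullback.snd h f) := MorphismProperty.pullback_snd _ _ inferInstance
  exact (quasiCompact_iff_compactSpace (pullback.snd h f)).1 inferInstance

/-- The first derived direct image from the spectrum of a field is torsion. -/
theorem isTorsion_rpush_one [QuasiSeparatedSpace Y] (F : EtCoh.Ab (Spec (CommRingCat.of k))) :
    EtCoh.IsTorsion ((EtCoh.Rpush f 1).obj F) := by
  let Q := Classical.arbitrary (InjectivePresentation F)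
  have hS := Q.shortExact_shortComplex
  haveI : Injective Q.shortComplex.X₂ := Q.injective
  haveI : Epi Q.shortComplex.g := hS.epi_g
  let R := EtCoh.push f
  haveI : R.IsRightAdjoint := (EtCoh.pullPushAdj f).isRightAdjoint
  haveI : PreservesFiniteLimits R := inferInstance
  let := HasDerivedCategory.standard (EtCoh.Ab (Spec (CommRingCat.of k)))
  let := HasDerivedCategory.standard (EtCoh.Ab Y)
  obtain ⟨δ, w₁, w₂, w₃, e₁, e₂, e₃⟩ := TriCat.exists_rightDerived_ses R hS 0
  haveI : Epi δ :=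
    e₃.epi_f ((R.isZero_rightDerived_obj_injective_succ 0 Q.shortComplex.X₂).eq_of_tgt _ _)
  let d : R.obj Q.shortComplex.X₃ ⟶ (R.rightDerived 1).obj F :=
    R.rightDerivedZeroIsoSelf.inv.app Q.shortComplex.X₃ ≫ δ
  haveI : Epi d := epi_comp _ _
  have hd : R.map Q.shortComplex.g ≫ d = 0 := by
    rw [← Category.assoc, R.rightDerivedZeroIsoSelf.inv.naturality, Category.assoc, w₂, comp_zero]
  intro V s x
  haveI : LocallySmall.{u + 1} Y.Etale := ⟨fun _ _ => inferInstance⟩
  have hloc : Presheaf.IsLocallySurjective Y.smallEtaleTopology d.hom :=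
    (Sheaf.isLocallySurjective_iff_epi' AddCommGrpCat.{u + 1} d).2 inferInstance
  obtain ⟨W, g, w, ⟨b, hb⟩, hw⟩ := (EtFound.mem_topology_iff _).1 (hloc.imageSieve_mem (U := V) s) x
  obtain ⟨A, j, hj, hjw, -⟩ := Scheme.exists_affine_mem_range_and_range_subset
    (x := w) (U := (⊤ : W.left.Opens)) (by simp)
  obtain ⟨a, ha⟩ := hjw
  haveI : AlgebraicGeometry.Etale (W.hom : W.left ⟶ Y) := W.prop
  let W' : Y.Etale := Scheme.Etale.mk (j ≫ (W.hom : W.left ⟶ Y))
  let i : W' ⟶ W := MorphismProperty.Over.homMk j rfl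
  haveI : IsAffine W'.left := inferInstanceAs (IsAffine (Spec A))
  haveI := compactSpace_bc f W'
  obtain ⟨N, hN, c, hc⟩ := GalCover.exists_lift_nsmul Q.shortComplex.g ((EtCoh.bc f).obj W')
    (GalCover.rs (R.obj Q.shortComplex.X₃) i b)
  refine ⟨W', i ≫ g, ⟨a, ?_⟩, isOfFinAddOrder_iff_nsmul_eq_zero.2 ⟨N, hN, ?_⟩⟩
  · show (j ≫ g.left).base a = x
    rw [Scheme.Hom.comp_apply]
    exact (congrArg g.left.base ha).trans hw
  · show N • GalCover.rs _ (i ≫ g) s = 0
    rw [← GalCover.rs_comp]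
    have h1 : GalCover.rs ((R.rightDerived 1).obj F) i (GalCover.rs _ g s) =
        (d.hom.app (op W')).hom (GalCover.rs (R.obj Q.shortComplex.X₃) i b) := by
      rw [← GalCover.rs_nat]
      exact congrArg _ hb.symm
    refine (congrArg (N • ·) h1).trans ?_
    rw [← map_nsmul]
    refine (congrArg _ hc.symm).trans ?_
    exact congrArg (fun t : R.obj Q.shortComplex.X₂ ⟶ (R.rightDerived 1).obj F =>
      (t.hom.app (op W')).hom c) hd

/-- Higher direct images from the spectrum of a field are torsion. -/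
theorem isTorsion_rpush [QuasiSeparatedSpace Y] : ∀ (q : ℕ) (F : EtCoh.Ab (Spec (CommRingCat.of k))),
    EtCoh.IsTorsion ((EtCoh.Rpush f (q + 1)).obj F) := by
  intro q
  induction q with
  | zero => exact isTorsion_rpush_one f
  | succ q ih =>
    intro F
    let Q := Classical.arbitrary (InjectivePresentation F)
    have hS := Q.shortExact_shortComplex
    haveI : Injective Q.shortComplex.X₂ := Q.injective
    let R := EtCoh.push f
    let := HasDerivedCategory.standard (EtCoh.Ab (Spec (CommRingCat.of k)))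
    let := HasDerivedCategory.standard (EtCoh.Ab Y)
    obtain ⟨δ, w₁, w₂, w₃, -, e₂, e₃⟩ := TriCat.exists_rightDerived_ses R hS (q + 1)
    haveI : Mono δ := e₂.mono_g
      ((R.isZero_rightDerived_obj_injective_succ q Q.shortComplex.X₂).eq_of_src _ _)
    haveI : Epi δ := e₃.epi_f
      ((R.isZero_rightDerived_obj_injective_succ (q + 1) Q.shortComplex.X₂).eq_of_tgt _ _)
    haveI : IsIso δ := isIso_of_mono_of_epi _
    exact isTorsion_of_iso (asIso δ) (ih _)

/-- Cohomology of a direct image from the spectrum of a field is torsion in positive degrees. -/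
theorem isOfFinAddOrder_push [CompactSpace Y] [QuasiSeparatedSpace Y]
    (F : EtCoh.Ab (Spec (CommRingCat.of k))) [PreservesFiniteLimits (EtCoh.pull f)] (q : ℕ)
    (x : EtCoh.H Y ((EtCoh.push f).obj F) (q + 1)) : IsOfFinAddOrder x :=
  TorsionAbstract.isOfFinAddOrder_ext_right (EtCoh.pullPushAdj f) (torsEpi_pull f)
    (fun G a y => isOfFinAddOrder_of_isTorsion (isTorsion_rpush_one f G) a y) q F x

end Point

end Groth.Agent.DixBrauer.TorsionCoh
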